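/-
A copy of Co3 times a central odd part containing the centraliser of an involution is the whole simple group:
the fixed point argument of Lib/Co3M12/Embed and End carried out modulo the odd part.
-/
import Cfsg.Agent.Lib.Co3M12.End

set_option autoImplicit false
set_option linter.style.haveILetI false
set_option maxRecDepth 100000
set_option maxHeartbeats 1000000
set_option linter.unusedSectionVars false

namespace CfsgLib.StdM12.Co3End

open Equiv Subgroup CfsgPC CfsgLib.Co3Recog CfsgLib.Co3Recog.Base CfsgLib.Co3Recog.Data CfsgLib.StdCo3.Data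
open CfsgLib.Co3M12.End hiding Emb
open CfsgLib.StdCo3.Model (R R_spec R_zero R_sq classify z_comm)
open CfsgLib.Co3Recog.X (Fx eqX z s num num_eq num_conj bases_lt' xe xe_spec qx qx_spec qx_class)

attribute [local irreducible] Data.mLetters Data.mChain xGens xInv xChain sChain zC sC uC repIx orb orbPar orbNext orbWords
  c8 c16 oneX threeX twoX oneCert threeCert twoCert qsList

variable {G : Type*} [Group G]

theorem not_comm : ¬ ∀ a b : M.Grp, a * b = b * a := by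
  haveI := M.equiv_co3.2
  obtain ⟨ht1, htt, -⟩ := M.basic
  intro hall
  have hn : (zpowers M.tm).Normal := ⟨fun x hx y => by rwa [hall y x, mul_inv_cancel_right]⟩
  rcases hn.eq_bot_or_eq_top with e | e
  · exact ht1 (mem_bot.mp (e ▸ mem_zpowers M.tm))
  · have h1 := M.cent_u.1
    rw [show centralizer ({M.um} : Set M.Grp) = ⊤ from
        eq_top_iff.mpr fun y _ => mem_centralizer_singleton_iff.mpr (hall y M.um),
      card_top, ← card_top, ← e, Nat.card_zpowers, orderOf_eq_prime (p := 2) (by rw [sq, htt]) ht1] at h1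
    omega

theorem center_trivial {x : M.Grp} (h : ∀ y, y * x = x * y) : x = 1 := by
  haveI := M.equiv_co3.2
  exact mem_bot.mp ((inferInstance : (center M.Grp).Normal).eq_bot_or_eq_top.resolve_right
    (fun e => not_comm fun a b => mem_center_iff.mp (e ▸ mem_top b) a) ▸ mem_center_iff.mpr h)

/-- The hypotheses on a copy and the odd part. -/
structure Emb (G : Type*) [Group G] where
  /-- the map -/
  Φ : M.Grp →* G
  inj : Function.Injective Φ
  /-- the odd part -/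
  W : Subgroup G
  oddW : Odd (Nat.card W)
  comm : ∀ m : M.Grp, ∀ w ∈ W, Φ m * w = w * Φ m
  cent_u : ∀ g, Commute g (Φ M.um) → ∃ m, ∃ w ∈ W, g = Φ m * w
  not_conj : ¬ IsConj (Φ M.um) (Φ M.tm)

variable (E : Emb G)

/-- The copy with the odd part. -/
def Emb.Rg : Subgroup G where
  carrier := {g | ∃ m, ∃ w ∈ E.W, g = E.Φ m * w}
  one_mem' := ⟨1, 1, one_mem _, by rw [map_one, mul_one]⟩
  mul_mem' := by
    rintro _ _ ⟨m, w, hw, rfl⟩ ⟨m', w', hw', rfl⟩
    exact ⟨m * m', w * w', mul_mem hw hw', by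
      rw [map_mul, mul_assoc (E.Φ m), ← mul_assoc w, ← E.comm m' w hw]; group⟩
  inv_mem' := by
    rintro _ ⟨m, w, hw, rfl⟩
    exact ⟨m⁻¹, w⁻¹, inv_mem hw, by rw [mul_inv_rev, E.comm m⁻¹ w⁻¹ (inv_mem hw), map_inv]⟩

theorem Emb.Φ_mem (m : M.Grp) : E.Φ m ∈ E.Rg := ⟨m, 1, one_mem _, (mul_one _).symm⟩

theorem Emb.W_mem {w : G} (h : w ∈ E.W) : w ∈ E.Rg := ⟨1, w, h, by rw [map_one, one_mul]⟩

/-- The odd part meets the copy trivially. -/
theorem Emb.disjoint {m : M.Grp} (h : E.Φ m ∈ E.W) : m = 1 :=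
  center_trivial fun y => E.inj (by rw [map_mul, map_mul]; exact E.comm y _ h)

theorem Emb.decomp_unique {m m' : M.Grp} {w w' : G} (hw : w ∈ E.W) (hw' : w' ∈ E.W)
    (h : E.Φ m * w = E.Φ m' * w') : m = m' ∧ w = w' := by
  have e : m = m' := by
    refine inv_mul_eq_one.mp (E.disjoint ?_) |>.symm
    rw [map_mul, map_inv]
    exact (show (E.Φ m')⁻¹ * E.Φ m = w' * w⁻¹ by
      rw [show E.Φ m = E.Φ m' * w' * w⁻¹ from eq_mul_inv_of_mul_eq h]; group) ▸ mul_mem hw' (inv_mem hw)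
  subst e
  exact ⟨rfl, mul_left_cancel h⟩

theorem Emb.eq_one_of_pow {w : G} (hw : w ∈ E.W) {k : ℕ} (h : w ^ 2 ^ k = 1) : w = 1 := by
  refine orderOf_eq_one_iff.mp (Nat.eq_one_of_dvd_coprimes
    (Nat.Coprime.pow_left k (Nat.coprime_two_left.mpr E.oddW)) ?_ ?_)
  · exact orderOf_dvd_of_pow_eq_one h
  · exact Subgroup.orderOf_dvd_natCard _ hw

/-- Two-elements of the product lie in the copy. -/
theorem Emb.two_mem {g : G} (hg : g ∈ E.Rg) {k : ℕ} (h : g ^ 2 ^ k = 1) : g ∈ E.Φ.range := by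
  obtain ⟨m, w, hw, rfl⟩ := hg
  rw [(show Commute (E.Φ m) w from E.comm m w hw).mul_pow, ← map_pow] at h
  have h1 := E.decomp_unique (m' := 1) (pow_mem hw _) (one_mem _) (h.trans (by rw [map_one, mul_one]))
  rw [E.eq_one_of_pow hw h1.2, mul_one]
  exact ⟨m, rfl⟩

/-- The double cover inside the copy. -/
noncomputable def Emb.ι : X.Grp →* G := E.Φ.comp M.fcut

/-- The fused involution. -/
noncomputable def Emb.T : G := E.ι z

theorem Emb.T_eq : E.T = E.Φ M.tm := rfl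

theorem Emb.ι_inj : Function.Injective E.ι := E.inj.comp M.fcut_inj

theorem Emb.ι_mem (x : X.Grp) : E.ι x ∈ E.Rg := E.Φ_mem _

theorem Emb.ι_comm (x : X.Grp) {w : G} (hw : w ∈ E.W) : Commute (E.ι x) w := E.comm _ w hw

theorem Emb.comm_T (x : X.Grp) : Commute (E.ι x) E.T := ((z_comm x).symm.map E.ι)

theorem Emb.mem_X {g : G} (hg : g ∈ E.Φ.range) (hT : Commute g E.T) : ∃ x, E.ι x = g := by
  obtain ⟨m, rfl⟩ := hg
  obtain ⟨x, hx⟩ := CfsgLib.Co3M12.cent_tm (m := m) (E.inj (by rw [map_mul, map_mul]; exact hT.eq))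
  exact ⟨x, congrArg E.Φ hx⟩

theorem Emb.mem_RX {g : G} (hg : g ∈ E.Rg) (hT : Commute g E.T) : ∃ x, ∃ w ∈ E.W, g = E.ι x * w := by
  obtain ⟨m, w, hw, rfl⟩ := hg
  have hm : Commute (E.Φ m) E.T := by
    have h := hT.mul_left (E.ι_comm z hw).symm.inv_left
    rwa [mul_inv_cancel_right] at h
  obtain ⟨x, hx⟩ := E.mem_X ⟨m, rfl⟩ hm
  exact ⟨x, w, hw, by rw [hx]⟩

/-- An involution of small class fixes one coset. -/
theorem Emb.z_fix {x : X.Grp} (hx : x * x = 1) (hn : num x = 12) {g : G}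
    (h : g⁻¹ * E.ι x * g ∈ E.Rg) : g ∈ E.Rg := by
  obtain ⟨m, hm⟩ := E.two_mem h (k := 1) (by
    rw [pow_one, sq, show g⁻¹ * E.ι x * g * (g⁻¹ * E.ι x * g) = g⁻¹ * (E.ι x * E.ι x) * g by group, ← map_mul, hx,
      map_one]
    group)
  have hu : IsConj M.um (M.fcut x) :=
    M.conj_u_of_fix (by rw [← map_mul, hx, map_one]) ((M.fcut_num x).trans hn)
  have hx1 : x ≠ 1 := fun e => by rw [e, num_one] at hn; omega
  have hconj : IsConj (E.ι x) (E.Φ m) := isConj_iff.mpr ⟨g⁻¹, by rw [inv_inv, hm]⟩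
  have hm2 : m * m = 1 := E.inj (by
    rw [map_mul, map_one, hm, show g⁻¹ * E.ι x * g * (g⁻¹ * E.ι x * g) = g⁻¹ * (E.ι x * E.ι x) * g by group,
      ← map_mul, hx, map_one]
    group)
  have hm1 : m ≠ 1 := fun e => by
    rw [e, map_one] at hconj
    exact hx1 (E.ι_inj ((isConj_one_left.mp hconj).trans (map_one _).symm))
  rcases M.invol_class hm2 hm1 with h' | h'
  · exact absurd ((E.Φ.map_isConj hu).trans (hconj.trans (E.Φ.map_isConj h').symm)) E.not_conj
  · obtain ⟨a, ha⟩ := isConj_iff.mp hu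
    obtain ⟨b, hb⟩ := isConj_iff.mp h'
    have hk : Commute ((E.Φ a)⁻¹ * g * E.Φ b) (E.Φ M.um) := by
      show _ = _
      have e1 : E.Φ b * E.Φ M.um = E.Φ m * E.Φ b := by
        rw [← map_mul, ← map_mul, ← hb]; congr 1; group
      have e2 : (E.Φ a)⁻¹ * E.ι x = E.Φ M.um * (E.Φ a)⁻¹ := by
        show (E.Φ a)⁻¹ * E.Φ (M.fcut x) = _
        rw [← map_inv, ← map_mul, ← map_mul, ← ha]; congr 1; group
      calc (E.Φ a)⁻¹ * g * E.Φ b * E.Φ M.um = (E.Φ a)⁻¹ * g * (E.Φ b * E.Φ M.um) := by group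
        _ = (E.Φ a)⁻¹ * g * (g⁻¹ * E.ι x * g * E.Φ b) := by rw [e1, hm]
        _ = (E.Φ a)⁻¹ * E.ι x * (g * E.Φ b) := by group
        _ = _ := by rw [e2]; group
    have h3 := mul_mem (mul_mem (E.Φ_mem a) (E.cent_u _ hk)) (inv_mem (E.Φ_mem b))
    rwa [show E.Φ a * ((E.Φ a)⁻¹ * g * E.Φ b) * (E.Φ b)⁻¹ = g by group] at h3

/-- The centraliser of the fused involution and an element of a class lies in the copy. -/
def Emb.Good (a : X.Grp) : Prop := ∀ g, Commute g E.T → Commute g (E.ι a) → g ∈ E.Rg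

theorem Emb.good_one {a : X.Grp} (ha : a * a = 1) (hn : num a = 12) : E.Good a := fun g _ hga =>
  E.z_fix ha hn (by rw [mul_assoc, ← hga.eq, inv_mul_cancel_left]; exact E.ι_mem a)

theorem Emb.good_conj {a b : X.Grp} (h : IsConj a b) (hG : E.Good a) : E.Good b := fun g hT hb => by
  obtain ⟨c, rfl⟩ := isConj_iff.mp h
  have h1 : Commute ((E.ι c)⁻¹ * g * E.ι c) E.T :=
    ((E.comm_T c).inv_left.mul_left hT).mul_left (E.comm_T c)
  have h2 : Commute ((E.ι c)⁻¹ * g * E.ι c) (E.ι a) := by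
    have h3 := hb.map (MulAut.conj (E.ι c)⁻¹).toMonoidHom
    simp only [MulEquiv.coe_toMonoidHom, MulAut.conj_apply, inv_inv] at h3
    rwa [map_mul, map_mul, map_inv, show (E.ι c)⁻¹ * (E.ι c * E.ι a * (E.ι c)⁻¹) * E.ι c = E.ι a by group] at h3
  have := mul_mem (mul_mem (E.ι_mem c) (hG _ h1 h2)) (inv_mem (E.ι_mem c))
  rwa [show E.ι c * ((E.ι c)⁻¹ * g * E.ι c) * (E.ι c)⁻¹ = g by group] at this

/-- The fixed point argument. -/
theorem Emb.node [Finite G] {a x e : X.Grp} (hxa : Commute x a) (hea : Commute e a) (hx : x * x = 1)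
    (hn : num x = 12) (he : e * e = 1 ∨ e * e = z)
    (He : ∀ g, Commute g E.T → Commute g (E.ι a) → g⁻¹ * E.ι e * g ∈ E.Rg → g ∈ E.Rg)
    (Hq : ∀ c, Commute c a → ∀ k : ℕ,
      ((x * (c * e * c⁻¹)) ^ 2 ^ k = 1 ∨ (x * (c * e * c⁻¹)) ^ 2 ^ k = z) →
      ∀ g, Commute g E.T → Commute g (E.ι a) → Commute g (E.ι (x * (c * e * c⁻¹))) → g ∈ E.Rg) :
    E.Good a := by
  intro g hgT hga
  set S : Subgroup G := E.Rg.comap (MulAut.conj g⁻¹).toMonoidHom with hS
  have memS : ∀ h, h ∈ S ↔ g⁻¹ * h * g ∈ E.Rg := fun h => by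
    simp [hS, Subgroup.mem_comap]
  set y := g * E.ι x * g⁻¹ with hy
  set Q := E.ι e with hQ
  set d := y * Q with hd
  have hTa : Commute E.T (E.ι a) := (E.comm_T a).symm
  have hyT : Commute y E.T := (hgT.mul_left (E.comm_T x)).mul_left hgT.inv_left
  have hya : Commute y (E.ι a) := (hga.mul_left (hxa.map E.ι)).mul_left hga.inv_left
  have hQT : Commute Q E.T := E.comm_T e
  have hQa : Commute Q (E.ι a) := hea.map E.ι
  have hyy : y * y = 1 := by
    rw [hy, show g * E.ι x * g⁻¹ * (g * E.ι x * g⁻¹) = g * (E.ι x * E.ι x) * g⁻¹ by group, ← map_mul, hx,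
      map_one]
    group
  have hyi : y⁻¹ = y := inv_eq_of_mul_eq_one_right hyy
  have hTg : g⁻¹ * E.T * g = E.T := by rw [mul_assoc, ← hgT.eq, inv_mul_cancel_left]
  have hTS : E.T ∈ S := (memS _).mpr (by rw [hTg]; exact E.ι_mem z)
  have hyS : y ∈ S := (memS _).mpr (by rw [hy, show g⁻¹ * (g * E.ι x * g⁻¹) * g = E.ι x by group]; exact E.ι_mem x)
  have hfix : ∀ v, v⁻¹ * y * v ∈ S → v ∈ S := fun v hv => (memS v).mpr (E.z_fix hx hn (by
    have h1 := (memS _).mp hv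
    rwa [hy, show g⁻¹ * (v⁻¹ * (g * E.ι x * g⁻¹) * v) * g = (g⁻¹ * v * g)⁻¹ * E.ι x * (g⁻¹ * v * g) by group] at h1))
  set τ := Q * Q with hτ
  have hτ2 : τ = 1 ∨ τ = E.T := by
    rcases he with h | h
    · left; rw [hτ, hQ, ← map_mul, h, map_one]
    · right; rw [hτ, hQ, ← map_mul, h]; rfl
  have hτc : ∀ w, Commute w E.T → Commute w τ := fun w hw => by
    rcases hτ2 with h | h <;> rw [h]
    · exact Commute.one_right w
    · exact hw
  have hτS : τ ∈ S := by
    rcases hτ2 with h | h <;> rw [h]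
    exacts [one_mem _, hTS]
  have hdT : Commute d E.T := hyT.mul_left hQT
  have hda : Commute d (E.ι a) := hya.mul_left hQa
  -- how `y` inverts the powers of `d`
  clear_value y Q d τ
  have hinv1 : MulAut.conj y d = τ * d⁻¹ := by
    rw [MulAut.conj_apply, hd, hτ, mul_inv_rev, hyi]
    calc y * (y * Q) * y = y * y * Q * y := by group
      _ = Q * y := by rw [hyy, one_mul]
      _ = _ := by group
  obtain ⟨A, o, ho, hm⟩ := Nat.exists_eq_two_pow_mul_odd (orderOf_pos d).ne'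
  obtain ⟨i, hi⟩ := ho
  have hinvp : ∀ n : ℕ, MulAut.conj y (d ^ n) = τ ^ n * (d ^ n)⁻¹ := fun n => by
    rw [map_pow, hinv1, ((hτc d hdT).symm.inv_right).mul_pow, inv_pow]
  set q' := d ^ (2 * i + 1) * (τ ^ i)⁻¹ with hq'
  have hstep : d⁻¹ * Q * d = τ⁻¹ * Q * (d * d) := by
    rw [hd, hτ, mul_inv_rev, hyi, mul_inv_rev]
    calc Q⁻¹ * y * Q * (y * Q) = Q⁻¹ * (Q⁻¹ * Q) * y * Q * (y * Q) := by group
      _ = _ := by group
  have hstepn : ∀ n : ℕ, (d ^ n)⁻¹ * Q * d ^ n = (τ ^ n)⁻¹ * Q * d ^ (2 * n) := by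
    intro n
    induction n with
    | zero => simp
    | succ n ih =>
      calc (d ^ (n + 1))⁻¹ * Q * d ^ (n + 1) = d⁻¹ * ((d ^ n)⁻¹ * Q * d ^ n) * d := by rw [pow_succ]; group
        _ = d⁻¹ * (τ ^ n)⁻¹ * Q * d ^ (2 * n) * d := by rw [ih]; group
        _ = (τ ^ n)⁻¹ * (d⁻¹ * Q * d) * d ^ (2 * n) := by
          rw [((hτc d hdT).inv_left.pow_right n).inv_right.eq]; group
        _ = (τ ^ n)⁻¹ * (τ⁻¹ * Q * (d * d)) * d ^ (2 * n) := by rw [hstep]
        _ = _ := by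
          rw [show 2 * (n + 1) = 2 + 2 * n by ring, pow_add d 2 (2 * n), pow_two, pow_succ' τ n, mul_inv_rev]; group
  set Qi := (d ^ i)⁻¹ * Q * d ^ i with hQi
  have hq'' : q' = y * Qi := by
    have c1 : Commute (τ ^ i)⁻¹ d := ((hτc d hdT).symm.pow_left i).inv_left
    have c2 : Commute (τ ^ i)⁻¹ y := ((hτc y hyT).symm.pow_left i).inv_left
    rw [hQi, hstepn, hq']
    calc d ^ (2 * i + 1) * (τ ^ i)⁻¹ = (τ ^ i)⁻¹ * d ^ (2 * i + 1) := (c1.pow_right _).eq.symm
      _ = (τ ^ i)⁻¹ * y * Q * d ^ (2 * i) := by rw [pow_succ', show d * d ^ (2 * i) = y * Q * d ^ (2 * i) by rw [← hd]]; simp only [mul_assoc]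
      _ = y * (τ ^ i)⁻¹ * Q * d ^ (2 * i) := by rw [c2.eq]
      _ = _ := by group
  have hpow : ∀ j : ℕ, q' ^ j = d ^ ((2 * i + 1) * j) * ((τ ^ i)⁻¹) ^ j := fun j => by
    rw [hq', (((hτc d hdT).pow_right i).inv_right.pow_left _).mul_pow, ← pow_mul]
  have hend : q' ^ 2 ^ A = 1 ∨ q' ^ 2 ^ A = E.T := by
    rw [hpow, show (2 * i + 1) * 2 ^ A = orderOf d by rw [hm, hi, mul_comm], pow_orderOf_eq_one, one_mul]
    have hTT : E.T * E.T = 1 := by rw [Emb.T, ← map_mul, z_ne.2, map_one]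
    rcases hτ2 with h | h <;> rw [h]
    · left; simp
    · rw [← inv_pow, inv_eq_of_mul_eq_one_right hTT, ← pow_mul]
      rcases Nat.even_or_odd (i * 2 ^ A) with ⟨w, hw⟩ | ⟨w, hw⟩
      · left; rw [hw, ← two_mul, pow_mul, sq, hTT, one_pow]
      · right; rw [hw, pow_succ, pow_mul, sq, hTT, one_pow, one_mul]
  have hq'S : q' ∈ S := by
    have key : ∀ j ≤ A, q' ^ 2 ^ (A - j) ∈ S := by
      intro j
      induction j with
      | zero =>
        intro _
        rcases hend with h | h <;> rw [Nat.sub_zero, h]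
        exacts [one_mem _, hTS]
      | succ j ih =>
        intro hj
        have hsq := ih (by omega)
        set v := q' ^ 2 ^ (A - (j + 1)) with hv
        rw [show A - j = A - (j + 1) + 1 by omega, pow_succ, pow_mul, ← hv, sq] at hsq
        refine hfix v ?_
        obtain ⟨σ, hσ, hσS, hσc⟩ : ∃ σ, MulAut.conj y v = σ * v⁻¹ ∧ σ ∈ S ∧ Commute σ v := by
          refine ⟨τ ^ ((2 * i + 1) * 2 ^ (A - (j + 1))) * ((τ ^ i)⁻¹ ^ 2 ^ (A - (j + 1))) ^ 2, ?_,
            mul_mem (pow_mem hτS _) (pow_mem (pow_mem (inv_mem (pow_mem hτS _)) _) _), ?_⟩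
          · rw [hv, hpow, map_mul, hinvp, map_pow (MulAut.conj y) ((τ ^ i)⁻¹), map_inv, map_pow,
              show MulAut.conj y τ = τ by rw [MulAut.conj_apply, (hτc y hyT).eq, mul_inv_cancel_right], mul_inv_rev]
            set P := d ^ ((2 * i + 1) * 2 ^ (A - (j + 1)))
            set W := (τ ^ i)⁻¹ ^ 2 ^ (A - (j + 1))
            set V := τ ^ ((2 * i + 1) * 2 ^ (A - (j + 1)))
            have hPW : Commute P⁻¹ W :=
              ((((hτc d hdT).pow_right i).inv_right.pow_right _).pow_left _).inv_left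
            rw [show V * W ^ 2 * (W⁻¹ * P⁻¹) = V * (W * P⁻¹) by rw [sq]; group, ← hPW.eq, ← mul_assoc]
          · have hτd : Commute τ q' := by
              rw [hq']
              exact ((hτc d hdT).symm.pow_right _).mul_right (((Commute.refl τ).pow_right i).inv_right)
            exact ((hτd.pow_left _).mul_left (((hτd.pow_left i).inv_left.pow_left _).pow_left _)).pow_right _
        have e : v⁻¹ * y * v = (v * v)⁻¹ * σ⁻¹ * σ * (v * y * v * y⁻¹) * y := by group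
        have hyvy : y * v * y⁻¹ = σ * v⁻¹ := by rw [← MulAut.conj_apply, hσ]
        have e2 : v⁻¹ * y * v = v⁻¹ * σ * v⁻¹ * y := by
          calc v⁻¹ * y * v = v⁻¹ * (y * v * y⁻¹) * y := by group
            _ = _ := by rw [hyvy]; group
        rw [e2, show v⁻¹ * σ * v⁻¹ = σ * (v * v)⁻¹ by rw [← hσc.inv_right.eq]; group]
        exact mul_mem (mul_mem hσS (inv_mem hsq)) hyS
    simpa using key A le_rfl
  have hQiS : Qi ∈ S := by
    have : Qi = y⁻¹ * q' := by rw [hq'', inv_mul_cancel_left]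
    rw [this]; exact mul_mem (inv_mem hyS) hq'S
  have hg1 : d ^ i * g ∈ E.Rg := He _ ((hdT.pow_left i).mul_left hgT) ((hda.pow_left i).mul_left hga) (by
    have := (memS _).mp hQiS
    rwa [hQi, show g⁻¹ * ((d ^ i)⁻¹ * Q * d ^ i) * g = (d ^ i * g)⁻¹ * Q * (d ^ i * g) by group] at this)
  obtain ⟨c, w, hw, hcw⟩ := E.mem_RX hg1 ((hdT.pow_left i).mul_left hgT)
  have hc : E.ι c = d ^ i * g * w⁻¹ := eq_mul_inv_of_mul_eq hcw.symm
  have hwc : ∀ v : X.Grp, w⁻¹ * E.ι v * w = E.ι v := fun v => by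
    rw [mul_assoc, (E.ι_comm v hw).eq, inv_mul_cancel_left]
  have hca : Commute c⁻¹ a := by
    refine Commute.inv_left ?_
    refine E.ι_inj ?_
    rw [map_mul, map_mul, hc]
    exact (((hda.pow_left i).mul_left hga).mul_left (E.ι_comm a hw).symm.inv_left).eq
  have hqe : g⁻¹ * q' * g = E.ι (x * (c⁻¹ * e * c⁻¹⁻¹)) := by
    rw [map_mul, ← hwc (c⁻¹ * e * c⁻¹⁻¹), inv_inv, map_mul, map_mul, map_inv, hc, hq'', hQi, hy, ← hQ]
    group
  have hk : (x * (c⁻¹ * e * c⁻¹⁻¹)) ^ 2 ^ A = 1 ∨ (x * (c⁻¹ * e * c⁻¹⁻¹)) ^ 2 ^ A = z := by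
    have e1 : E.ι ((x * (c⁻¹ * e * c⁻¹⁻¹)) ^ 2 ^ A) = g⁻¹ * q' ^ 2 ^ A * g := by
      rw [map_pow, ← hqe]
      exact (by simpa [MulAut.conj_apply] using (map_pow (MulAut.conj g⁻¹) q' (2 ^ A)).symm)
    rcases hend with h | h <;> rw [h] at e1
    · left; refine E.ι_inj (e1.trans ?_); rw [map_one]; group
    · right; exact E.ι_inj (e1.trans hTg)
  have hdS : d ∈ S := by
    have hd' : Commute (g⁻¹ * d * g) (g⁻¹ * q' * g) := by
      have := (show Commute d q' from (((Commute.refl d).pow_right (2 * i + 1)).mul_right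
        (((hτc d hdT).pow_right i).inv_right)))
      have h2 := this.map (MulAut.conj g⁻¹).toMonoidHom
      simpa [MulAut.conj_apply] using h2
    exact (memS _).mpr (Hq _ hca A hk _ ((hgT.inv_left.mul_left hdT).mul_left hgT)
      ((hga.inv_left.mul_left hda).mul_left hga) (hqe ▸ hd'))
  refine He g hgT hga ((memS _).mp ?_)
  have : Q = y⁻¹ * d := by rw [hd, inv_mul_cancel_left]
  show Q ∈ S
  rw [this]
  exact mul_mem (inv_mem hyS) hdS

variable [Finite G]

/-- A node described by a list of conjugates. -/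
theorem Emb.node_list {x a k0 : X.Grp} {xc ac aic k0c : ℕ} (hxF : Fx (ap xc) x) (haF : Fx (ap ac) a)
    (haiF : Fx (ap aic) a⁻¹) (hk0 : Fx (ap k0c) k0) (hxa : Commute x a) (hx : x * x = 1) (hn : num x = 12)
    {tgt : ℕ → ℕ} {τ : X.Grp} (htgt : Fx tgt τ) (hτ : τ = 1 ∨ τ = z) {fx : ℕ}
    (hcand : candB k0c ac aic tgt fx = true)
    (He : ∀ g, Commute g E.T → Commute g (E.ι a) → g⁻¹ * E.ι (k0 * a⁻¹) * g ∈ E.Rg → g ∈ E.Rg)
    {ks : List ℕ} {len : ℕ} (hks : ∀ c, Commute c a → ∃ i < len, Fx (ap (ks.getD i 0)) (c * k0 * c⁻¹))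
    {cert : List ℕ} (hall : ∀ i < len, candB (ks.getD i 0) ac aic tgt fx = true →
      ∀ b : X.Grp, Fx (bF' xc (ks.getD i 0) aic ac (cert.getD i 0)) b → E.Good b) :
    E.Good a := by
  simp only [CfsgLib.Co3M12.End.candB, Bool.and_eq_true] at hcand
  obtain ⟨⟨hc1, hc2⟩, hc3⟩ := hcand
  have hka : Commute k0 a := comm_of_commB hk0 haF hc1
  have hy : Fx (yF k0c aic) (k0 * a⁻¹) := hk0.mul haiF
  have hy2 : (k0 * a⁻¹) * (k0 * a⁻¹) = τ := eqX hc2 (hy.mul hy) htgt
  have hea : Commute (k0 * a⁻¹) a := hka.mul_left (Commute.refl a).inv_left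
  refine E.node hxa hea hx hn (hy2 ▸ hτ) He fun c hca k _ g hT hga hgq => ?_
  obtain ⟨i, hi, hF⟩ := hks c hca
  have e1 : c * (k0 * a⁻¹) * c⁻¹ = c * k0 * c⁻¹ * a⁻¹ := by
    rw [show c * (k0 * a⁻¹) * c⁻¹ = c * k0 * c⁻¹ * (c * a⁻¹ * c⁻¹) by group, hca.inv_right.eq, mul_inv_cancel_right]
  have hyi : Fx (yF (ks.getD i 0) aic) (c * k0 * c⁻¹ * a⁻¹) := hF.mul haiF
  have hc : candB (ks.getD i 0) ac aic tgt fx = true := by
    simp only [CfsgLib.Co3M12.End.candB, Bool.and_eq_true]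
    refine ⟨⟨?_, ?_⟩, ?_⟩
    · exact (X.eqB_iff (hF.mul haF) (haF.mul hF)).mpr ((hca.mul_left hka).mul_left hca.inv_left).eq
    · refine (X.eqB_iff (hyi.mul hyi) htgt).mpr ?_
      rw [← e1, show c * (k0 * a⁻¹) * c⁻¹ * (c * (k0 * a⁻¹) * c⁻¹) = c * ((k0 * a⁻¹) * (k0 * a⁻¹)) * c⁻¹ by group,
        hy2]
      rcases hτ with h | h <;> rw [h]
      · group
      · rw [← (z_comm c).eq, mul_inv_cancel_right]
    · rw [num_eq hyi, num_conj (isConj_iff.mpr ⟨c, e1⟩ : IsConj (k0 * a⁻¹) _), ← num_eq hy]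
      exact hc3
  obtain ⟨b, hb, hbc⟩ := named hxF hF haF haiF (cert.getD i 0)
  refine hall i hi hc b hb g hT (hbc E.ι g hT hga ?_)
  rw [← e1]; exact hgq

theorem Emb.he_involution {e : X.Grp} (he : e * e = 1) (hn : num e = 12) {g : G}
    (h : g⁻¹ * E.ι e * g ∈ E.Rg) : g ∈ E.Rg := E.z_fix he hn h

theorem Emb.moved {e : X.Grp} (he : e * e = 1 ∨ e * e = z) {g : G} (hT : Commute g E.T)
    (h : g⁻¹ * E.ι e * g ∈ E.Rg) : ∃ w, E.ι w = g⁻¹ * E.ι e * g :=
  E.mem_X (E.two_mem h (k := 2) (by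
    have e4 : e ^ 4 = 1 := by
      rw [show 4 = 2 * 2 from rfl, pow_mul, sq, sq]
      rcases he with h | h <;> rw [h]
      exacts [one_mul 1, z_ne.2]
    have h4 := (map_pow (MulAut.conj g⁻¹) (E.ι e) 4).symm
    rw [← map_pow E.ι, e4, map_one, map_one, MulAut.conj_apply, inv_inv] at h4
    exact h4)) ((hT.inv_left.mul_left (E.comm_T e)).mul_left hT)

theorem Emb.he_four (h2 : E.Good (R 2)) {e : X.Grp} (he : IsConj (R 2) e) {g : G} (hT : Commute g E.T)
    (h : g⁻¹ * E.ι e * g ∈ E.Rg) : g ∈ E.Rg := by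
  have hee : e * e = z := (class_square (by norm_num) he).2 le_rfl
  obtain ⟨w, hw⟩ := E.moved (Or.inr hee) hT h
  have hww : w * w = z := E.ι_inj (by
    rw [map_mul, hw, show g⁻¹ * E.ι e * g * (g⁻¹ * E.ι e * g) = g⁻¹ * (E.ι e * E.ι e) * g by group, ← map_mul, hee]
    show g⁻¹ * E.T * g = E.T
    rw [mul_assoc, ← hT.eq, inv_mul_cancel_left])
  obtain ⟨c, hc, hcw⟩ := classify (Or.inr hww) (fun e => by rw [e, one_mul] at hww; exact z_ne.1 hww.symm)
    (fun e => by rw [e, z_ne.2] at hww; exact z_ne.1 hww.symm)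
  have hsq := class_square hc hcw
  interval_cases c
  · exact absurd (hww.symm.trans (hsq.1 (by norm_num))) z_ne.1
  · exact absurd (hww.symm.trans (hsq.1 (by norm_num))) z_ne.1
  · obtain ⟨a, ha⟩ := isConj_iff.mp (he.symm.trans hcw)
    have hG : E.Good e := E.good_conj he h2
    have hk := hG (g * E.ι a) (hT.mul_left (E.comm_T a)) (by
      show _ = _
      rw [show g * E.ι a * E.ι e = g * (E.ι a * E.ι e) by group, ← map_mul,
        show a * e = w * a by rw [← ha]; group, map_mul, hw]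
      group)
    have := mul_mem hk (inv_mem (E.ι_mem a))
    rwa [mul_inv_cancel_right] at this
  · exfalso
    obtain ⟨a, ha⟩ := isConj_iff.mp he
    obtain ⟨b, hb⟩ := isConj_iff.mp hcw
    set k := (E.ι b)⁻¹ * g⁻¹ * E.ι a with hk
    have hkT : Commute k E.T := ((E.comm_T b).inv_left.mul_left hT.inv_left).mul_left (E.comm_T a)
    have e3 : k * E.ι (R 2) = E.ι (R 3) * k := by
      have e4 : E.ι a * E.ι (R 2) = E.ι e * E.ι a := by
        rw [← map_mul, ← map_mul, ← ha]; congr 1; group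
      have e5 : (E.ι b)⁻¹ * E.ι w = E.ι (R 3) * (E.ι b)⁻¹ := by
        rw [← map_inv, ← map_mul, ← map_mul, ← hb]; congr 1; group
      rw [hk, show (E.ι b)⁻¹ * g⁻¹ * E.ι a * E.ι (R 2) = (E.ι b)⁻¹ * g⁻¹ * (E.ι a * E.ι (R 2)) by group, e4,
        show (E.ι b)⁻¹ * g⁻¹ * (E.ι e * E.ι a) = (E.ι b)⁻¹ * (g⁻¹ * E.ι e * g) * g⁻¹ * E.ι a by group, ← hw, e5]
      group
    have e6 : E.ι (R 2) = k⁻¹ * E.ι (R 3) * k := by rw [mul_assoc, ← e3, inv_mul_cancel_left]
    have hmem : ∀ p : centralizer ({R 3} : Set X.Grp) × E.W,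
        ∃ q : centralizer ({R 2} : Set X.Grp) × E.W, E.ι q.1 * (q.2 : G) = k⁻¹ * (E.ι p.1 * (p.2 : G)) * k := by
      rintro ⟨⟨c, hc⟩, ⟨v, hv⟩⟩
      dsimp only
      have hc' : Commute (E.ι c * v) (E.ι (R 3)) :=
        ((show Commute c (R 3) from mem_centralizer_singleton_iff.mp hc).map E.ι).mul_left (E.ι_comm _ hv).symm
      have h1 : Commute (k⁻¹ * (E.ι c * v) * k) E.T :=
        (hkT.inv_left.mul_left ((E.comm_T _).mul_left (E.ι_comm z hv).symm)).mul_left hkT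
      have h3 : Commute (k⁻¹ * (E.ι c * v) * k) (E.ι (R 2)) := by
        rw [e6]
        show _ = _
        rw [show k⁻¹ * (E.ι c * v) * k * (k⁻¹ * E.ι (R 3) * k) = k⁻¹ * (E.ι c * v * E.ι (R 3)) * k by group, hc'.eq]
        group
      obtain ⟨d, u, hu, hd⟩ := E.mem_RX (h2 _ h1 h3) h1
      refine ⟨⟨⟨d, mem_centralizer_singleton_iff.mpr (E.ι_inj ?_)⟩, ⟨u, hu⟩⟩, hd.symm⟩
      have h4 := h3.mul_left (E.ι_comm (R 2) hu).symm.inv_left
      rw [hd, mul_inv_cancel_right] at h4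
      rw [map_mul, map_mul]
      exact h4.eq
    choose q hq using hmem
    haveI : Finite ↥E.W := inferInstance
    have hle := Nat.card_le_card_of_injective q fun p p' e => by
      have h4 : E.ι p.1 * (p.2 : G) = E.ι p'.1 * (p'.2 : G) :=
        mul_left_cancel (mul_right_cancel ((hq p).symm.trans
          ((congrArg (fun r : centralizer ({R 2} : Set X.Grp) × E.W => E.ι r.1 * (r.2 : G)) e).trans (hq p'))))
      obtain ⟨e1, e2⟩ := E.decomp_unique p.2.2 p'.2.2 h4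
      exact Prod.ext (Subtype.ext (M.fcut_inj e1)) (Subtype.ext e2)
    rw [Nat.card_prod, Nat.card_prod] at hle
    have hle' := Nat.le_of_mul_le_mul_right hle Nat.card_pos
    have := card_lt
    omega

theorem Emb.good_two : E.Good (R 2) := by
  obtain ⟨hxo, hc, hlt⟩ := one_x
  obtain ⟨x, hxF, hx, hn, hxa⟩ := x_of_xOK hxo cR2.1
  obtain ⟨k0, hk0, hk0c⟩ := orb_spec _ hlt
  refine E.node_list hxF cR2.1 cR2.2 hk0 hxa hx hn Fx.one (Or.inl rfl) hc (fun g _ _ h => ?_)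
    (ks := orb) (len := 126) (fun c _ => class_three (hk0c.trans (isConj_iff.mpr ⟨c, rfl⟩)))
    (cert := oneCert) fun i hi hci b hb => ?_
  · simp only [CfsgLib.Co3M12.End.candB, Bool.and_eq_true] at hc
    have hy : Fx (yF (oc oneE) c8.2) (k0 * (R 2)⁻¹) := hk0.mul cR2.2
    exact E.he_involution (eqX hc.1.2 (hy.mul hy) Fx.one) ((num_eq hy).symm.trans (Nat.eq_of_beq_eq_true hc.2)) h
  · have := List.all_eq_true.mp one_allz i (List.mem_range.mpr hi)
    simp only [hci, Bool.not_true, Bool.false_or, Bool.and_eq_true] at this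
    exact E.good_one (eqX this.1 (hb.mul hb) Fx.one) ((num_eq hb).symm.trans (Nat.eq_of_beq_eq_true this.2))

theorem Emb.good_of (h2 : E.Good (R 2)) {f : ℕ → ℕ} {b : X.Grp} (hb : Fx f b) (h : goodB f = true) : E.Good b := by
  rcases goodB_spec hb h with h | h
  · exact E.good_conj h (E.good_one ((class_square (by norm_num) (IsConj.refl (R 1))).1 (by norm_num)) nums.2.1)
  · exact E.good_conj h h2

theorem Emb.good_three : E.Good (R 3) := by
  obtain ⟨hxo, hc, hlt⟩ := three_x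
  obtain ⟨x, hxF, hx, hn, hxa⟩ := x_of_xOK hxo cR3.1
  obtain ⟨hk0, hk0c⟩ := qx_spec _ hlt
  refine E.node_list hxF cR3.1 cR3.2 hk0 hxa hx hn X.z_spec (Or.inr rfl) hc (fun g hT _ h => ?_)
    (ks := qsList) (len := 630) (fun c _ => ?_) (cert := threeCert) fun i hi hci b hb => ?_
  · simp only [CfsgLib.Co3M12.End.candB, Bool.and_eq_true] at hc
    have hy : Fx (yF (qc threeE) c16.2) (qx threeE * (R 3)⁻¹) := hk0.mul cR3.2
    exact E.he_four E.good_two
      (class_two (eqX hc.1.2 (hy.mul hy) X.z_spec) ((num_eq hy).symm.trans (Nat.eq_of_beq_eq_true hc.2))) hT h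
  · obtain ⟨i, hi, e⟩ := qx_class (hk0c.trans (isConj_iff.mpr ⟨c, rfl⟩ : IsConj (qx threeE) (c * qx threeE * c⁻¹)))
    exact ⟨i, hi, e ▸ (qx_spec i hi).1⟩
  · refine E.good_of E.good_two hb ?_
    rcases (by omega : i < 210 ∨ (210 ≤ i ∧ i < 420) ∨ (420 ≤ i ∧ i < 630)) with h | h | h
    · have := List.all_eq_true.mp three_all0 i (List.mem_range.mpr h)
      simpa only [Nat.zero_add, hci, Bool.not_true, Bool.false_or] using this
    · have := List.all_eq_true.mp three_all1 (i - 210) (List.mem_range.mpr (by omega))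
      simpa only [Nat.add_sub_cancel' h.1, hci, Bool.not_true, Bool.false_or] using this
    · have := List.all_eq_true.mp three_all2 (i - 420) (List.mem_range.mpr (by omega))
      simpa only [Nat.add_sub_cancel' h.1, hci, Bool.not_true, Bool.false_or] using this

theorem Emb.good_zero : E.Good (R 0) := by
  obtain ⟨hxo, hc, hlt⟩ := two_x
  obtain ⟨x, hxF, hx, hn, hxa⟩ := x_of_xOK hxo X.s_spec
  obtain ⟨k0, hk0, hk0c⟩ := orb_spec _ hlt
  have hsi : Fx (ap sC.1) s⁻¹ := by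
    rw [inv_eq_of_mul_eq_one_right X.basic.2.2.2.2.1]; exact X.s_spec
  rw [R_zero]
  refine E.node_list hxF X.s_spec hsi hk0 hxa hx hn X.z_spec (Or.inr rfl) hc (fun g hT _ h => ?_)
    (ks := orb) (len := 126) (fun c _ => class_three (hk0c.trans (isConj_iff.mpr ⟨c, rfl⟩)))
    (cert := twoCert) fun i hi hci b hb => ?_
  · simp only [CfsgLib.Co3M12.End.candB, Bool.and_eq_true] at hc
    have hy : Fx (yF (oc twoE) sC.1) (k0 * s⁻¹) := hk0.mul hsi
    exact E.he_four E.good_two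
      (class_two (eqX hc.1.2 (hy.mul hy) X.z_spec) ((num_eq hy).symm.trans (Nat.eq_of_beq_eq_true hc.2))) hT h
  · refine E.good_of E.good_two hb ?_
    have := List.all_eq_true.mp two_all i (List.mem_range.mpr hi)
    simpa only [Nat.zero_add, hci, Bool.not_true, Bool.false_or] using this

theorem Emb.good_all {c : ℕ} (hc : c < 4) : E.Good (R c) := by
  interval_cases c
  exacts [E.good_zero, E.good_one ((class_square (by norm_num) (IsConj.refl (R 1))).1 (by norm_num)) nums.2.1,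
    E.good_two, E.good_three]

/-- The centraliser of the fused involution lies in the copy. -/
theorem Emb.cent_T {g : G} (hg : Commute g E.T) : g ∈ E.Rg := by
  have hR1 : R 1 * R 1 = 1 := (class_square (by norm_num) (IsConj.refl (R 1))).1 (by norm_num)
  refine E.node (a := 1) (x := R 1) (e := s) (Commute.one_right _) (Commute.one_right _) hR1 nums.2.1
    (Or.inl X.basic.2.2.2.2.1) (fun g hT _ h => ?_) (fun c _ k hk g hT _ hgq => ?_) g hg
    (by rw [map_one]; exact Commute.one_right g)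
  · obtain ⟨w, hw⟩ := E.moved (Or.inl X.basic.2.2.2.2.1) hT h
    have hww : w * w = 1 := E.ι_inj (by
      rw [map_mul, hw, show g⁻¹ * E.ι s * g * (g⁻¹ * E.ι s * g) = g⁻¹ * (E.ι s * E.ι s) * g by group, ← map_mul,
        X.basic.2.2.2.2.1, map_one]
      group)
    have hw1 : w ≠ 1 := fun e => by
      rw [e, map_one] at hw
      exact X.basic.2.2.1 (E.ι_inj (by
        rw [map_one, show E.ι s = g * (g⁻¹ * E.ι s * g) * g⁻¹ by group, ← hw]; group))
    have hwz : w ≠ z := fun e => by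
      subst e
      exact X.basic.2.2.2.1 (E.ι_inj (by
        rw [show E.ι s = g * (g⁻¹ * E.ι s * g) * g⁻¹ by group, ← hw]
        show g * E.T * g⁻¹ = E.T
        rw [hg_eq hT]))
    obtain ⟨c, hc, hcw⟩ := classify (Or.inl hww) hw1 hwz
    have hsq := class_square hc hcw
    interval_cases c
    · rw [R_zero] at hcw
      obtain ⟨a, ha⟩ := isConj_iff.mp hcw
      have hk := E.good_zero (g * E.ι a) (hT.mul_left (E.comm_T a)) (by
        rw [R_zero]
        show _ = _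
        rw [show g * E.ι a * E.ι s = g * (E.ι a * E.ι s) by group, ← map_mul,
          show a * s = w * a by rw [← ha]; group, map_mul, hw]
        group)
      have := mul_mem hk (inv_mem (E.ι_mem a))
      rwa [mul_inv_cancel_right] at this
    · have hn : num w = 12 := (num_conj hcw).trans nums.2.1
      have h1 := E.z_fix hww hn (g := g⁻¹) (by
        rw [hw, show g⁻¹⁻¹ * (g⁻¹ * E.ι s * g) * g⁻¹ = E.ι s by group]; exact E.ι_mem s)
      exact inv_inv g ▸ inv_mem h1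
    · exact absurd ((hsq.2 le_rfl).symm.trans hww) z_ne.1
    · exact absurd ((hsq.2 (by norm_num)).symm.trans hww) z_ne.1
  · set e' := c * s * c⁻¹ with he'
    have hne : num e' = 36 := by
      rw [num_conj (isConj_iff.mpr ⟨c, rfl⟩ : IsConj s e')]; exact X.num_named.2.2
    have hq : R 1 * e' ≠ 1 ∧ R 1 * e' ≠ z := by
      have he2 : e' * e' = 1 := by
        rw [he', show c * s * c⁻¹ * (c * s * c⁻¹) = c * (s * s) * c⁻¹ by group, X.basic.2.2.2.2.1]; group
      refine ⟨fun h => ?_, fun h => ?_⟩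
      · rw [← inv_eq_of_mul_eq_one_right h, inv_eq_of_mul_eq_one_right hR1, nums.2.1] at hne
        omega
      · have e1 : e' = R 1 * z := by
          rw [← h, ← mul_assoc, hR1, one_mul]
        rw [e1, ← (z_comm _).eq, nums.2.2.2.2] at hne
        omega
    classical
    let P : ℕ → Prop := fun j => (R 1 * e') ^ 2 ^ j = 1 ∨ (R 1 * e') ^ 2 ^ j = z
    have hP : ∃ j, P j := ⟨k, hk⟩
    have h0 : ¬ P 0 := by
      rintro (h | h) <;> rw [pow_zero, pow_one] at h
      exacts [hq.1 h, hq.2 h]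
    obtain ⟨j, hj⟩ : ∃ j, Nat.find hP = j + 1 := ⟨Nat.find hP - 1, by
      have : Nat.find hP ≠ 0 := fun e => h0 (e ▸ Nat.find_spec hP)
      omega⟩
    have hjs : P (j + 1) := hj ▸ Nat.find_spec hP
    have hjn : ¬ P j := Nat.find_min hP (by omega)
    set r := (R 1 * e') ^ 2 ^ j with hr
    have hr2 : r * r = 1 ∨ r * r = z := by
      rw [hr, ← sq, ← pow_mul, ← pow_succ]; exact hjs
    obtain ⟨d, hd, hdr⟩ := classify hr2 (fun e => hjn (Or.inl e)) (fun e => hjn (Or.inr e))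
    refine E.good_conj hdr (E.good_all hd) g hT ?_
    rw [hr, map_pow]
    exact hgq.pow_right _
where
  hg_eq {g T : G} (h : Commute g T) : g * T * g⁻¹ = T := by rw [h.eq, mul_inv_cancel_right]

theorem Emb.cent_conj {m : M.Grp} (hm : m * m = 1) (hm1 : m ≠ 1) {g : G} (hg : Commute g (E.Φ m)) :
    g ∈ E.Rg := by
  rcases M.invol_class hm hm1 with h | h <;> obtain ⟨a, rfl⟩ := isConj_iff.mp h <;>
    rw [map_mul, map_mul, map_inv] at hg
  · have := E.cent_T (g := (E.Φ a)⁻¹ * g * E.Φ a) (by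
      rw [E.T_eq]
      have h3 := hg.map (MulAut.conj (E.Φ a)⁻¹).toMonoidHom
      simp only [MulEquiv.coe_toMonoidHom, MulAut.conj_apply, inv_inv] at h3
      rwa [show (E.Φ a)⁻¹ * (E.Φ a * E.Φ M.tm * (E.Φ a)⁻¹) * E.Φ a = E.Φ M.tm by group] at h3)
    have h2 := mul_mem (mul_mem (E.Φ_mem a) this) (inv_mem (E.Φ_mem a))
    rwa [show E.Φ a * ((E.Φ a)⁻¹ * g * E.Φ a) * (E.Φ a)⁻¹ = g by group] at h2
  · have := E.cent_u ((E.Φ a)⁻¹ * g * E.Φ a) (by
      have h3 := hg.map (MulAut.conj (E.Φ a)⁻¹).toMonoidHom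
      simp only [MulEquiv.coe_toMonoidHom, MulAut.conj_apply, inv_inv] at h3
      rwa [show (E.Φ a)⁻¹ * (E.Φ a * E.Φ M.um * (E.Φ a)⁻¹) * E.Φ a = E.Φ M.um by group] at h3)
    have h2 := mul_mem (mul_mem (E.Φ_mem a) this) (inv_mem (E.Φ_mem a))
    rwa [show E.Φ a * ((E.Φ a)⁻¹ * g * E.Φ a) * (E.Φ a)⁻¹ = g by group] at h2

/-- The copy is the whole group. -/
theorem Emb.eq_top : E.Rg = ⊤ := by
  obtain ⟨ht1, htt, hu1, huu, -⟩ := M.basic
  have ho : ∀ {m : M.Grp}, m * m = 1 → m ≠ 1 → orderOf (E.Φ m) = 2 := fun h h1 =>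
    orderOf_eq_prime (by rw [sq, ← map_mul, h, map_one]) fun e => h1 (E.inj (e.trans (map_one _).symm))
  refine eq_top_iff.mpr fun g _ => ?_
  set b := g * E.Φ M.tm * g⁻¹ with hb
  have hb2 : orderOf b = 2 := by rw [hb, ← MulAut.conj_apply, MulEquiv.orderOf_eq, ho htt ht1]
  have hnc : ¬ IsConj (E.Φ M.um) b := fun h => E.not_conj (h.trans (isConj_iff.mpr ⟨g⁻¹, by rw [hb]; group⟩))
  obtain ⟨n, -, hw2, hwa, hwb⟩ := Co3Recog.Strong.middle (ho huu hu1) hb2 hnc
  obtain ⟨m, hm⟩ := E.two_mem (E.cent_u _ hwa) (k := 1) (by rw [pow_one, ← hw2]; exact pow_orderOf_eq_one _)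
  have hm2 : m * m = 1 := E.inj (by rw [map_mul, hm, map_one, ← sq, ← hw2]; exact pow_orderOf_eq_one _)
  have hm1 : m ≠ 1 := fun e => by
    rw [← hm, e, map_one, orderOf_one] at hw2
    omega
  obtain ⟨p, hp⟩ := E.two_mem (E.cent_conj hm2 hm1 (g := b) (hm ▸ hwb.symm)) (k := 1)
    (by rw [pow_one, ← hb2]; exact pow_orderOf_eq_one _)
  have hp2 : p * p = 1 := E.inj (by rw [map_mul, hp, map_one, ← sq, ← hb2]; exact pow_orderOf_eq_one _)
  have hp1 : p ≠ 1 := fun e => by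
    rw [← hp, e, map_one, orderOf_one] at hb2
    omega
  rcases M.invol_class hp2 hp1 with h | h
  · obtain ⟨a, ha⟩ := isConj_iff.mp h
    have hk := E.cent_T (g := (E.Φ a)⁻¹ * g) (by
      rw [E.T_eq]
      show _ = _
      have e1 : (E.Φ a)⁻¹ * b = E.Φ M.tm * (E.Φ a)⁻¹ := by
        rw [← hp, ← map_inv, ← map_mul, ← map_mul, ← ha]; congr 1; group
      calc (E.Φ a)⁻¹ * g * E.Φ M.tm = (E.Φ a)⁻¹ * b * g := by rw [hb]; group
        _ = _ := by rw [e1]; group)
    have := mul_mem (E.Φ_mem a) hk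
    rwa [mul_inv_cancel_left] at this
  · exact absurd (hp ▸ E.Φ.map_isConj h) hnc

/-- A simple group with such a copy is Co3. -/
theorem Emb.isoCo3 (E : Emb G) [IsSimpleGroup G] : Cfsg.Spor.IsoCo3 G := by
  obtain ⟨ht1, htt, -⟩ := M.basic
  have htop := E.eq_top
  have hn : E.W.Normal := ⟨fun w hw g => by
    obtain ⟨m, u, hu, rfl⟩ : g ∈ E.Rg := htop ▸ mem_top g
    have h1 : u * w * u⁻¹ ∈ E.W := mul_mem (mul_mem hu hw) (inv_mem hu)
    rw [show E.Φ m * u * w * (E.Φ m * u)⁻¹ = E.Φ m * (u * w * u⁻¹) * (E.Φ m)⁻¹ by group, E.comm m _ h1,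
      mul_inv_cancel_right]
    exact h1⟩
  have hW : E.W = ⊥ := hn.eq_bot_or_eq_top.resolve_right fun e =>
    ht1 (E.disjoint (e ▸ mem_top _))
  have hs : Function.Surjective E.Φ := fun g => by
    obtain ⟨m, u, hu, rfl⟩ : g ∈ E.Rg := htop ▸ mem_top g
    exact ⟨m, by rw [show u = 1 from mem_bot.mp (hW ▸ hu), mul_one]⟩
  obtain ⟨e⟩ := M.equiv_co3.1
  exact ⟨(MulEquiv.ofBijective E.Φ ⟨E.inj, hs⟩).symm.trans e⟩

end CfsgLib.StdM12.Co3End
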