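import Cfsg.Agent.Lib.StdM12.Double

/-!
The double case from a homomorphism of two copies of the standard subgroup into the normaliser of the odd part
modulo that part (blueprint/S1750.md, step 5).
-/

set_option autoImplicit false
set_option linter.unusedSectionVars false
set_option linter.style.haveILetI false

namespace CfsgLib.StdM12

open Subgroup Cfsg
open scoped commutatorElement

universe u

variable {G : Type u} [Group G] {L W : Subgroup G} {z n : G} {t : ↥L}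

theorem commutatorElement_central {H : Type*} [Group H] {a b c d : H} (hc : ∀ y, c * y = y * c)
    (hd : ∀ y, d * y = y * d) : ⁅a * c, b * d⁆ = ⁅a, b⁆ := by
  rw [commutatorElement_def, commutatorElement_def]
  calc a * c * (b * d) * (a * c)⁻¹ * (b * d)⁻¹ = a * (c * (b * d)) * c⁻¹ * a⁻¹ * (d⁻¹ * b⁻¹) := by group
    _ = a * b * (d * a⁻¹) * d⁻¹ * b⁻¹ := by rw [hc]; group
    _ = _ := by rw [hd]; group

namespace Hyp

variable [Finite G] (C : Hyp L) (X : Exit L z t W n)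
include C X

theorem L_le_cent : L ≤ centralizer ({z} : Set G) :=
  fun _ hl => mem_centralizer_singleton_iff.mpr (C.commute_K hl X.zK)

theorem EL_le_cent_W : EL L n ≤ centralizer (W : Set G) := by
  refine sup_le (fun l hl => mem_centralizer_iff.mpr fun w hw => (C.commute_K hl ((X.mem_W w).mp hw).1).symm)
    fun x hx => mem_centralizer_iff.mpr fun w hw => ?_
  have hw' : n⁻¹ * w * n ∈ W := by
    have := (mem_normalizer_iff.mp (inv_mem X.nW) w).mp hw
    rwa [inv_inv] at this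
  have h := C.commute_K (mem_cj.mp hx) ((X.mem_W _).mp hw').1
  calc w * x = n * (n⁻¹ * w * n * (n⁻¹ * x * n)) * n⁻¹ := by group
    _ = n * (n⁻¹ * x * n * (n⁻¹ * w * n)) * n⁻¹ := by rw [h]
    _ = x * w := by group

theorem EL_le_norm_W : EL L n ≤ normalizer (W : Set G) :=
  (EL_le_cent_W C X).trans (centralizer_le_normalizer _)

theorem z_conj_EL {e : G} (he : e ∈ EL L n) : z * e * z⁻¹ ∈ EL L n := by
  have htz : Commute z (t : G) := (C.commute_K t.2 X.zK).symm
  have hcom : Commute z (n * z * n⁻¹) := by rw [X.nz]; exact htz.mul_right (Commute.refl z)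
  have hN : n⁻¹ * z * n ∈ N L := X.cent (mem_centralizer_singleton_iff.mpr (by
    calc n⁻¹ * z * n * z = n⁻¹ * (z * (n * z * n⁻¹)) * n := by group
      _ = n⁻¹ * (n * z * n⁻¹ * z) * n := by rw [hcom.eq]
      _ = _ := by group))
  have hle : cj z (EL L n) ≤ EL L n := by
    rw [cj, Subgroup.map_sup]
    refine sup_le_sup (cj_le fun l hl => ?_) (cj_le fun m hm => ?_)
    · rw [conj_eq_self (show Commute z l from (C.commute_K hl X.zK).symm)]; exact hl
    · rw [mem_cj] at hm ⊢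
      rw [show n⁻¹ * (z * m * z⁻¹) * n = n⁻¹ * z * n * (n⁻¹ * m * n) * (n⁻¹ * z * n)⁻¹ by group]
      exact (mem_normalizer_iff.mp hN _).mp hm
  exact hle (conj_mem_cj he)

/-- The double case from a homomorphism of two copies. -/
theorem exists_double {Q : Type*} [Group Q] (ρ : ↥(normalizer (W : Set G)) →* Q)
    (hker : ∀ y, ρ y = 1 → (y : G) ∈ W) (f : ↥L × ↥L →* Q) (hf : Function.Injective f)
    (hd : ∀ (l : ↥L) (h : (l : G) ∈ normalizer (W : Set G)), f (l, l) = ρ ⟨l, h⟩)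
    (hzW : z ∈ normalizer (W : Set G)) (hsw : ∀ a b, ρ ⟨z, hzW⟩ * f (a, b) = f (b, a) * ρ ⟨z, hzW⟩)
    {τ : ↥L} (hτ : τ ≠ 1) (hn : f (τ, 1) = ρ ⟨n, X.nW⟩) : Nonempty (Double L z n) := by
  haveI := C.facts.simple
  set E := EL L n with hE
  have hEW : E ≤ normalizer (W : Set G) := EL_le_norm_W C X
  have hcen : ∀ x : ↥L, (∀ y, x * y = y * x) → x = 1 := fun x h => C.facts.conj_inj (by
    rw [map_one]; exact MulEquiv.ext fun y => by rw [MulAut.conj_apply, h y, mul_inv_cancel_right]; rfl)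
  have hperf : (⁅(⊤ : Subgroup ↥L), ⊤⁆ : Subgroup ↥L) = ⊤ := by
    refine (inferInstance : (⁅(⊤ : Subgroup ↥L), ⊤⁆ : Subgroup ↥L).Normal).eq_bot_or_eq_top.resolve_left fun h => hτ ?_
    refine hcen τ fun y => ?_
    rw [← commutatorElement_eq_one_iff_mul_comm, ← Subgroup.mem_bot, ← h]
    exact commutator_mem_commutator (mem_top _) (mem_top _)
  let r : ↥E →* Q := ρ.comp (inclusion hEW)
  have hrL : ∀ l : ↥L, r ⟨l, mem_sup_left l.2⟩ = f (l, l) := fun l => (hd l _).symm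
  have hLN : ∀ l : ↥L, (l : G) ∈ normalizer (W : Set G) := fun l => X.cent_W (L_le_cent C X l.2)
  have hrn : ∀ l : ↥L, r ⟨n * l * n⁻¹, mem_sup_right (conj_mem_cj l.2)⟩ = f (τ * l * τ⁻¹, l) := fun l => by
    show ρ (⟨n, X.nW⟩ * ⟨l, hLN l⟩ * (⟨n, X.nW⟩ : ↥(normalizer (W : Set G)))⁻¹) = _
    rw [map_mul, map_mul, map_inv, ← hd, ← hn, ← map_inv, ← map_mul, ← map_mul, Prod.inv_mk, Prod.mk_mul_mk,
      Prod.mk_mul_mk, inv_one, one_mul, mul_one]
  have hall : ∀ p : ↥L × ↥L, f p ∈ r.range := by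
    set S := r.range.comap f with hS
    have hdS : ∀ l : ↥L, (l, l) ∈ S := fun l => ⟨_, hrL l⟩
    set T1 : Subgroup ↥L := S.comap (MonoidHom.inl ↥L ↥L) with hT1
    have hm : ∀ x, x ∈ T1 ↔ (x, (1 : ↥L)) ∈ S := fun x => Iff.rfl
    have hnorm : T1.Normal := ⟨fun x hx l => by
      rw [hm] at hx ⊢
      have := mul_mem (mul_mem (hdS l) hx) (inv_mem (hdS l))
      rwa [Prod.inv_mk, Prod.mk_mul_mk, Prod.mk_mul_mk, mul_one, mul_inv_cancel] at this⟩
    have htop : T1 = ⊤ := hnorm.eq_bot_or_eq_top.resolve_left fun h => hτ (hcen τ fun l => by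
      have h1 : (τ * l * τ⁻¹ * l⁻¹, (1 : ↥L)) ∈ S := by
        have := mul_mem (show (τ * l * τ⁻¹, l) ∈ S from ⟨_, hrn l⟩) (inv_mem (hdS l))
        rwa [Prod.inv_mk, Prod.mk_mul_mk, mul_inv_cancel] at this
      rw [← hm, h, Subgroup.mem_bot, mul_inv_eq_one, mul_inv_eq_iff_eq_mul] at h1
      exact h1)
    rintro ⟨a, b⟩
    have := mul_mem ((hm (a * b⁻¹)).mp (htop ▸ mem_top _)) (hdS b)
    rwa [Prod.mk_mul_mk, inv_mul_cancel_right, one_mul] at this
  have hr : ∀ e : ↥E, r e ∈ f.range := by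
    have h : E ≤ (f.range.comap r).map E.subtype := sup_le
      (fun l hl => ⟨⟨l, mem_sup_left hl⟩, ⟨_, (hrL ⟨l, hl⟩).symm⟩, rfl⟩)
      (by rintro _ ⟨l, hl, rfl⟩
          exact ⟨⟨n * l * n⁻¹, mem_sup_right (conj_mem_cj hl)⟩, ⟨_, (hrn ⟨l, hl⟩).symm⟩, rfl⟩)
    intro e
    obtain ⟨e', he', heq⟩ := h e.2
    rwa [show e' = e from Subtype.ext heq] at he'
  let φ : ↥E →* ↥L × ↥L := (MonoidHom.ofInjective hf).symm.toMonoidHom.comp (r.codRestrict f.range hr)
  have hφ : ∀ e, f (φ e) = r e := fun e =>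
    congrArg Subtype.val ((MonoidHom.ofInjective hf).apply_symm_apply ⟨r e, hr e⟩)
  have hφs : Function.Surjective φ := fun p => by
    obtain ⟨e, he⟩ := hall p
    exact ⟨e, hf (by rw [hφ, he])⟩
  have hφW : ∀ e : ↥E, φ e = 1 → (e : G) ∈ W := fun e he =>
    hker (inclusion hEW e) (show r e = 1 by rw [← hφ, he, map_one])
  have hφc : ∀ e : ↥E, φ e = 1 → ∀ y : ↥E, e * y = y * e := fun e he y =>
    Subtype.ext (mem_centralizer_iff.mp (EL_le_cent_W C X y.2) _ (hφW e he))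
  let s1 : ↥E →* ↥L := (MonoidHom.fst ↥L ↥L).comp φ
  let s2 : ↥E →* ↥L := (MonoidHom.snd ↥L ↥L).comp φ
  set At : Subgroup ↥E := s2.ker with hAt
  set A0 : Subgroup ↥E := ⁅At, At⁆ with hA0
  haveI : A0.Normal := Subgroup.commutator_normal At At
  have hA0le : A0 ≤ At := commutator_le.mpr fun a ha b hb => by
    rw [hAt, MonoidHom.mem_ker] at ha hb ⊢
    rw [map_commutatorElement, ha, hb, commutatorElement_one_left]
  have hmap : At.map s1 = ⊤ := eq_top_iff.mpr fun x _ => by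
    obtain ⟨e, he⟩ := hφs (x, 1)
    exact ⟨e, MonoidHom.mem_ker.mpr (show (φ e).2 = 1 by rw [he]), show (φ e).1 = x by rw [he]⟩
  have hmap0 : A0.map s1 = ⊤ := by rw [hA0, map_commutator, hmap, hperf]
  have hdec : ∀ a ∈ At, ∃ b ∈ A0, φ (b⁻¹ * a) = 1 := fun a ha => by
    obtain ⟨b, hb, e⟩ : ∃ b ∈ A0, s1 b = s1 a := (hmap0 ▸ mem_top (s1 a) : _ ∈ Subgroup.map _ _)
    refine ⟨b, hb, Prod.ext ?_ ?_⟩
    · show s1 (b⁻¹ * a) = 1
      rw [map_mul, map_inv, e, inv_mul_cancel]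
    · show s2 (b⁻¹ * a) = 1
      rw [map_mul, map_inv, MonoidHom.mem_ker.mp (hA0le hb), MonoidHom.mem_ker.mp ha, inv_one, mul_one]
  have hA0perf : (⁅A0, A0⁆ : Subgroup ↥E) = A0 := by
    refine le_antisymm (commutator_le.mpr fun a ha b hb =>
      mul_mem (mul_mem (mul_mem ha hb) (inv_mem ha)) (inv_mem hb)) ?_
    conv_lhs => rw [hA0]
    refine commutator_le.mpr fun a ha b hb => ?_
    obtain ⟨a', ha', ea⟩ := hdec a ha
    obtain ⟨b', hb', eb⟩ := hdec b hb
    rw [← mul_inv_cancel_left a' a, ← mul_inv_cancel_left b' b,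
      commutatorElement_central (hφc _ ea) (hφc _ eb)]
    exact commutator_mem_commutator ha' hb'
  set A : Subgroup G := A0.map E.subtype with hA
  have hAE : A ≤ E := map_subtype_le _
  have hlift : ∀ {a : G} (ha : a ∈ A), (⟨a, hAE ha⟩ : ↥E) ∈ A0 := by
    rintro _ ⟨a, ha, rfl⟩; exact ha
  let π : ↥A →* ↥L := s1.comp (inclusion hAE)
  have hπ1 : ∀ a : ↥A, π a = 1 → φ (inclusion hAE a) = 1 := fun a h =>
    Prod.ext h (MonoidHom.mem_ker.mp (hA0le (hlift a.2)))
  have hπs : Function.Surjective π := fun x => by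
    obtain ⟨b, hb, e⟩ := (hmap0 ▸ mem_top x : x ∈ Subgroup.map s1 A0)
    exact ⟨⟨b, b, hb, rfl⟩, e⟩
  let FA : Factor L A :=
    { π := π
      surj := hπs
      kill := fun a => ⟨fun h b => Subtype.ext
          (congrArg Subtype.val (hφc _ (hπ1 a h) (inclusion hAE b)) : _),
        fun h => hcen _ fun y => by
          obtain ⟨b, rfl⟩ := hπs y
          rw [← map_mul, h b, map_mul]⟩
      oddKer := fun a h => by
        rw [← orderOf_coe]; exact orderOf_odd W X.odd_W (hφW _ (hπ1 a h))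
      perfect := by
        refine map_injective A.subtype_injective ?_
        rw [map_commutator, ← MonoidHom.range_eq_map, Subgroup.range_subtype, hA, ← map_commutator, hA0perf] }
  let κ : ↥E →* ↥E := MonoidHom.mk' (fun e => ⟨z * e * z⁻¹, z_conj_EL C X e.2⟩)
    fun a b => Subtype.ext (by simp [mul_assoc])
  have hκ : ∀ e, φ (κ e) = ((φ e).2, (φ e).1) := fun e => hf (by
    rw [hφ]
    show ρ (⟨z, hzW⟩ * inclusion hEW e * (⟨z, hzW⟩ : ↥(normalizer (W : Set G)))⁻¹) = _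
    rw [map_mul, map_mul, map_inv, show ρ (inclusion hEW e) = r e from rfl, ← hφ,
      show φ e = ((φ e).1, (φ e).2) from rfl, hsw, mul_inv_cancel_right])
  have hκA : ∀ a ∈ A0, s1 (κ a) = 1 := fun a ha => by
    show (φ (κ a)).1 = 1
    rw [hκ]; exact MonoidHom.mem_ker.mp (hA0le ha)
  have hcomm : ∀ a ∈ A, ∀ a' ∈ A, a * (z * a' * z⁻¹) = z * a' * z⁻¹ * a := by
    intro a ha a' ha'
    set b : ↥E := κ ⟨a', hAE ha'⟩ with hb
    refine (Factor.comm_central (A := A) (x := (b : G)) ?_ ?_ FA ha).symm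
    · intro x hx y hy
      have h1 : φ (b * ⟨x, hAE hx⟩ * b⁻¹ * (⟨x, hAE hx⟩ : ↥E)⁻¹) = 1 := by
        have e1 : s1 b = 1 := hκA _ (hlift ha')
        have e2 : s2 ⟨x, hAE hx⟩ = 1 := MonoidHom.mem_ker.mp (hA0le (hlift hx))
        refine Prod.ext ?_ ?_
        · show s1 _ = 1
          rw [map_mul, map_mul, map_mul, map_inv, map_inv, e1, one_mul, inv_one, mul_one, mul_inv_cancel]
        · show s2 _ = 1
          rw [map_mul, map_mul, map_mul, map_inv, map_inv, e2, mul_one, inv_one, mul_one, mul_inv_cancel]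
      exact congrArg Subtype.val (hφc _ h1 ⟨y, hAE hy⟩)
    · intro x hx
      exact ⟨_, (inferInstance : A0.Normal).conj_mem _ (hlift hx) b, rfl⟩
  refine ⟨⟨A, FA, hcomm, le_antisymm ?_ (sup_le hAE ?_)⟩⟩
  · have hk : ∀ e e' : ↥E, ((⁅e, e'⁆ : ↥E) : G) ∈ A ⊔ cj z A := by
      have split : ∀ e : ↥E, ∃ y c : ↥E, e = y * c ∧ (∀ w, c * w = w * c) ∧ (y : G) ∈ A ⊔ cj z A := by
        intro e
        obtain ⟨a, ha, ea⟩ : ∃ a ∈ A0, s1 a = s1 e := (hmap0 ▸ mem_top (s1 e) : _ ∈ Subgroup.map _ _)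
        obtain ⟨b, hb, eb⟩ : ∃ b ∈ A0, s1 b = s2 e := (hmap0 ▸ mem_top (s2 e) : _ ∈ Subgroup.map _ _)
        refine ⟨a * κ b, (a * κ b)⁻¹ * e, (mul_inv_cancel_left _ _).symm, hφc _ ?_, ?_⟩
        · refine Prod.ext ?_ ?_
          · show s1 _ = 1
            rw [map_mul, map_inv, map_mul, hκA b hb, mul_one, ea, inv_mul_cancel]
          · show s2 _ = 1
            rw [map_mul, map_inv, map_mul, MonoidHom.mem_ker.mp (hA0le ha), one_mul,
              show s2 (κ b) = s1 b by show (φ (κ b)).2 = _; rw [hκ]; rfl, eb, inv_mul_cancel]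
        · exact mul_mem (mem_sup_left (show (a : G) ∈ A from ⟨a, ha, rfl⟩))
            (mem_sup_right (show z * (b : G) * z⁻¹ ∈ cj z A from conj_mem_cj ⟨b, hb, rfl⟩))
      intro e e'
      obtain ⟨y, c, rfl, hc, hy⟩ := split e
      obtain ⟨y', c', rfl, hc', hy'⟩ := split e'
      rw [commutatorElement_central hc hc']
      exact mul_mem (mul_mem (mul_mem hy hy') (inv_mem hy)) (inv_mem hy')
    have hgen : ∀ (ι : ↥L →* ↥E) (l : ↥L), (ι l : G) ∈ A ⊔ cj z A := fun ι l => by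
      have h : (⊤ : Subgroup ↥L) ≤ ((A ⊔ cj z A).comap E.subtype).comap ι :=
        hperf ▸ commutator_le.mpr fun a _ b _ => by
          rw [mem_comap, mem_comap, map_commutatorElement]
          exact hk (ι a) (ι b)
      exact h (mem_top l)
    refine sup_le (fun l hl => hgen (inclusion le_sup_left) ⟨l, hl⟩) ?_
    rintro _ ⟨l, hl, rfl⟩
    exact hgen ((inclusion (le_sup_right : cj n L ≤ E)).comp
      (L.equivMapOfInjective _ (MulAut.conj n).injective).toMonoidHom) ⟨l, hl⟩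
  · rintro _ ⟨a, ha, rfl⟩
    exact z_conj_EL C X (hAE ha)

/-- No homomorphism of two copies exists in a simple group. -/
theorem double_hom_false [IsSimpleGroup G] (F : WrFacts ↥L t) {Q : Type*} [Group Q]
    (ρ : ↥(normalizer (W : Set G)) →* Q)
    (hker : ∀ y, ρ y = 1 → (y : G) ∈ W) (f : ↥L × ↥L →* Q) (hf : Function.Injective f)
    (hd : ∀ (l : ↥L) (h : (l : G) ∈ normalizer (W : Set G)), f (l, l) = ρ ⟨l, h⟩)
    (hzW : z ∈ normalizer (W : Set G)) (hsw : ∀ a b, ρ ⟨z, hzW⟩ * f (a, b) = f (b, a) * ρ ⟨z, hzW⟩)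
    {τ : ↥L} (hτ : τ ≠ 1) (hn : f (τ, 1) = ρ ⟨n, X.nW⟩) : False :=
  (exists_double C X ρ hker f hf hd hzW hsw hτ hn).elim fun D => double_false C X F D

end Hyp

end CfsgLib.StdM12
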