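import Cfsg.Agent.Lib.StdM12.Co3End
import Cfsg.Agent.Lib.StdM12.DoubleOfHom
import Cfsg.Agent.Lib.Leech.Co3Schur
import Cfsg.Agent.Lib.Leech.Co3Outer

/-!
Co3 in the normaliser of the odd part modulo that part lifts to a subgroup centralising it
(blueprint/S1750.md, step 5, the Co3 branch).
-/

set_option autoImplicit false
set_option linter.unusedSectionVars false
set_option linter.style.haveILetI false

namespace CfsgLib.StdM12

open Subgroup Cfsg CfsgLib.Co3Recog
open scoped commutatorElement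

universe u

theorem co3_perfect : (⁅(⊤ : Subgroup M.Grp), ⊤⁆ : Subgroup M.Grp) = ⊤ := by
  haveI := M.equiv_co3.2
  refine (inferInstance : (⁅(⊤ : Subgroup M.Grp), ⊤⁆ : Subgroup M.Grp).Normal).eq_bot_or_eq_top.resolve_left
    fun h => Co3End.not_comm fun a b => ?_
  rw [← commutatorElement_eq_one_iff_mul_comm, ← Subgroup.mem_bot, ← h]
  exact commutator_mem_commutator (mem_top _) (mem_top _)

/-- Every automorphism is inner. -/
theorem co3_inner (a : MulAut M.Grp) : ∃ p : M.Grp, ∀ x, a x = p * x * p⁻¹ := by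
  obtain ⟨e⟩ := M.equiv_co3.1
  have h : Cfsg.Inn ↥Spor.Co3 = ⊤ := Subgroup.index_eq_one.mp CfsgLeech.Models.card_out_Co3
  obtain ⟨q, hq⟩ : (e.symm.trans a).trans e ∈ Cfsg.Inn ↥Spor.Co3 := h ▸ mem_top _
  refine ⟨e.symm q, fun x => ?_⟩
  have h1 : MulAut.conj q (e x) = e (a (e.symm (e x))) := congrArg (fun c : MulAut ↥Spor.Co3 => c (e x)) hq
  rw [MulAut.conj_apply, e.symm_apply_apply] at h1
  have h2 := congrArg e.symm h1
  rw [map_mul, map_mul, map_inv, e.symm_apply_apply, e.symm_apply_apply] at h2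
  exact h2.symm

/-- A perfect central extension of the group is trivial. -/
theorem co3_cover_injective {P : Type u} [Group P] [Finite P] (σ : P →* M.Grp) (hs : Function.Surjective σ)
    (hc : σ.ker ≤ center P) (hp : (⁅(⊤ : Subgroup P), ⊤⁆ : Subgroup P) = ⊤) : Function.Injective σ := by
  obtain ⟨e⟩ := M.equiv_co3.1
  haveI : Small.{0} P := Countable.toSmall P
  let r : Shrink.{0} P ≃* P := Shrink.mulEquiv
  haveI : Finite (Shrink.{0} P) := Finite.of_equiv _ r.symm.toEquiv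
  let τ : Shrink.{0} P →* ↥Spor.Co3 := e.toMonoidHom.comp (σ.comp r.toMonoidHom)
  have hk : ∀ x, x ∈ τ.ker → r x ∈ σ.ker := fun x hx => e.injective ((map_one e).symm ▸ hx)
  have hst : IsStemExtension τ := by
    refine ⟨e.surjective.comp (hs.comp r.surjective), fun x hx => mem_center_iff.mpr fun y => r.injective ?_, ?_⟩
    · rw [map_mul, map_mul]; exact mem_center_iff.mp (hc (hk x hx)) (r y)
    · have h : commutator (Shrink.{0} P) = ⊤ := by
        rw [commutator_def, ← map_top_of_surjective r.symm.toMonoidHom r.symm.surjective, ← map_commutator, hp]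
      rw [h]; exact le_top
  obtain ⟨π, hπ⟩ := CfsgLeech.Models.multiplier_co3.2 _ τ hst
  refine (injective_iff_map_eq_one σ).mpr fun p hp' => ?_
  have hm : r.symm p ∈ τ.ker := by
    show e (σ (r (r.symm p))) = 1
    rw [r.apply_symm_apply, hp', map_one]
  obtain ⟨a, ha⟩ := hπ ⟨_, hm⟩
  have ha1 : a = 1 := Subsingleton.elim _ _
  rw [ha1, map_one] at ha
  have h1 : r.symm p = 1 := (congrArg Subtype.val ha).symm
  exact r.symm.map_eq_one_iff.mp h1

variable {G : Type u} [Group G] [Finite G]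

/-- A copy modulo a subgroup lifts into the centraliser of that subgroup. -/
theorem exists_lift {W : Subgroup G} {Q : Type*} [Group Q] (ρ : ↥(normalizer (W : Set G)) →* Q)
    (hker : ∀ y, ρ y = 1 → (y : G) ∈ W) (f : M.Grp →* Q) (hf : Function.Injective f) (hfr : f.range ≤ ρ.range)
    (hne : ∃ d : ↥(normalizer (W : Set G)), (d : G) ∈ centralizer (W : Set G) ∧ ρ d ∈ f.range ∧ ρ d ≠ 1) :
    ∃ Φ : M.Grp →* G, Function.Injective Φ ∧ (∀ m, Φ m ∈ centralizer (W : Set G)) ∧
      ∀ m, ∃ h : Φ m ∈ normalizer (W : Set G), ρ ⟨Φ m, h⟩ = f m := by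
  haveI := M.equiv_co3.2
  let D : Subgroup ↥(normalizer (W : Set G)) := f.range.comap ρ ⊓ (centralizer (W : Set G)).subgroupOf (normalizer (W : Set G))
  have hnorm : ((D.map ρ).comap f).Normal := ⟨by
    intro x hx m
    obtain ⟨d, hd, hde⟩ := hx
    obtain ⟨r, hr⟩ := hfr ⟨m, rfl⟩
    refine ⟨r * d * r⁻¹, ⟨?_, ?_⟩, by rw [map_mul, map_mul, map_inv, hr, hde, map_mul, map_mul, map_inv]⟩
    · show ρ _ ∈ f.range
      exact ⟨m * x * m⁻¹, by rw [map_mul, map_mul, map_inv, map_mul, map_mul, map_inv, hr, hde]⟩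
    · rw [SetLike.mem_coe, Subgroup.mem_toSubmonoid, mem_subgroupOf, mem_centralizer_iff]
      intro w hw
      have h1 : (r : G)⁻¹ * w * r ∈ W := by
        have := (mem_normalizer_iff.mp (inv_mem r.2) w).mp hw
        rwa [inv_inv] at this
      have h2 := mem_centralizer_iff.mp (mem_subgroupOf.mp hd.2) _ h1
      rw [coe_mul, coe_mul, coe_inv]
      calc w * ((r : G) * d * (r : G)⁻¹) = (r : G) * ((r : G)⁻¹ * w * r * d) * (r : G)⁻¹ := by group
        _ = _ := by rw [h2]; group⟩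
  have htop : (D.map ρ).comap f = ⊤ := hnorm.eq_bot_or_eq_top.resolve_left fun h => by
    obtain ⟨d, hd, ⟨m, hm⟩, hd1⟩ := hne
    have hmem : m ∈ (D.map ρ).comap f := ⟨d, ⟨⟨m, hm⟩, hd⟩, hm.symm⟩
    rw [h, mem_bot] at hmem
    exact hd1 (by rw [← hm, hmem, map_one])
  let σ₀ : ↥D →* M.Grp :=
    (MonoidHom.ofInjective hf).symm.toMonoidHom.comp ((ρ.comp D.subtype).codRestrict f.range fun d => d.2.1)
  have hσ₀ : ∀ d, f (σ₀ d) = ρ d := fun d =>
    congrArg Subtype.val ((MonoidHom.ofInjective hf).apply_symm_apply ⟨ρ d, d.2.1⟩)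
  have hσs : Function.Surjective σ₀ := fun m => by
    obtain ⟨d, hd, hde⟩ := (htop ▸ mem_top m : m ∈ (D.map ρ).comap f)
    exact ⟨⟨d, hd⟩, hf ((hσ₀ _).trans hde)⟩
  have hσc : ∀ d : ↥D, σ₀ d = 1 → ∀ y : ↥D, d * y = y * d := fun d hd y => by
    have h1 : ((d : ↥(normalizer (W : Set G))) : G) ∈ W := hker _ (by rw [← hσ₀, hd, map_one])
    exact Subtype.ext (Subtype.ext (mem_centralizer_iff.mp (mem_subgroupOf.mp y.2.2) _ h1))
  set P : Subgroup ↥D := ⁅(⊤ : Subgroup ↥D), ⊤⁆ with hP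
  have hmapP : P.map σ₀ = ⊤ := by
    rw [hP, map_commutator, map_top_of_surjective _ hσs, co3_perfect]
  have hperf : (⁅P, P⁆ : Subgroup ↥D) = P := by
    refine le_antisymm (commutator_le.mpr fun a ha b hb =>
      mul_mem (mul_mem (mul_mem ha hb) (inv_mem ha)) (inv_mem hb)) ?_
    conv_lhs => rw [hP]
    refine commutator_le.mpr fun a _ b _ => ?_
    have hdec : ∀ a : ↥D, ∃ a' ∈ P, σ₀ (a'⁻¹ * a) = 1 := fun a => by
      obtain ⟨a', ha', e⟩ := (hmapP ▸ mem_top (σ₀ a) : σ₀ a ∈ P.map σ₀)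
      exact ⟨a', ha', by rw [map_mul, map_inv, e, inv_mul_cancel]⟩
    obtain ⟨a', ha', ea⟩ := hdec a
    obtain ⟨b', hb', eb⟩ := hdec b
    rw [← mul_inv_cancel_left a' a, ← mul_inv_cancel_left b' b, commutatorElement_central (hσc _ ea) (hσc _ eb)]
    exact commutator_mem_commutator ha' hb'
  let σ : ↥P →* M.Grp := σ₀.comp P.subtype
  have hs : Function.Surjective σ := fun m => by
    obtain ⟨p, hp, e⟩ := (hmapP ▸ mem_top m : m ∈ P.map σ₀)
    exact ⟨⟨p, hp⟩, e⟩
  have hinj : Function.Injective σ := co3_cover_injective σ hs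
    (fun p hp => mem_center_iff.mpr fun y => Subtype.ext (hσc p hp y).symm) (by
      refine map_injective P.subtype_injective ?_
      rw [map_commutator, ← MonoidHom.range_eq_map, range_subtype, hperf])
  let e := MulEquiv.ofBijective σ ⟨hinj, hs⟩
  refine ⟨(normalizer (W : Set G)).subtype.comp (D.subtype.comp (P.subtype.comp e.symm.toMonoidHom)),
    (normalizer (W : Set G)).subtype_injective.comp (D.subtype_injective.comp (P.subtype_injective.comp e.symm.injective)),
    fun m => mem_subgroupOf.mp (e.symm m : ↥D).2.2, fun m => ⟨((e.symm m : ↥D) : ↥(normalizer (W : Set G))).2, ?_⟩⟩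
  exact (hσ₀ (e.symm m : ↥D)).symm.trans (congrArg f (e.apply_symm_apply m))

namespace Hyp

variable {L W : Subgroup G} {z n : G} {t : ↥L} (C : Hyp L) (X : Exit L z t W n)
include C X

/-- Co3 in the normaliser modulo the odd part: the whole simple group is Co3. -/
theorem isoCo3_of_hom [IsSimpleGroup G] (F : WrFacts ↥L t) (ht : t ≠ 1) (hcard : Nat.card ↥L = 95040)
    {Q : Type*} [Group Q] (ρ : ↥(normalizer (W : Set G)) →* Q) (hker : ∀ y, ρ y = 1 → (y : G) ∈ W)
    (f : M.Grp →* Q) (hf : Function.Injective f) (hzW : z ∈ normalizer (W : Set G))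
    (hz : f M.um = ρ ⟨z, hzW⟩)
    (hgen : f.range = ((L ⊔ closure {z, n}).subgroupOf (normalizer (W : Set G))).map ρ) :
    Cfsg.Spor.IsoCo3 G := by
  classical
  haveI : Fact (Nat.Prime 2) := ⟨Nat.prime_two⟩
  haveI := C.facts.simple
  haveI := M.equiv_co3.2
  obtain ⟨htm1, htmm, hum1, humm, -⟩ := M.basic
  have hLz : ∀ l : ↥L, Commute (l : G) z := fun l => C.commute_K l.2 X.zK
  have hLW : L ≤ centralizer (W : Set G) := fun l hl =>
    mem_centralizer_iff.mpr fun w hw => (C.commute_K hl ((X.mem_W w).mp hw).1).symm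
  have hLN : L ≤ normalizer (W : Set G) := hLW.trans (centralizer_le_normalizer _)
  have hzc : z ∈ centralizer (W : Set G) := mem_centralizer_iff.mpr fun w hw => ((X.mem_W w).mp hw).2.1
  have hdW : ∀ l : ↥L, (l : G) ∈ W → l = 1 := fun l h => Subtype.ext (C.inter_cen l.2 ((X.mem_W _).mp h).1)
  have hzn : z ∈ L ⊔ closure {z, n} ∧ n ∈ L ⊔ closure {z, n} :=
    ⟨mem_sup_right (subset_closure (Set.mem_insert _ _)),
      mem_sup_right (subset_closure (Set.mem_insert_of_mem _ rfl))⟩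
  obtain ⟨Φ, hinj, hΦc, hΦρ⟩ := exists_lift ρ hker f hf
    (by rw [hgen]; rintro _ ⟨y, -, rfl⟩; exact ⟨y, rfl⟩)
    ⟨⟨t, hLN t.2⟩, hLW t.2, hgen ▸ ⟨⟨t, hLN t.2⟩, mem_subgroupOf.mpr (mem_sup_left t.2), rfl⟩,
      fun h => ht (hdW t (hker _ h))⟩
  have hcomm : ∀ m, ∀ w ∈ W, Φ m * w = w * Φ m := fun m w hw => (mem_centralizer_iff.mp (hΦc m) w hw).symm
  -- the product
  set R : Subgroup G := Φ.range ⊔ W with hR
  have hWn : W ≤ normalizer (Φ.range : Set G) := fun w hw =>
    centralizer_le_normalizer _ (mem_centralizer_iff.mpr (by rintro _ ⟨m, rfl⟩; exact hcomm m w hw))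
  have hRdec : ∀ {x}, x ∈ R → ∃ m, ∃ w ∈ W, x = Φ m * w := fun hx => by
    obtain ⟨_, ⟨m, rfl⟩, w, hw, e⟩ := CfsgLib.mem_sup_of_le_normalizer hWn hx
    exact ⟨m, w, hw, e.symm⟩
  have hΦR : ∀ m, Φ m ∈ R := fun m => mem_sup_left ⟨m, rfl⟩
  have hWR : ∀ {w}, w ∈ W → w ∈ R := fun h => mem_sup_right h
  have hgR : ∀ x ∈ L ⊔ closure {z, n}, x ∈ R := by
    have hle : L ⊔ closure {z, n} ≤ normalizer (W : Set G) := sup_le hLN ((closure_le _).mpr (by
      rintro x (rfl | rfl)
      exacts [hzW, X.nW]))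
    intro x hx
    obtain ⟨m, hm⟩ : ρ ⟨x, hle hx⟩ ∈ f.range := hgen ▸ ⟨⟨x, hle hx⟩, mem_subgroupOf.mpr hx, rfl⟩
    obtain ⟨h, hρ⟩ := hΦρ m
    have h1 : (Φ m)⁻¹ * x ∈ W := hker (⟨Φ m, h⟩⁻¹ * ⟨x, hle hx⟩) (by rw [map_mul, map_inv, hρ, hm, inv_mul_cancel])
    rw [← mul_inv_cancel_left (Φ m) x]
    exact mul_mem (hΦR m) (hWR h1)
  have hRle : R ≤ L ⊔ closure {z, n} ⊔ W := by
    refine sup_le ?_ le_sup_right
    rintro _ ⟨m, rfl⟩
    obtain ⟨h, hρ⟩ := hΦρ m
    obtain ⟨y, hy, hye⟩ : f m ∈ ((L ⊔ closure {z, n}).subgroupOf (normalizer (W : Set G))).map ρ := hgen ▸ ⟨m, rfl⟩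
    have h1 : (y : G)⁻¹ * Φ m ∈ W := hker (y⁻¹ * ⟨Φ m, h⟩) (by rw [map_mul, map_inv, hρ, hye, inv_mul_cancel])
    rw [← mul_inv_cancel_left (y : G) (Φ m)]
    exact mul_mem (mem_sup_left (mem_subgroupOf.mp hy)) (mem_sup_right h1)
  have hdis : ∀ {m}, Φ m ∈ W → m = 1 := fun {m} hm => Co3End.center_trivial fun y => hinj (by
    rw [map_mul, map_mul]; exact hcomm y _ hm)
  have huniq : ∀ {m m' : M.Grp} {w w' : G}, w ∈ W → w' ∈ W → Φ m * w = Φ m' * w' → m = m' ∧ w = w' := by
    intro m m' w w' hw hw' h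
    have e : m'⁻¹ * m = 1 := hdis (by
      rw [map_mul, map_inv, show Φ m = Φ m' * w' * w⁻¹ from eq_mul_inv_of_mul_eq h,
        show (Φ m')⁻¹ * (Φ m' * w' * w⁻¹) = w' * w⁻¹ by group]
      exact mul_mem hw' (inv_mem hw))
    rw [inv_mul_eq_one] at e
    subst e
    exact ⟨rfl, mul_left_cancel h⟩
  -- simple subgroups of even order lie in the copy
  have hsimple : ∀ (H : Type) [Group H] [IsSimpleGroup H], 2 ∣ Nat.card H → ∀ ψ : H →* G, (∀ h, ψ h ∈ R) →
      ∀ h, ψ h ∈ Φ.range := by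
    intro H _ _ h2 ψ hψ
    choose m w hw e using fun h => hRdec (hψ h)
    have hm : ∀ a b, w (a * b) = w a * w b := fun a b => by
      refine (huniq (m := m (a * b)) (m' := m a * m b) (hw _) (mul_mem (hw a) (hw b)) ?_).2
      rw [← e, map_mul ψ, e a, e b, map_mul]
      calc Φ (m a) * w a * (Φ (m b) * w b) = Φ (m a) * (w a * Φ (m b)) * w b := by group
        _ = _ := by rw [← hcomm (m b) (w a) (hw a)]; group
    let ω : H →* ↥W := MonoidHom.mk' (fun h => ⟨w h, hw h⟩) fun a b => Subtype.ext (hm a b)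
    rcases (inferInstance : ω.ker.Normal).eq_bot_or_eq_top with hk | hk
    · have hb := card_dvd_of_injective ω ((MonoidHom.ker_eq_bot_iff ω).mp hk)
      exact absurd (dvd_trans h2 hb) X.odd_W.not_two_dvd_nat
    · intro h
      have hh : h ∈ ω.ker := hk ▸ mem_top h
      have h1 : w h = 1 := congrArg Subtype.val (MonoidHom.mem_ker.mp hh : ω h = 1)
      rw [e h, h1, mul_one]
      exact ⟨_, rfl⟩
  have h2M : 2 ∣ Nat.card M.Grp := by
    rw [← orderOf_eq_prime (p := 2) (by rw [sq, htmm]) htm1]; exact orderOf_dvd_natCard _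
  -- the involution
  have hum : Φ M.um = z := by
    obtain ⟨h, hρ⟩ := hΦρ M.um
    have h1 : (Φ M.um)⁻¹ * z ∈ W := hker (⟨Φ M.um, h⟩⁻¹ * ⟨z, hzW⟩) (by rw [map_mul, map_inv, hρ, hz, inv_mul_cancel])
    set w := (Φ M.um)⁻¹ * z with hw
    have hz' : z = Φ M.um * w := by rw [hw, mul_inv_cancel_left]
    have hw2 : w * w = 1 := by
      have hz2 := X.z2
      rw [hz', show Φ M.um * w * (Φ M.um * w) = Φ M.um * (w * Φ M.um) * w by group, ← hcomm _ w h1,
        show Φ M.um * (Φ M.um * w) * w = Φ M.um * Φ M.um * (w * w) by group, ← map_mul, humm, map_one, one_mul] at hz2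
      exact hz2
    rw [hz', eq_one_of_sq (orderOf_odd W X.odd_W h1) hw2, mul_one]
  obtain ⟨gl, hgl⟩ : ∃ gl : ↥L → M.Grp, ∀ l : ↥L, Φ (gl l) = l := by
    have h : ∀ l : ↥L, (l : G) ∈ Φ.range := by
      intro l
      haveI : Small.{0} ↥L := Countable.toSmall ↥L
      let r : Shrink.{0} ↥L ≃* ↥L := Shrink.mulEquiv
      haveI : IsSimpleGroup (Shrink.{0} ↥L) := r.isSimpleGroup
      have := hsimple (Shrink.{0} ↥L) (by rw [Nat.card_congr r.toEquiv, hcard]; norm_num)
        (L.subtype.comp r.toMonoidHom) (fun a => hgR _ (mem_sup_left (r a).2)) (r.symm l)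
      simpa using this
    choose gl hgl using h
    exact ⟨gl, hgl⟩
  -- the centraliser of the involution in the product
  have hcent : ∀ {m : M.Grp}, m * M.um = M.um * m → ∃ l : ↥L, ∃ k ∈ K L, Φ m = l * k := by
    intro m hm
    let Cu := centralizer ({M.um} : Set M.Grp)
    let zb : Bool → M.Grp := fun b => cond b M.um 1
    have hzb : ∀ b, Φ (zb b) ∈ K L := fun b => by
      cases b
      · show Φ 1 ∈ K L; rw [map_one]; exact one_mem _
      · show Φ M.um ∈ K L; rw [hum]; exact X.zK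
    let j : ↥L × Bool → ↥Cu := fun p => ⟨gl p.1 * zb p.2, mul_mem
      (mem_centralizer_singleton_iff.mpr (hinj (by rw [map_mul, map_mul, hgl, hum]; exact (hLz p.1).eq)))
      (by rcases p with ⟨-, _ | _⟩
          · exact one_mem _
          · exact mem_centralizer_singleton_iff.mpr rfl)⟩
    have hj : Function.Injective j := by
      rintro ⟨l, b⟩ ⟨l', b'⟩ h
      have h1 : (l : G) * Φ (zb b) = l' * Φ (zb b') := by
        rw [← hgl l, ← hgl l', ← map_mul, ← map_mul]; exact congrArg (fun x : ↥Cu => Φ x) h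
      have e : l'⁻¹ * l = 1 := Subtype.ext (C.inter_cen (l'⁻¹ * l).2 (by
        rw [coe_mul, coe_inv, show (l' : G)⁻¹ * l = Φ (zb b') * (Φ (zb b))⁻¹ by
          rw [eq_mul_inv_iff_mul_eq, mul_assoc, h1, inv_mul_cancel_left]]
        exact mul_mem (hzb b') (inv_mem (hzb b))))
      rw [inv_mul_eq_one] at e
      subst e
      have h2 : zb b = zb b' := hinj (mul_left_cancel h1)
      cases b <;> cases b' <;> first | rfl | exact absurd h2 hum1 | exact absurd h2.symm hum1
    have hbij : Function.Bijective j := (Nat.bijective_iff_injective_and_card j).mpr ⟨hj, by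
      rw [Nat.card_prod, hcard, Nat.card_eq_fintype_card (α := Bool), Fintype.card_bool, M.cent_u.1]⟩
    obtain ⟨⟨l, b⟩, he⟩ := hbij.2 ⟨m, mem_centralizer_singleton_iff.mpr hm⟩
    exact ⟨l, Φ (zb b), hzb b, by rw [← hgl l, ← map_mul]; exact congrArg Φ (congrArg Subtype.val he).symm⟩
  have hWK : ∀ {w}, w ∈ W → w ∈ K L := fun h => ((X.mem_W _).mp h).1
  have hNz : ∀ {g : G}, g * z = z * g → g ∈ N L := fun h => X.cent (mem_centralizer_singleton_iff.mpr h)
  have hinn : ∀ {g : G} (hgz : g * z = z * g), g ∈ R →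
      bar L (hNz hgz) ∈ (MulAut.conj : ↥L →* MulAut ↥L).range := by
    intro g hgz hg
    obtain ⟨m, w, hw, rfl⟩ := hRdec hg
    have hm : m * M.um = M.um * m := hinj (by
      rw [map_mul, map_mul, hum]
      have h1 := (show Commute (Φ m * w) z from hgz).mul_left (show Commute w z from ((X.mem_W w).mp hw).2.1).inv_left
      rw [mul_inv_cancel_right] at h1
      exact h1.eq)
    obtain ⟨l, k, hk, e⟩ := hcent hm
    refine ⟨l, ?_⟩
    have hkw : k * w ∈ K L := mul_mem hk (hWK hw)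
    rw [bar_congr (show Φ m * w = (l : G) * (k * w) by rw [e, mul_assoc]) (hNz hgz)
        (mul_mem (L_le_N l.2) (K_le_N hkw)),
      bar_mul (L_le_N l.2) (K_le_N hkw), bar_of_mem, (bar_eq_one _).mpr hkw, mul_one]
  have hinR : ∀ {g : G} (hgz : g * z = z * g),
      bar L (hNz hgz) ∈ (MulAut.conj : ↥L →* MulAut ↥L).range → g ∈ R := by
    rintro g hgz ⟨l, hl⟩
    obtain ⟨k, hk, e⟩ := C.split (hNz hgz) hl.symm
    have hkz : k * z = z * k := by
      have h1 := (hLz l).inv_left.mul_left (show Commute g z from hgz)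
      rw [e, inv_mul_cancel_left] at h1
      exact h1.eq
    have hzR : z ∈ R := hum ▸ hΦR M.um
    rw [e]
    refine mul_mem (hgR _ (mem_sup_left l.2)) ?_
    rcases X.split k hk hkz with h | h
    · exact hWR h
    · rw [show k = k * z * z⁻¹ by group]; exact mul_mem (hWR h) (inv_mem hzR)
  -- no outer element
  have hout : ∀ {g : G} (hgz : g * z = z * g), bar L (hNz hgz) ∈ (MulAut.conj : ↥L →* MulAut ↥L).range := by
    intro g₀ hg₀
    by_contra ho₀
    obtain ⟨c, hc⟩ := F.auto (bar L (hNz hg₀))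
    set g := (c : G)⁻¹ * g₀ with hg
    have hgz : g * z = z * g := ((hLz c).inv_left.mul_left (show Commute g₀ z from hg₀)).eq
    have ho : bar L (hNz hgz) ∉ (MulAut.conj : ↥L →* MulAut ↥L).range := by
      have hcN : (c : G)⁻¹ ∈ N L := inv_mem (L_le_N c.2)
      rw [bar_mul hcN (hNz hg₀), bar_inv (L_le_N c.2) hcN, bar_of_mem]
      intro h
      exact ho₀ ((mul_mem_cancel_left (inv_mem (show MulAut.conj c ∈ (MulAut.conj : ↥L →* MulAut ↥L).range from ⟨c, rfl⟩))).mp h)
    have hgt : g * t = t * g := by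
      have h1 : g₀ * t * g₀⁻¹ = (c : G) * t * (c : G)⁻¹ := by
        rw [← bar_apply (hNz hg₀) t, hc]; rfl
      calc g * t = (c : G)⁻¹ * (g₀ * t * g₀⁻¹) * g₀ := by rw [hg]; group
        _ = _ := by rw [h1, hg]; group
    have hnt : n⁻¹ * g * n * z = z * (n⁻¹ * g * n) := by
      calc n⁻¹ * g * n * z = n⁻¹ * (g * (n * z * n⁻¹)) * n := by group
        _ = n⁻¹ * (n * z * n⁻¹ * g) * n := by
          rw [X.nz, ((show Commute g (t : G) from hgt).mul_right (show Commute g z from hgz)).eq]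
        _ = _ := by group
    set d := n⁻¹ * g * n with hd
    have hnR : n ∈ R := hgR _ hzn.2
    have hdo : bar L (hNz hnt) ∉ (MulAut.conj : ↥L →* MulAut ↥L).range := fun h => ho (hinn hgz (by
      rw [show g = n * d * n⁻¹ by rw [hd]; group]
      exact mul_mem (mul_mem hnR (hinR hnt h)) (inv_mem hnR)))
    have hdg : d * g⁻¹ ∈ R := by
      have hz' : d * g⁻¹ * z = z * (d * g⁻¹) :=
        ((show Commute d z from hnt).mul_left (show Commute g z from hgz).inv_left).eq
      refine hinR hz' ?_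
      rw [bar_mul (hNz hnt) (inv_mem (hNz hgz)), bar_inv (hNz hgz)]
      exact C.facts.inner_index _ _ hdo fun h => ho (inv_mem_iff.mp h)
    have hRn : ∀ x ∈ R, g * x * g⁻¹ ∈ R := by
      intro x hx
      have hle : L ⊔ closure {z, n} ⊔ W ≤ R.comap (MulAut.conj g).toMonoidHom := by
        refine sup_le (sup_le (fun l hl => ?_) ((closure_le _).mpr ?_)) fun w hw => ?_
        · exact hgR _ (mem_sup_left ((mem_normalizer_iff.mp (hNz hgz) l).mp hl))
        · rintro x (rfl | rfl)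
          · show g * x * g⁻¹ ∈ R
            rw [hgz, mul_inv_cancel_right]; exact hgR _ hzn.1
          · show g * x * g⁻¹ ∈ R
            rw [show g * x * g⁻¹ = x * (x⁻¹ * g * x * g⁻¹) by group]
            exact mul_mem hnR hdg
        · exact hWR ((mem_normalizer_iff.mp (X.cent_W (mem_centralizer_singleton_iff.mpr hgz)) w).mp hw)
      exact hle (hRle hx)
    have hP : ∀ m, ∃ m', Φ m' = g * Φ m * g⁻¹ := fun m =>
      hsimple M.Grp h2M ((MulAut.conj g).toMonoidHom.comp Φ) (fun m => hRn _ (hΦR m)) m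
    choose a ha using hP
    let A : M.Grp →* M.Grp := MonoidHom.mk' a fun x y => hinj (by rw [map_mul, ha, ha, ha, map_mul]; group)
    have hA : Function.Injective A := fun x y h => hinj (by
      have h1 : g * Φ x * g⁻¹ = g * Φ y * g⁻¹ := by rw [← ha, ← ha]; exact congrArg Φ h
      simpa using h1)
    obtain ⟨p, hp⟩ := co3_inner (MulEquiv.ofBijective A ⟨hA, Finite.surjective_of_injective hA⟩)
    have hconj : ∀ m, Φ p * Φ m * (Φ p)⁻¹ = g * Φ m * g⁻¹ := fun m => by
      rw [← map_inv, ← map_mul, ← map_mul, ← hp m]; exact ha m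
    have hpz : Φ p * z = z * Φ p := by
      have h1 := hconj M.um
      rw [hum, hgz, mul_inv_cancel_right, mul_inv_eq_iff_eq_mul] at h1
      exact h1
    refine ho ?_
    obtain ⟨l, hl⟩ := hinn hpz (hΦR p)
    refine ⟨l, hl.trans (MulEquiv.ext fun x => Subtype.ext ?_)⟩
    rw [bar_apply, bar_apply, ← hgl x]
    exact hconj (gl x)
  -- the end
  refine Co3End.Emb.isoCo3
    { Φ := Φ, inj := hinj, W := W, oddW := X.odd_W, comm := hcomm,
      cent_u := fun g hg => ?_, not_conj := fun h => ?_ }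
  · rw [hum] at hg
    exact hRdec (hinR hg.eq (hout hg.eq))
  · have htt : gl t * gl t = 1 := hinj (by rw [map_mul, hgl, map_one, ← coe_mul, F.sq, coe_one])
    have ht1 : gl t ≠ 1 := fun e => ht (Subtype.ext (by rw [← hgl t, e, map_one, coe_one]))
    rw [hum] at h
    rcases M.invol_class htt ht1 with h' | h'
    · obtain ⟨g, hg⟩ := isConj_iff.mp (h.trans (Φ.map_isConj h'))
      rw [hgl] at hg
      exact X.not_conj g hg
    · obtain ⟨g, hg⟩ := isConj_iff.mp (Φ.map_isConj h')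
      rw [hgl, hum] at hg
      exact X.not_conj g hg

end Hyp

end CfsgLib.StdM12
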