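import Cfsg.Agent.Lib.StdM12.NoFixed
import Cfsg.Agent.Lib.TransferOrbit

/-!
The double case: the two standard subgroups generate a product of two factors exchanged by the involution, and the
transfer from the normaliser of this product contradicts simplicity (blueprint/S1750.md, step 5).
-/

set_option autoImplicit false
set_option linter.unusedSectionVars false
set_option linter.style.haveILetI false

namespace CfsgLib.StdM12

open Subgroup Cfsg
open scoped commutatorElement

universe u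

variable {G : Type u} [Group G] {L W : Subgroup G} {z n : G} {t : ↥L}

/-- The subgroup generated by the standard subgroup and its translate. -/
abbrev EL (L : Subgroup G) (n : G) : Subgroup G := L ⊔ cj n L

/-- The double case. -/
structure Double (L : Subgroup G) (z n : G) where
  /-- the first factor -/
  A : Subgroup G
  /-- the first factor covers the standard subgroup -/
  fac : Factor L A
  comm : ∀ a ∈ A, ∀ a' ∈ A, a * (z * a' * z⁻¹) = z * a' * z⁻¹ * a
  gen : EL L n = A ⊔ cj z A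

theorem cj_mul (g h : G) (U : Subgroup G) : cj (g * h) U = cj g (cj h U) := by
  ext x
  rw [mem_cj, mem_cj, mem_cj, show (g * h)⁻¹ * x * (g * h) = h⁻¹ * (g⁻¹ * x * g) * h by group]

theorem cj_one (U : Subgroup G) : cj 1 U = U := by
  ext x
  rw [mem_cj, inv_one, one_mul, mul_one]

theorem mem_normalizer_of_cj [Finite G] {g : G} {U : Subgroup G} (h : ∀ x ∈ U, g * x * g⁻¹ ∈ U) :
    g ∈ normalizer (U : Set G) := mem_normalizer_of_le h

theorem conj_eq_self {x y : G} (h : Commute x y) : x * y * x⁻¹ = y := by rw [h.eq, mul_inv_cancel_right]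

namespace Hyp

variable [Finite G] (C : Hyp L) (X : Exit L z t W n) (F : WrFacts ↥L t)
include C X F

theorem cent_EL : centralizer ({z} : Set G) ≤ normalizer (EL L n : Set G) := by
  intro c hc
  obtain ⟨s, hs⟩ := F.auto (bar L (X.cent hc))
  have hcz := mem_centralizer_singleton_iff.mp hc
  have hsz : Commute (s : G) z := C.commute_K s.2 X.zK
  set c' := (s : G)⁻¹ * c with hc'
  have hct : c * (t : G) * c⁻¹ = s * t * (s : G)⁻¹ := by
    have := congrArg Subtype.val hs
    rwa [bar_apply, coe_mul, coe_mul, coe_inv] at this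
  have hc't : Commute c' (t : G) := by
    have e : c' * t * c'⁻¹ = t := by
      calc c' * t * c'⁻¹ = (s : G)⁻¹ * (c * t * c⁻¹) * s := by rw [hc']; group
        _ = _ := by rw [hct]; group
    exact mul_inv_eq_iff_eq_mul.mp e
  have hc'z : Commute c' z := hsz.inv_left.mul_left hcz
  have hc'N : c' ∈ N L := X.cent (mem_centralizer_singleton_iff.mpr hc'z.eq)
  have hc''N : n⁻¹ * c' * n ∈ N L := X.cent (mem_centralizer_singleton_iff.mpr (by
    have h : Commute c' (n * z * n⁻¹) := X.nz ▸ hc't.mul_right hc'z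
    calc n⁻¹ * c' * n * z = n⁻¹ * (c' * (n * z * n⁻¹)) * n := by group
      _ = n⁻¹ * (n * z * n⁻¹ * c') * n := by rw [h.eq]
      _ = _ := by group))
  have h' : c' ∈ normalizer (EL L n : Set G) := by
    refine mem_normalizer_of_cj fun x hx => ?_
    have hle : cj c' (EL L n) ≤ EL L n := by
      rw [cj, Subgroup.map_sup]
      refine sup_le_sup (cj_le fun l hl => (mem_normalizer_iff.mp hc'N l).mp hl) (cj_le ?_)
      intro m hm
      rw [mem_cj] at hm ⊢
      rw [show n⁻¹ * (c' * m * c'⁻¹) * n = n⁻¹ * c' * n * (n⁻¹ * m * n) * (n⁻¹ * c' * n)⁻¹ by group]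
      exact (mem_normalizer_iff.mp hc''N _).mp hm
    exact hle (conj_mem_cj hx)
  rw [show c = (s : G) * c' by rw [hc']; group]
  exact mul_mem (le_normalizer (mem_sup_left s.2)) h'

omit C X F

variable (D : Double L z n)

theorem commB {a b : G} (ha : a ∈ D.A) (hb : b ∈ cj z D.A) : a * b = b * a := by
  obtain ⟨a', ha', rfl⟩ := hb
  exact D.comm a ha a' ha'

theorem EL_le_normalizer_A : EL L n ≤ normalizer (D.A : Set G) := by
  rw [D.gen]
  exact sup_le le_normalizer fun b hb => mem_normalizer_of_cj fun a ha => by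
    rwa [conj_eq_self (show Commute b a from (commB D ha hb).symm)]

theorem EL_le_normalizer_B : EL L n ≤ normalizer (cj z D.A : Set G) := by
  rw [D.gen]
  exact sup_le (fun a ha => mem_normalizer_of_cj fun b hb => by
    rwa [conj_eq_self (show Commute a b from commB D ha hb)]) le_normalizer

include C

theorem perm {m : G} (hm : m ∈ normalizer (EL L n : Set G)) :
    cj m D.A = D.A ∨ cj m D.A = cj z D.A := by
  haveI := C.facts.simple
  by_contra h
  push Not at h
  have hAE : D.A ≤ EL L n := D.gen ▸ le_sup_left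
  have hBE : cj z D.A ≤ EL L n := D.gen ▸ le_sup_right
  have h1E : cj m D.A ≤ EL L n := cj_le fun a ha => (mem_normalizer_iff.mp hm a).mp (hAE ha)
  have hn1 : ∀ e ∈ EL L n, ∀ y ∈ cj m D.A, e * y * e⁻¹ ∈ cj m D.A := fun e he y hy => by
    rw [mem_cj] at hy ⊢
    have he' : m⁻¹ * e * m ∈ EL L n := by
      have := (mem_normalizer_iff.mp (inv_mem hm) e).mp he
      rwa [inv_inv] at this
    have := (mem_normalizer_iff.mp (EL_le_normalizer_A D he') _).mp hy
    rwa [show m⁻¹ * (e * y * e⁻¹) * m = m⁻¹ * e * m * (m⁻¹ * y * m) * (m⁻¹ * e * m)⁻¹ by group]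
  have key : ∀ (T : Subgroup G) (FT : Factor L T), T ≤ EL L n → (∀ e ∈ EL L n, ∀ a ∈ T, e * a * e⁻¹ ∈ T) →
      Nat.card T = Nat.card D.A → cj m D.A ≠ T → ∀ x ∈ cj m D.A, ∀ a ∈ T, x * a = a * x := by
    intro T FT hTE hTn hTc hne x hx a ha
    rcases FT.normal_cases (cj m D.A) (fun a ha y hy => hn1 a (hTE ha) y hy) with hc | hle
    · refine Factor.comm_central (A := T) ?_ (fun a ha => hTn x (h1E hx) a ha) FT ha
      intro a ha b hb
      refine hc _ ?_ (mul_mem (hTn x (h1E hx) a ha) (inv_mem ha)) b hb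
      rw [show x * a * x⁻¹ * a⁻¹ = x * (a * x⁻¹ * a⁻¹) by group]
      exact mul_mem hx (hn1 a (hTE ha) _ (inv_mem hx))
    · exact absurd (eq_of_le_of_card_ge hle (by rw [card_cj, hTc])).symm hne
  have hA := key D.A D.fac hAE (fun e he a ha => (mem_normalizer_iff.mp (EL_le_normalizer_A D he) a).mp ha) rfl h.1
  have hB := key (cj z D.A) (D.fac.map z) hBE
    (fun e he a ha => (mem_normalizer_iff.mp (EL_le_normalizer_B D he) a).mp ha) card_cj h.2
  have hall : EL L n ≤ centralizer (cj m D.A : Set G) := by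
    rw [D.gen]
    exact sup_le (fun a ha => mem_centralizer_iff.mpr fun x hx => hA x hx a ha)
      (fun a ha => mem_centralizer_iff.mpr fun x hx => hB x hx a ha)
  haveI : Nontrivial ↥L := IsSimpleGroup.toNontrivial
  obtain ⟨a, ha, b, hb, hab⟩ := (D.fac.map m).exists_not_comm
  exact hab (mem_centralizer_iff.mp (hall (h1E hb)) a ha)

theorem swap_ne : cj z D.A ≠ D.A := by
  haveI := C.facts.simple
  haveI : Nontrivial ↥L := IsSimpleGroup.toNontrivial
  intro e
  obtain ⟨a, ha, b, hb, hab⟩ := D.fac.exists_not_comm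
  exact hab (commB D ha (e.symm ▸ hb))

include X F D

theorem mem_of_conj {g : G} (hg : g * z * g⁻¹ ∈ normalizer (EL L n : Set G)) :
    g ∈ normalizer (EL L n : Set G) := by
  haveI := C.facts.simple
  have hzi : z⁻¹ = z := inv_eq_of_mul_eq_one_right X.z2
  set x := g * z * g⁻¹ with hx
  have hx2 : x * x = 1 := by rw [hx, show g * z * g⁻¹ * (g * z * g⁻¹) = g * (z * z) * g⁻¹ by group, X.z2]; group
  have hxx : cj x (cj x D.A) = D.A := by rw [← cj_mul, hx2, cj_one]
  rcases perm C D hg with hfix | hswap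
  · exfalso
    have hB : cj x (cj z D.A) = cj z D.A := by
      rcases perm C D (mul_mem hg (cent_EL C X F (mem_centralizer_singleton_iff.mpr rfl))) with e | e
      · exfalso
        rw [cj_mul] at e
        have := congrArg (cj x) e
        rw [← cj_mul, hx2, cj_one, hfix] at this
        exact swap_ne C D this
      · rwa [cj_mul] at e
    refine C.no_fixed X F (D.fac.map g⁻¹) ((D.fac.map z).map g⁻¹) ?_ ?_ ?_
    · rintro _ ⟨a, ha, rfl⟩ _ ⟨b, hb, rfl⟩
      rw [← map_mul, ← map_mul, commB D ha hb]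
    · intro a ha
      rw [mem_cj, inv_inv] at ha ⊢
      rw [show g * (z * a * z⁻¹) * g⁻¹ = x * (g * a * g⁻¹) * x⁻¹ by rw [hx]; group, ← hfix]
      exact conj_mem_cj ha
    · intro a ha
      rw [mem_cj, inv_inv] at ha ⊢
      rw [show g * (z * a * z⁻¹) * g⁻¹ = x * (g * a * g⁻¹) * x⁻¹ by rw [hx]; group, ← hB]
      exact conj_mem_cj ha
  · have hdiag : ∀ l ∈ L, ∃ a ∈ D.A, g * l * g⁻¹ = a * (x * a * x⁻¹) := by
      intro l hl
      obtain ⟨a, ha, e⟩ := C.diag X (D.fac.map g⁻¹) (fun a ha a' ha' => by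
        rw [mem_cj, inv_inv] at ha ha'
        have h2 : x * (g * a' * g⁻¹) * x⁻¹ ∈ cj z D.A := hswap ▸ conj_mem_cj ha'
        have h3 := commB D ha h2
        calc a * (z * a' * z⁻¹) = g⁻¹ * (g * a * g⁻¹ * (x * (g * a' * g⁻¹) * x⁻¹)) * g := by rw [hx]; group
          _ = g⁻¹ * (x * (g * a' * g⁻¹) * x⁻¹ * (g * a * g⁻¹)) * g := by rw [h3]
          _ = _ := by rw [hx]; group) hl
      rw [mem_cj, inv_inv] at ha
      exact ⟨_, ha, by rw [e, hx]; group⟩
    have hAE : D.A ≤ EL L n := D.gen ▸ le_sup_left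
    have hBE : cj z D.A ≤ EL L n := D.gen ▸ le_sup_right
    have hgL : ∀ l ∈ L, g * l * g⁻¹ ∈ EL L n := fun l hl => by
      obtain ⟨a, ha, e⟩ := hdiag l hl
      rw [e]
      exact mul_mem (hAE ha) (hBE (hswap ▸ conj_mem_cj ha))
    obtain ⟨a₀, ha₀, e₀⟩ := hdiag t t.2
    have hc : Commute a₀ (x * a₀ * x⁻¹) := commB D ha₀ (hswap ▸ conj_mem_cj ha₀)
    have ht2 : (t : G) * t = 1 := congrArg Subtype.val F.sq
    have hsq : a₀ * a₀ * (x * (a₀ * a₀) * x⁻¹) = 1 := by
      calc a₀ * a₀ * (x * (a₀ * a₀) * x⁻¹) = a₀ * a₀ * ((x * a₀ * x⁻¹) * (x * a₀ * x⁻¹)) := by group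
        _ = a₀ * (x * a₀ * x⁻¹) * (a₀ * (x * a₀ * x⁻¹)) := by
            rw [← hc.mul_mul_mul_comm]
        _ = (g * t * g⁻¹) * (g * t * g⁻¹) := by rw [e₀]
        _ = g * (t * t : G) * g⁻¹ := by group
        _ = 1 := by rw [ht2]; group
    have hcB : a₀ * a₀ ∈ cj z D.A := by
      rw [eq_inv_of_mul_eq_one_left hsq]
      exact inv_mem (hswap ▸ conj_mem_cj (mul_mem ha₀ ha₀))
    set cA : ↥D.A := ⟨a₀ * a₀, mul_mem ha₀ ha₀⟩ with hcA
    have hcent : D.fac.π cA = 1 := (D.fac.kill _).mpr fun b => Subtype.ext (commB D b.2 hcB).symm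
    obtain ⟨k, hk⟩ := exists_sqrt (D.fac.oddKer cA hcent)
    have hk' : (a₀ * a₀) ^ k * (a₀ * a₀) ^ k = a₀ * a₀ := congrArg Subtype.val hk
    set d := (a₀ * a₀) ^ k with hd
    set a := a₀ * d⁻¹ with ha'
    have hdA : d ∈ D.A := pow_mem (mul_mem ha₀ ha₀) k
    have haA : a ∈ D.A := mul_mem ha₀ (inv_mem hdA)
    have had : Commute a₀ d := ((Commute.refl a₀).mul_right (Commute.refl a₀)).pow_right k
    have ha2 : a * a = 1 := by
      rw [ha', had.inv_right.symm.mul_mul_mul_comm, ← mul_inv_rev, hk', mul_inv_cancel]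
    have hxd : x * d * x⁻¹ = d⁻¹ := by
      rw [hd, ← conj_pow, ← inv_pow, eq_inv_of_mul_eq_one_right hsq]
    have et : g * t * g⁻¹ = a * (x * a * x⁻¹) := by
      have hdc : Commute d (x * a₀ * x⁻¹) := commB D hdA (hswap ▸ conj_mem_cj ha₀)
      calc g * t * g⁻¹ = a₀ * (x * a₀ * x⁻¹) := e₀
        _ = a₀ * d⁻¹ * (d * (x * a₀ * x⁻¹)) := by group
        _ = a₀ * d⁻¹ * (x * a₀ * x⁻¹ * (x * d * x⁻¹)⁻¹) := by rw [hdc.eq, hxd, inv_inv]
        _ = a * (x * a * x⁻¹) := by rw [ha']; group
    have haxa : a * x * a⁻¹ = g * t * g⁻¹ * x := by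
      rw [et, inv_eq_of_mul_eq_one_right ha2]; group
    have hc'' : (a * g)⁻¹ * (g * n) ∈ N L := X.cent (mem_centralizer_singleton_iff.mpr (by
      have e1 : g * n * z * (g * n)⁻¹ = a * g * z * (a * g)⁻¹ := by
        calc g * n * z * (g * n)⁻¹ = g * (n * z * n⁻¹) * g⁻¹ := by group
          _ = g * ((t : G) * z) * g⁻¹ := by rw [X.nz]
          _ = g * t * g⁻¹ * x := by rw [hx]; group
          _ = a * x * a⁻¹ := haxa.symm
          _ = _ := by rw [hx]; group
      calc (a * g)⁻¹ * (g * n) * z = (a * g)⁻¹ * (g * n * z * (g * n)⁻¹) * (g * n) := by group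
        _ = (a * g)⁻¹ * (a * g * z * (a * g)⁻¹) * (g * n) := by rw [e1]
        _ = _ := by group))
    refine mem_normalizer_of_cj fun y hy => ?_
    have hle : cj g (EL L n) ≤ EL L n := by
      rw [cj, Subgroup.map_sup]
      refine sup_le (cj_le hgL) ?_
      rintro _ ⟨_, ⟨l, hl, rfl⟩, rfl⟩
      show g * (n * l * n⁻¹) * g⁻¹ ∈ _
      rw [show g * (n * l * n⁻¹) * g⁻¹ =
        a * (g * ((a * g)⁻¹ * (g * n) * l * ((a * g)⁻¹ * (g * n))⁻¹) * g⁻¹) * a⁻¹ by group]
      exact mul_mem (mul_mem (hAE haA) (hgL _ ((mem_normalizer_iff.mp hc'' l).mp hl))) (inv_mem (hAE haA))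
    exact hle (conj_mem_cj hy)

/-- The double case does not occur in a simple group. -/
theorem double_false [IsSimpleGroup G] : False := by
  classical
  set M := normalizer (EL L n : Set G) with hM
  have hperm : ∀ m : ↥M, cj (m : G) D.A = D.A ∨ cj (m : G) D.A = cj z D.A := fun m => perm C D m.2
  have hne := swap_ne C D
  have hsw : ∀ m : ↥M, cj (m : G) D.A ≠ D.A → cj (m : G) (cj z D.A) = D.A := by
    intro m hm
    have hzM : z ∈ M := cent_EL C X F (mem_centralizer_singleton_iff.mpr rfl)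
    rcases perm C D (mul_mem m.2 hzM) with e | e
    · rwa [cj_mul] at e
    · exfalso
      rw [cj_mul] at e
      have e' := (hperm m).resolve_left hm
      have : cj z D.A = D.A := by
        have := congrArg (cj (m : G)⁻¹) (e.trans e'.symm)
        rwa [← cj_mul, ← cj_mul, inv_mul_cancel, one_mul, ← cj_mul, inv_mul_cancel, cj_one] at this
      exact hne this
  let χ : ↥M →* Multiplicative (ZMod 2) := MonoidHom.mk'
    (fun m => if cj (m : G) D.A = D.A then 1 else Multiplicative.ofAdd 1) fun m p => by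
      simp only [coe_mul, cj_mul]
      by_cases hp : cj (p : G) D.A = D.A
      · rw [hp, if_pos rfl, mul_one]
      · rw [(hperm p).resolve_left hp, if_neg hne]
        by_cases hm : cj (m : G) D.A = D.A
        · have : cj (m : G) (cj z D.A) ≠ D.A := fun e => hne (by
            have := congrArg (cj (m : G)⁻¹) (e.trans hm.symm)
            rwa [← cj_mul, ← cj_mul, inv_mul_cancel, one_mul, ← cj_mul, inv_mul_cancel, cj_one] at this)
          rw [if_neg this, if_pos hm, one_mul]
        · rw [if_pos (hsw m hm), if_neg hm]; decide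
  haveI : Fintype (G ⧸ M) := Fintype.ofFinite _
  let V := MonoidHom.transfer χ
  set q0 : G ⧸ M := ((1 : G) : G ⧸ M) with hq0
  have hzM : z ∈ M := cent_EL C X F (mem_centralizer_singleton_iff.mpr rfl)
  have hstab : ∀ x : G, z • (x : G ⧸ M) = x ↔ x⁻¹ * z * x ∈ M := fun x => by
    rw [show z • (x : G ⧸ M) = ((z * x : G) : G ⧸ M) from rfl, eq_comm, QuotientGroup.eq, mul_assoc]
  have hfix : z • q0 = q0 := (hstab 1).mpr (by rw [inv_one, one_mul, mul_one]; exact hzM)
  have hone : ∀ q : G ⧸ M, TransferOrbit.cval χ 1 q = 1 := fun q => by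
    have := TransferOrbit.cval_mul χ 1 1 q
    rw [mul_one, one_smul] at this
    exact mul_eq_right.mp this.symm
  have hrest : ∏ q ∈ (Finset.univ.erase q0), TransferOrbit.cval χ z q = 1 := by
    refine Finset.prod_involution (fun q _ => z • q) (fun q _ => ?_) (fun q hq _ => ?_) (fun q hq => ?_)
      (fun q _ => by rw [← mul_smul, X.z2, one_smul])
    · rw [mul_comm, ← TransferOrbit.cval_mul, X.z2, hone]
    · obtain ⟨x, rfl⟩ := QuotientGroup.mk_surjective q
      intro e
      refine (Finset.ne_of_mem_erase hq) ?_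
      have hx := mem_of_conj C X F D (g := x⁻¹) (by rw [inv_inv]; exact (hstab x).mp e)
      exact QuotientGroup.eq.mpr (by rwa [mul_one])
    · refine Finset.mem_erase.mpr ⟨fun e => Finset.ne_of_mem_erase hq ?_, Finset.mem_univ _⟩
      have := congrArg (fun p => z • p) e
      simp only [← mul_smul, X.z2, one_smul] at this
      rw [this, hfix]
  have hV : V z = Multiplicative.ofAdd 1 := by
    show MonoidHom.transfer χ z = _
    rw [TransferOrbit.transfer_eq_prod, ← Finset.mul_prod_erase _ _ (Finset.mem_univ q0), hrest, mul_one]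
    have hm : (1 : G)⁻¹ * z * 1 ∈ M := by rw [inv_one, one_mul, mul_one]; exact hzM
    refine (TransferOrbit.cval_eq χ (x := (1 : G)) hfix hm).trans ?_
    show (if cj ((1 : G)⁻¹ * z * 1) D.A = D.A then _ else _) = _
    rw [inv_one, one_mul, mul_one, if_neg hne]
  rcases (inferInstance : V.ker.Normal).eq_bot_or_eq_top with h | h
  · obtain ⟨S, hS, hS32⟩ := C.facts.two_part
    have h1 := Nat.card_le_card_of_injective V ((MonoidHom.ker_eq_bot_iff V).mp h)
    have h2 : Nat.card (Multiplicative (ZMod 2)) = 2 := by simp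
    have h3 : Nat.card ↥S ≤ Nat.card G := le_trans (card_le_card_group S) (card_le_card_group L)
    omega
  · have : z ∈ V.ker := h ▸ mem_top z
    rw [MonoidHom.mem_ker, hV] at this
    exact absurd this (by decide)

end Hyp

end CfsgLib.StdM12
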