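import Cfsg.Agent.Lib.StdM12.Fusion

/-!
A perfect subgroup covering the standard subgroup modulo an odd centre, and the fixed points of an involution on it
(blueprint/S1750.md, step 5, the double case).
-/

set_option autoImplicit false
set_option linter.unusedSectionVars false
set_option linter.style.haveILetI false

namespace CfsgLib.StdM12

open Subgroup Cfsg
open scoped commutatorElement

universe u

/-- The facts on the standard subgroup used in the double case. -/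
structure WrFacts (J : Type u) [Group J] (t : J) : Prop where
  sq : t * t = 1
  auto : ∀ a : MulAut J, ∃ c : J, a t = c * t * c⁻¹
  two_aut : ∀ U : Subgroup (MulAut J), IsPGroup 2 ↥U → Nat.card U ≤ 128
  five : ¬ 25 ∣ Nat.card J
  cent : ∀ a : MulAut J, a * a = 1 → ∃ U : Subgroup J, IsPGroup 2 ↥U ∧ (∀ y ∈ U, a y = y) ∧ 8 ≤ Nat.card U
  split : ∀ a : MulAut J, a * a = 1 →
    (∃ U : Subgroup J, IsPGroup 2 ↥U ∧ (∀ y ∈ U, a y = y) ∧ 64 ≤ Nat.card U) ∨
    ∃ p q p' q' : J, a p = p ∧ a q = q ∧ a p' = p' ∧ a q' = q' ∧ ⁅p, q⁆ * ⁅p, q⁆ = 1 ∧ ⁅p', q'⁆ * ⁅p', q'⁆ = 1 ∧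
      (⁅p, q⁆ * ⁅p', q'⁆) ^ 5 = 1 ∧ ⁅p, q⁆ * ⁅p', q'⁆ ≠ 1

variable {G : Type u} [Group G] {L A : Subgroup G}

/-- A perfect subgroup covering the standard subgroup with an odd centre as kernel. -/
structure Factor (L A : Subgroup G) where
  /-- the covering map -/
  π : ↥A →* ↥L
  surj : Function.Surjective π
  kill : ∀ a : ↥A, π a = 1 ↔ ∀ b : ↥A, a * b = b * a
  oddKer : ∀ a : ↥A, π a = 1 → Odd (orderOf a)
  perfect : (⁅(⊤ : Subgroup ↥A), ⊤⁆ : Subgroup ↥A) = ⊤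

theorem exists_sqrt {H : Type*} [Group H] {c : H} (h : Odd (orderOf c)) :
    ∃ k : ℕ, c ^ k * c ^ k = c := by
  obtain ⟨k, hk⟩ := h
  refine ⟨k + 1, ?_⟩
  rw [← pow_add, show k + 1 + (k + 1) = orderOf c + 1 by omega, pow_succ, pow_orderOf_eq_one, one_mul]

theorem eq_one_of_sq {H : Type*} [Group H] {c : H} (h : Odd (orderOf c)) (h2 : c * c = 1) : c = 1 := by
  obtain ⟨k, hk⟩ := exists_sqrt h
  rw [← hk, ← (Commute.refl c).mul_pow, h2, one_pow]

theorem orderOf_odd {H : Type*} [Group H] [Finite H] (W : Subgroup H) (hW : Odd (Nat.card W)) {x : H} (hx : x ∈ W) :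
    Odd (orderOf x) :=
  hW.of_dvd_nat (Subgroup.orderOf_dvd_natCard W hx)

namespace Factor

variable (F : Factor L A)

theorem comm_central {A : Subgroup G} {x : G} (h : ∀ a ∈ A, ∀ b ∈ A, (x * a * x⁻¹ * a⁻¹) * b = b * (x * a * x⁻¹ * a⁻¹))
    (hx : ∀ a ∈ A, x * a * x⁻¹ ∈ A) (F : Factor L A) {a : G} (ha : a ∈ A) : x * a = a * x := by
  let d : ↥A →* ↥A := MonoidHom.mk' (fun a => ⟨x * a * x⁻¹ * (a : G)⁻¹, mul_mem (hx a a.2) (inv_mem a.2)⟩)
    fun a b => Subtype.ext (by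
      show x * ((a : G) * b) * x⁻¹ * ((a : G) * b)⁻¹ = x * a * x⁻¹ * (a : G)⁻¹ * (x * b * x⁻¹ * (b : G)⁻¹)
      calc x * ((a : G) * b) * x⁻¹ * ((a : G) * b)⁻¹
          = x * a * x⁻¹ * ((x * b * x⁻¹ * (b : G)⁻¹) * (a : G)⁻¹) := by group
        _ = x * a * x⁻¹ * ((a : G)⁻¹ * (x * b * x⁻¹ * (b : G)⁻¹)) := by rw [h b b.2 _ (inv_mem a.2)]
        _ = _ := by group)
  have hc : ∀ a b : ↥A, d a * d b = d b * d a := fun a b => Subtype.ext (h a a.2 _ (d b).2)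
  have hk : d.ker = ⊤ := top_le_iff.mp (F.perfect ▸ commutator_le.mpr fun a _ b _ => by
    rw [MonoidHom.mem_ker, map_commutatorElement, commutatorElement_eq_one_iff_mul_comm]
    exact hc a b)
  have e : d ⟨a, ha⟩ = 1 := MonoidHom.mem_ker.mp (hk ▸ mem_top _)
  have e' : x * a * x⁻¹ * a⁻¹ = 1 := congrArg Subtype.val e
  rwa [mul_inv_eq_one, mul_inv_eq_iff_eq_mul] at e'

include F

theorem exists_not_comm [Nontrivial ↥L] : ∃ a ∈ A, ∃ b ∈ A, a * b ≠ b * a := by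
  obtain ⟨y, hy⟩ := exists_ne (1 : ↥L)
  obtain ⟨a, rfl⟩ := F.surj y
  by_contra h
  push Not at h
  exact hy ((F.kill a).mpr fun b => Subtype.ext (h a a.2 b b.2))

/-- Normal subgroups are central or full. -/
theorem normal_cases [IsSimpleGroup ↥L] (N₀ : Subgroup G) (hn : ∀ a ∈ A, ∀ y ∈ N₀, a * y * a⁻¹ ∈ N₀) :
    (∀ y ∈ N₀, y ∈ A → ∀ b ∈ A, y * b = b * y) ∨ A ≤ N₀ := by
  haveI hN : (N₀.subgroupOf A).Normal := ⟨fun y hy a => hn a a.2 y hy⟩
  have himg : ((N₀.subgroupOf A).map F.π).Normal := hN.map _ F.surj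
  rcases himg.eq_bot_or_eq_top with h | h
  · refine Or.inl fun y hy hyA b hb => ?_
    have h1 : F.π ⟨y, hyA⟩ = 1 := by
      rw [← Subgroup.mem_bot, ← h]
      exact ⟨⟨y, hyA⟩, hy, rfl⟩
    exact congrArg Subtype.val ((F.kill _).mp h1 ⟨b, hb⟩)
  · refine Or.inr (subgroupOf_eq_top.mp (top_le_iff.mp (F.perfect ▸ commutator_le.mpr fun a _ b _ => ?_)))
    obtain ⟨a', ha', ea⟩ : ∃ a' ∈ N₀.subgroupOf A, F.π a' = F.π a := (h ▸ mem_top (F.π a) : _ ∈ Subgroup.map _ _)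
    have hc := (F.kill (a'⁻¹ * a)).mp (by rw [map_mul, map_inv, ea, inv_mul_cancel])
    rw [show ⁅a, b⁆ = a' * (b * a'⁻¹ * b⁻¹) from by
      rw [commutatorElement_def]
      calc a * b * a⁻¹ * b⁻¹ = a' * ((a'⁻¹ * a) * b) * (a'⁻¹ * a)⁻¹ * a'⁻¹ * b⁻¹ := by group
        _ = a' * (b * (a'⁻¹ * a)) * (a'⁻¹ * a)⁻¹ * a'⁻¹ * b⁻¹ := by rw [hc b]
        _ = _ := by group]
    exact mul_mem ha' (hN.conj_mem _ (inv_mem ha') b)

variable [Finite G]

theorem card_eq : Nat.card A = Nat.card F.π.ker * Nat.card L := by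
  rw [← card_mul_index F.π.ker, index_ker, MonoidHom.range_eq_top.mpr F.surj, card_top]

theorem lift_invol (y : ↥L) (hy : y * y = 1) : ∃ a : ↥A, F.π a = y ∧ a * a = 1 := by
  obtain ⟨a, rfl⟩ := F.surj y
  obtain ⟨k, hk⟩ := exists_sqrt (F.oddKer (a * a) (by rw [map_mul, hy]))
  refine ⟨a * ((a * a) ^ k)⁻¹, by rw [map_mul, map_inv, map_pow, map_mul, hy, one_pow, inv_one, mul_one], ?_⟩
  have hca : Commute a ((a * a) ^ k)⁻¹ := (((Commute.refl a).mul_right (Commute.refl a)).pow_right k).inv_right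
  calc a * ((a * a) ^ k)⁻¹ * (a * ((a * a) ^ k)⁻¹) = a * (((a * a) ^ k)⁻¹ * a) * ((a * a) ^ k)⁻¹ := by group
    _ = a * (a * ((a * a) ^ k)⁻¹) * ((a * a) ^ k)⁻¹ := by rw [hca.eq]
    _ = a * a * ((a * a) ^ k * (a * a) ^ k)⁻¹ := by group
    _ = 1 := by rw [hk, mul_inv_cancel]

/-- The conjugate covering. -/
noncomputable def map (g : G) : Factor L (cj g A) :=
  let e : ↥A ≃* ↥(cj g A) := A.equivMapOfInjective _ (MulAut.conj g).injective
  { π := F.π.comp e.symm.toMonoidHom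
    surj := F.surj.comp e.symm.surjective
    kill := fun a => by
      show F.π (e.symm a) = 1 ↔ _
      rw [F.kill]
      refine ⟨fun h b => e.symm.injective (by rw [map_mul, map_mul, h]), fun h b => ?_⟩
      have := h (e b)
      simpa using congrArg e.symm this
    oddKer := fun a h => by
      have := F.oddKer (e.symm a) h
      rwa [MulEquiv.orderOf_eq] at this
    perfect := by
      have := congrArg (Subgroup.map e.toMonoidHom) F.perfect
      rwa [map_commutator, Subgroup.map_top_of_surjective _ e.surjective] at this }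

/-- The induced automorphism of an element normalising the subgroup. -/
theorem exists_auto {z : G} (hz : z * z = 1) (hn : ∀ a ∈ A, z * a * z⁻¹ ∈ A) :
    ∃ α : MulAut ↥L, α * α = 1 ∧ ∀ a : ↥A, F.π ⟨z * a * z⁻¹, hn a a.2⟩ = α (F.π a) := by
  have hzi : z⁻¹ = z := inv_eq_of_mul_eq_one_right hz
  let κ : ↥A →* ↥A := MonoidHom.mk' (fun a => ⟨z * a * z⁻¹, hn a a.2⟩) fun a b => Subtype.ext (by simp [mul_assoc])
  have hκκ : ∀ a, κ (κ a) = a := fun a => Subtype.ext (by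
    show z * (z * a * z⁻¹) * z⁻¹ = a
    rw [hzi]
    calc z * (z * (a : G) * z) * z = z * z * a * (z * z) := by group
      _ = a := by rw [hz, one_mul, mul_one])
  have hle : F.π.ker ≤ (F.π.comp κ).ker := fun a ha => by
    rw [MonoidHom.mem_ker] at ha
    rw [MonoidHom.mem_ker, MonoidHom.comp_apply, F.kill]
    intro b
    have := congrArg κ ((F.kill a).mp ha (κ b))
    rwa [map_mul, map_mul, hκκ] at this
  let f : ↥L →* ↥L := F.π.liftOfSurjective F.surj ⟨F.π.comp κ, hle⟩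
  have hf : ∀ a, f (F.π a) = F.π (κ a) := fun a => MonoidHom.liftOfRightInverse_comp_apply _ _ _ _ a
  have hff : f.comp f = MonoidHom.id _ := MonoidHom.ext fun y => by
    obtain ⟨a, rfl⟩ := F.surj y
    rw [MonoidHom.comp_apply, hf, hf, hκκ, MonoidHom.id_apply]
  refine ⟨f.toMulEquiv f hff hff, MulEquiv.ext fun y => DFunLike.congr_fun hff y, fun a => (hf a).symm⟩

/-- Fixed points of the induced automorphism lift. -/
theorem lift_fixed {z : G} (hz : z * z = 1) (hn : ∀ a ∈ A, z * a * z⁻¹ ∈ A) {α : MulAut ↥L}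
    (hα : ∀ a : ↥A, F.π ⟨z * a * z⁻¹, hn a a.2⟩ = α (F.π a)) {y : ↥L} (hy : α y = y) :
    ∃ a : ↥A, F.π a = y ∧ (a : G) * z = z * a := by
  have hzi : z⁻¹ = z := inv_eq_of_mul_eq_one_right hz
  obtain ⟨a, rfl⟩ := F.surj y
  set c : ↥A := a⁻¹ * ⟨z * a * z⁻¹, hn a a.2⟩ with hc
  have hcv : (c : G) = (a : G)⁻¹ * (z * a * z) := by
    show (a : G)⁻¹ * (z * a * z⁻¹) = _
    rw [hzi]
  have hc1 : F.π c = 1 := by rw [hc, map_mul, map_inv, hα, hy, inv_mul_cancel]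
  have hinv : z * (c : G) * z = (c : G)⁻¹ := by
    rw [hcv]
    calc z * ((a : G)⁻¹ * (z * a * z)) * z = z * (a : G)⁻¹ * z * a * (z * z) := by group
      _ = (z⁻¹ * (a : G) * z⁻¹)⁻¹ * a := by rw [hz, mul_one]; group
      _ = _ := by rw [hzi]; group
  obtain ⟨k, hk⟩ := exists_sqrt (F.oddKer c hc1)
  have hk' : (c : G) ^ k * (c : G) ^ k = c := congrArg Subtype.val hk
  refine ⟨a * c ^ k, by rw [map_mul, map_pow, hc1, one_pow, mul_one], ?_⟩
  have hck : z * (c : G) ^ k * z = ((c : G) ^ k)⁻¹ := by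
    rw [← inv_pow, ← hinv]
    nth_rewrite 2 [← hzi]
    rw [← conj_pow, hzi]
  have e : z * ((a : G) * (c : G) ^ k) * z = (a : G) * (c : G) ^ k := by
    calc z * ((a : G) * (c : G) ^ k) * z = z * a * z * (z⁻¹ * (c : G) ^ k * z) := by group
      _ = (a : G) * c * ((c : G) ^ k)⁻¹ := by
          rw [hzi, hck, show z * (a : G) * z = (a : G) * c by rw [hcv]; group]
      _ = _ := by nth_rewrite 1 [← hk']; group
  rw [coe_mul, Subgroup.coe_pow]
  calc (a : G) * (c : G) ^ k * z = z * ((a : G) * (c : G) ^ k) * z * z := by rw [e]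
    _ = z * ((a : G) * (c : G) ^ k) * (z * z) := by group
    _ = _ := by rw [hz, mul_one]

/-- Two-subgroups of fixed points lift. -/
theorem lift_two {z : G} (hz : z * z = 1) (hn : ∀ a ∈ A, z * a * z⁻¹ ∈ A) {α : MulAut ↥L}
    (hα : ∀ a : ↥A, F.π ⟨z * a * z⁻¹, hn a a.2⟩ = α (F.π a)) {U : Subgroup ↥L} (hU : IsPGroup 2 ↥U)
    (hf : ∀ y ∈ U, α y = y) :
    ∃ V : Subgroup G, V ≤ A ⊓ centralizer ({z} : Set G) ∧ IsPGroup 2 ↥V ∧ Nat.card U ≤ Nat.card V := by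
  haveI : Fact (Nat.Prime 2) := ⟨Nat.prime_two⟩
  set H : Subgroup ↥A := U.comap F.π ⊓ (centralizer ({z} : Set G)).subgroupOf A with hH
  let ρ : ↥H →* ↥U := (F.π.comp H.subtype).codRestrict U fun h => h.2.1
  have hρ : Function.Surjective ρ := fun y => by
    obtain ⟨a, ha, hc⟩ := F.lift_fixed hz hn hα (hf y y.2)
    exact ⟨⟨a, mem_comap.mpr (ha ▸ y.2), mem_centralizer_singleton_iff.mpr hc⟩, Subtype.ext ha⟩
  obtain ⟨m, hm⟩ := IsPGroup.iff_card.mp hU
  obtain ⟨V₀, hV₀⟩ := Sylow.exists_subgroup_card_pow_prime (G := ↥H) 2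
    (hm ▸ Subgroup.card_dvd_of_surjective ρ hρ)
  refine ⟨(V₀.map H.subtype).map A.subtype, ?_, ((IsPGroup.of_card hV₀).map _).map _, ?_⟩
  · rintro _ ⟨x, ⟨h, -, rfl⟩, rfl⟩
    exact ⟨((h : ↥H) : ↥A).2, h.2.2⟩
  · rw [card_map_of_injective A.subtype_injective, card_map_of_injective H.subtype_injective, hV₀, hm]

end Factor

end CfsgLib.StdM12
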