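import Cfsg.Agent.Lib.StdM12.Main
import Cfsg.Agent.Lib.TransferExtremal

/-!
The centraliser of an involution of the centraliser of the subgroup and the element fusing it into its product with
a central involution (blueprint/S1750.md, step 4).
-/

set_option autoImplicit false
set_option linter.unusedSectionVars false
set_option linter.style.haveILetI false

namespace CfsgLib.StdM12

open Subgroup Cfsg
open scoped commutatorElement

universe u

/-- The facts on a Sylow subgroup and its central involution used for the fusion. -/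
structure CentFacts {J : Type u} [Group J] (S : Subgroup J) (t : J) : Prop where
  two : IsPGroup 2 ↥S
  max : ∀ U : Subgroup J, IsPGroup 2 ↥U → S ≤ U → U ≤ S
  mem : t ∈ S
  sq : t * t = 1
  ne : t ≠ 1
  derived : t ∈ (⁅centralizer ({t} : Set J), centralizer ({t} : Set J)⁆ : Subgroup J)
  cent_syl : ∀ a : MulAut J, (∀ s ∈ S, a s = s) → a = 1 ∨ a = MulAut.conj t
  square : ∀ x : J, x * x * (x * x) = 1 → x * x ≠ 1 → ∃ c : J, c * (x * x) * c⁻¹ = t
  core : ∀ D : Subgroup J, Odd (Nat.card D) → (∀ d ∈ D, d * t = t * d) →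
    (∀ c : J, c * t = t * c → ∀ d ∈ D, c * d * c⁻¹ ∈ D) → ∀ d ∈ D, d = 1
  outer_invol : ∀ U : Subgroup (MulAut J), IsPGroup 2 ↥U → S.map (MulAut.conj : J →* MulAut J) ≤ U → ∀ a ∈ U,
    a ∉ (MulAut.conj : J →* MulAut J).range →
      ∃ b ∈ U, b ∉ (MulAut.conj : J →* MulAut J).range ∧ b * b = 1

variable {G : Type u} [Group G] [Finite G] {L : Subgroup G}

/-- The exit of the fusion analysis: `W` is the odd part of the centraliser of `L` and `z`. -/
structure Exit (L : Subgroup G) (z : G) (t : ↥L) (W : Subgroup G) (n : G) : Prop where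
  zK : z ∈ K L
  z2 : z * z = 1
  z1 : z ≠ 1
  two_le : ∀ U : Subgroup G, U ≤ K L → IsPGroup 2 ↥U → Nat.card U ≤ 2
  mem_W : ∀ x : G, x ∈ W ↔ x ∈ K L ∧ x * z = z * x ∧ Odd (orderOf x)
  odd_W : Odd (Nat.card W)
  split : ∀ x ∈ K L, x * z = z * x → x ∈ W ∨ x * z ∈ W
  cent : centralizer ({z} : Set G) ≤ N L
  cent_W : centralizer ({z} : Set G) ≤ normalizer (W : Set G)
  not_conj : ∀ g : G, g * z * g⁻¹ ≠ (t : G)
  nz : n * z * n⁻¹ = (t : G) * z
  nt : n * (t : G) * n⁻¹ = t
  nW : n ∈ normalizer (W : Set G)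
  two_n : ∃ k, orderOf n = 2 ^ k

theorem pow_mem_or {x : G} (h : x * x = 1) {y : G} (hy : y ∈ zpowers x) : y = 1 ∨ y = x := by
  obtain ⟨i, rfl⟩ := hy
  rcases Int.even_or_odd' i with ⟨j, rfl | rfl⟩
  · left; simp only [zpow_mul, zpow_two, h, one_zpow]
  · right; simp only [zpow_add_one, zpow_mul, zpow_two, h, one_zpow, one_mul]

/-- A centraliser with Sylow subgroups of order two splits. -/
theorem exists_odd_part {H : Subgroup G} {z : G} (hzH : z ∈ H) (hz2 : z * z = 1) (hz1 : z ≠ 1)
    (hc : ∀ x ∈ H, x * z = z * x) (hcard : ∀ U : Subgroup G, U ≤ H → IsPGroup 2 ↥U → Nat.card U ≤ 2) :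
    ∃ W : Subgroup G, Odd (Nat.card W) ∧ (∀ x, x ∈ W ↔ x ∈ H ∧ Odd (orderOf x)) ∧
      ∀ x ∈ H, x ∈ W ∨ x * z ∈ W := by
  haveI : Fact (Nat.Prime 2) := ⟨Nat.prime_two⟩
  set Z : Subgroup ↥H := (zpowers z).subgroupOf H with hZ
  haveI : Z.Normal := ⟨fun a ha h => by
    rw [hZ, mem_subgroupOf] at ha ⊢
    rcases pow_mem_or hz2 ha with e | e
    · rw [coe_mul, coe_mul, e, mul_one, coe_inv, mul_inv_cancel]; exact one_mem _
    · rw [coe_mul, coe_mul, e, hc _ h.2, mul_assoc, coe_inv, mul_inv_cancel, mul_one]; exact mem_zpowers z⟩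
  have hZc : Nat.card Z = 2 := by
    rw [hZ, Nat.card_congr (subgroupOfEquivOfLe (zpowers_le.mpr hzH)).toEquiv, Nat.card_zpowers,
      orderOf_eq_prime (p := 2) (by rw [pow_two, hz2]) hz1]
  have hidx : Odd Z.index := by
    by_contra he
    rw [Nat.not_odd_iff_even] at he
    obtain ⟨R, hR⟩ := exists_isSyl H
    have h4 : 2 ^ 2 ∣ Nat.card H := by
      rw [← card_mul_index Z, hZc]; exact mul_dvd_mul_left 2 he.two_dvd
    obtain ⟨U, hU⟩ := Sylow.exists_subgroup_card_pow_prime (G := ↥H) 2 h4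
    have := hcard (U.map H.subtype) (map_subtype_le _) ((IsPGroup.of_card hU).map _)
    rw [card_map_of_injective H.subtype_injective, hU] at this
    omega
  obtain ⟨W₀, hW₀⟩ := exists_right_complement'_of_coprime (N := Z) (by rw [hZc]; exact Nat.coprime_two_left.mpr hidx)
  have hW₀c : Nat.card W₀ = Z.index := (hW₀.symm.index_eq_card).symm
  refine ⟨W₀.map H.subtype, ?_, ?_, ?_⟩
  · rw [card_map_of_injective H.subtype_injective, hW₀c]; exact hidx
  · intro x
    constructor
    · rintro ⟨y, hy, rfl⟩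
      refine ⟨y.2, ?_⟩
      show Odd (orderOf (y : G))
      rw [orderOf_coe]
      exact Odd.of_dvd_nat (hW₀c ▸ hidx) (by rw [← orderOf_mk y hy]; exact orderOf_dvd_natCard _)
    · rintro ⟨hx, ho⟩
      obtain ⟨⟨⟨a, ha⟩, ⟨b, hb⟩⟩, hab⟩ := hW₀.2 ⟨x, hx⟩
      rcases pow_mem_or hz2 (mem_subgroupOf.mp ha) with e | e
      · exact ⟨b, hb, by
          have hh : (a : G) * (b : G) = x := congrArg Subtype.val hab
          rwa [e, one_mul] at hh⟩
      · exfalso
        have hxb : x = z * (b : G) := by rw [← e]; exact (congrArg Subtype.val hab).symm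
        have hcomm : Commute z (b : G) := (hc _ b.2).symm
        have hbo : Odd (orderOf (b : G)) := by
          rw [orderOf_coe]
          exact Odd.of_dvd_nat (hW₀c ▸ hidx) (by rw [← orderOf_mk b hb]; exact orderOf_dvd_natCard _)
        have hcop : (orderOf z).Coprime (orderOf (b : G)) := by
          rw [orderOf_eq_prime (p := 2) (by rw [pow_two, hz2]) hz1]; exact Nat.coprime_two_left.mpr hbo
        rw [hxb, hcomm.orderOf_mul_eq_mul_orderOf_of_coprime hcop,
          orderOf_eq_prime (p := 2) (by rw [pow_two, hz2]) hz1, Nat.odd_mul] at ho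
        exact absurd ho.1 (by decide)
  · intro x hx
    obtain ⟨⟨⟨a, ha⟩, ⟨b, hb⟩⟩, hab⟩ := hW₀.2 ⟨x, hx⟩
    rcases pow_mem_or hz2 (mem_subgroupOf.mp ha) with e | e
    · exact Or.inl ⟨b, hb, by
        have hh : (a : G) * (b : G) = x := congrArg Subtype.val hab
        rwa [e, one_mul] at hh⟩
    · refine Or.inr ⟨b, hb, ?_⟩
      have hxb : x = z * (b : G) := by rw [← e]; exact (congrArg Subtype.val hab).symm
      rw [coe_subtype, hxb, mul_assoc, hc _ b.2, ← mul_assoc, hz2, one_mul]

namespace Hyp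

variable (C : Hyp L)
include C

/-- The fusion of an involution of the centraliser with its product with a central involution of the subgroup. -/
theorem exists_exit [IsSimpleGroup G] {SJ : Subgroup ↥L} {t : ↥L} (F : CentFacts SJ t) :
    ∃ (z : G) (W : Subgroup G) (n : G), Exit L z t W n := by
  classical
  haveI : Fact (Nat.Prime 2) := ⟨Nat.prime_two⟩
  haveI := C.facts.simple
  obtain ⟨hcard, z, -, -, -, hzK, hz2, hz1, -⟩ := C.main
  obtain ⟨W, hWodd, hWmem, hWsplit⟩ := exists_odd_part (H := K L ⊓ centralizer ({z} : Set G))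
    ⟨hzK, mem_centralizer_singleton_iff.mpr rfl⟩ hz2 hz1 (fun x hx => mem_centralizer_singleton_iff.mp hx.2)
    (fun U hU hU2 => hcard U (hU.trans inf_le_left) hU2)
  have hW : ∀ x, x ∈ W ↔ x ∈ K L ∧ x * z = z * x ∧ Odd (orderOf x) := fun x => by
    rw [hWmem, mem_inf, mem_centralizer_singleton_iff, and_assoc]
  have hsplit : ∀ x ∈ K L, x * z = z * x → x ∈ W ∨ x * z ∈ W := fun x hx h =>
    hWsplit x ⟨hx, mem_centralizer_singleton_iff.mpr h⟩
  have hWK : ∀ {x}, x ∈ W → x ∈ K L := fun h => ((hW _).mp h).1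
  have hWz : ∀ {x}, x ∈ W → x * z = z * x := fun h => ((hW _).mp h).2.1
  have hcN : centralizer ({z} : Set G) ≤ N L :=
    fun c hc => C.cent_invol hzK hz2 hz1 (mem_centralizer_singleton_iff.mp hc)
  have hcW : centralizer ({z} : Set G) ≤ normalizer (W : Set G) := fun c hc => mem_normalizer_of_le fun x hx => by
    have hcz := mem_centralizer_singleton_iff.mp hc
    refine (hW _).mpr ⟨(C.conj_K (hcN hc)).mpr (hWK hx), ?_, ?_⟩
    · have hcz' : c⁻¹ * z = z * c⁻¹ := (show Commute c z from hcz).inv_left.eq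
      calc c * x * c⁻¹ * z = c * (x * z) * c⁻¹ := by rw [mul_assoc, hcz']; group
        _ = c * z * x * c⁻¹ := by rw [hWz hx]; group
        _ = z * (c * x * c⁻¹) := by rw [hcz]; group
    · rw [← MulAut.conj_apply, MulEquiv.orderOf_eq]; exact ((hW x).mp hx).2.2
  have hzW : z ∉ W := fun h => by
    have := ((hW z).mp h).2.2
    rw [orderOf_eq_prime (p := 2) (by rw [pow_two, hz2]) hz1] at this
    exact absurd this (by decide)
  have hLz : ∀ l : ↥L, (l : G) * z = z * l := fun l => C.commute_K l.2 hzK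
  set Cz := centralizer ({z} : Set G) with hCz
  have hLC : L ≤ Cz := fun l hl => mem_centralizer_singleton_iff.mpr (hLz ⟨l, hl⟩)
  -- commutators of the centraliser avoid the involution
  have hnot : ∀ g : G, g * z * g⁻¹ ≠ (t : G) := by
    intro g hg
    have hDsub : L ⊔ W ≤ Cz := sup_le hLC fun w hw => mem_centralizer_singleton_iff.mpr (hWz hw)
    haveI : ((L ⊔ W).subgroupOf Cz).Normal := (normal_subgroupOf_iff_le_normalizer hDsub).mpr (by
      intro c hc
      refine mem_normalizer_of_le fun x hx => ?_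
      have hle : L ⊔ W ≤ (L ⊔ W).comap (MulAut.conj c).toMonoidHom := by
        refine sup_le (fun l hl => ?_) (fun w hw => ?_)
        · show c * l * c⁻¹ ∈ L ⊔ W
          exact mem_sup_left ((mem_normalizer_iff.mp (hcN hc) l).mp hl)
        · show c * w * c⁻¹ ∈ L ⊔ W
          exact mem_sup_right ((mem_normalizer_iff.mp (hcW hc) w).mp hw)
      have h1 : x ∈ (L ⊔ W).comap (MulAut.conj c).toMonoidHom := hle hx
      exact h1)
    set π := QuotientGroup.mk' ((L ⊔ W).subgroupOf Cz) with hπ
    obtain ⟨σ, hσ⟩ : ∃ σ : ↥Cz, ∀ x : ↥Cz, bar L (hcN x.2) ∉ (MulAut.conj : ↥L →* MulAut ↥L).range →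
        bar L (hcN σ.2) ∉ (MulAut.conj : ↥L →* MulAut ↥L).range := by
      by_cases h : ∃ x : ↥Cz, bar L (hcN x.2) ∉ (MulAut.conj : ↥L →* MulAut ↥L).range
      · obtain ⟨σ, hσ⟩ := h; exact ⟨σ, fun _ _ => hσ⟩
      · exact ⟨1, fun x hx => absurd ⟨x, hx⟩ h⟩
    let zC : ↥Cz := ⟨z, mem_centralizer_singleton_iff.mpr rfl⟩
    have hinner : ∀ x : ↥Cz, bar L (hcN x.2) ∈ (MulAut.conj : ↥L →* MulAut ↥L).range → π x = 1 ∨ π x = π zC := by
      rintro x ⟨l, hl⟩
      obtain ⟨k, hk, e⟩ := C.split (hcN x.2) hl.symm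
      have hkz : k * z = z * k := by
        have hxz := mem_centralizer_singleton_iff.mp x.2
        rw [e, mul_assoc, ← mul_assoc z, ← hLz l, mul_assoc] at hxz
        exact mul_left_cancel hxz
      rcases hsplit k hk hkz with h | h
      · refine Or.inl ((QuotientGroup.eq_one_iff x).mpr ?_)
        rw [mem_subgroupOf, e]
        exact mul_mem (mem_sup_left l.2) (mem_sup_right h)
      · refine Or.inr (QuotientGroup.eq.mpr ?_)
        rw [mem_subgroupOf, coe_mul, coe_inv, e,
          show ((l : G) * k)⁻¹ * z = k⁻¹ * ((l : G)⁻¹ * z) by group,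
          show (l : G)⁻¹ * z = z * (l : G)⁻¹ from (show Commute (l : G) z from hLz l).inv_left.eq, ← mul_assoc]
        refine mul_mem ?_ (mem_sup_left (inv_mem l.2))
        rw [show k⁻¹ * z = (k * z)⁻¹ by
          rw [mul_inv_rev, inv_eq_of_mul_eq_one_right hz2]
          exact ((show Commute k z from hkz).inv_left.eq)]
        exact mem_sup_right (inv_mem h)
    have hzc : ∀ x : ↥Cz, π zC * π x = π x * π zC := fun x => by
      rw [← map_mul, ← map_mul]
      exact congrArg π (Subtype.ext (mem_centralizer_singleton_iff.mp x.2).symm)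
    have hform : ∀ x : ↥Cz, π x = 1 ∨ π x = π zC ∨ π x = π σ ∨ π x = π σ * π zC := by
      intro x
      by_cases hx : bar L (hcN x.2) ∈ (MulAut.conj : ↥L →* MulAut ↥L).range
      · exact (hinner x hx).elim Or.inl fun h => Or.inr (Or.inl h)
      · have h2 : bar L (hcN (σ⁻¹ * x).2) ∈ (MulAut.conj : ↥L →* MulAut ↥L).range := by
          rw [bar_congr (coe_mul _ σ⁻¹ x) _ (mul_mem (inv_mem (hcN σ.2)) (hcN x.2)),
            bar_mul (inv_mem (hcN σ.2)) (hcN x.2), bar_inv (hcN σ.2)]
          exact C.facts.inner_index _ _ (fun h => hσ x hx (inv_mem_iff.mp h)) hx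
        have e : π x = π σ * π (σ⁻¹ * x) := by rw [← map_mul, mul_inv_cancel_left]
        rcases hinner _ h2 with h | h <;> rw [h] at e
        · exact Or.inr (Or.inr (Or.inl (by rw [e, mul_one])))
        · exact Or.inr (Or.inr (Or.inr e))
    have hab : ∀ x y : ↥Cz, π x * π y = π y * π x := by
      intro x y
      have hz' := fun x => (show Commute (π zC) (π x) from hzc x)
      have hσσ : Commute (π σ) (π σ * π zC) := (Commute.refl _).mul_right (hz' σ).symm
      rcases hform x with e | e | e | e <;> rcases hform y with e' | e' | e' | e' <;> rw [e, e'] <;>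
        first
          | rfl
          | simp only [one_mul, mul_one]
          | exact hzc σ
          | exact (hzc σ).symm
          | exact ((hz' σ).mul_right (Commute.refl _)).eq
          | exact ((hz' σ).mul_right (Commute.refl _)).symm.eq
          | exact hσσ.eq
          | exact hσσ.symm.eq
    have hmap : (centralizer ({t} : Set ↥L)).map L.subtype ≤ centralizer ({(t : G)} : Set G) := by
      rintro _ ⟨c, hc, rfl⟩
      exact mem_centralizer_singleton_iff.mpr (congrArg Subtype.val (mem_centralizer_singleton_iff.mp hc))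
    have hcomm : ∀ a ∈ centralizer ({(t : G)} : Set G), ∀ b ∈ centralizer ({(t : G)} : Set G),
        g⁻¹ * ⁅a, b⁆ * g ∈ L ⊔ W := by
      intro a ha b hb
      have hCa : ∀ a ∈ centralizer ({(t : G)} : Set G), g⁻¹ * a * g ∈ Cz := fun a ha => by
        rw [mem_centralizer_singleton_iff] at ha
        rw [hCz, mem_centralizer_singleton_iff, show z = g⁻¹ * (t : G) * g by rw [← hg]; group]
        calc g⁻¹ * a * g * (g⁻¹ * t * g) = g⁻¹ * (a * t) * g := by group
          _ = _ := by rw [ha]; group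
      have h1 : π ⁅(⟨_, hCa a ha⟩ : ↥Cz), ⟨_, hCa b hb⟩⁆ = 1 := by
        rw [map_commutatorElement, commutatorElement_eq_one_iff_mul_comm]; exact hab _ _
      have h2 := (QuotientGroup.eq_one_iff _).mp h1
      rw [mem_subgroupOf] at h2
      convert h2 using 1
      simp only [commutatorElement_def, coe_mul, coe_inv]
      group
    have hz' : z ∈ L ⊔ W := by
      have h1 : (t : G) ∈ (⁅centralizer ({(t : G)} : Set G), centralizer ({(t : G)} : Set G)⁆ : Subgroup G) := by
        refine commutator_mono hmap hmap ?_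
        rw [← map_commutator]
        exact mem_map_of_mem L.subtype F.derived
      have h2 : (⁅centralizer ({(t : G)} : Set G), centralizer ({(t : G)} : Set G)⁆ : Subgroup G) ≤
          (L ⊔ W).comap (MulAut.conj g⁻¹).toMonoidHom := commutator_le.mpr fun a ha b hb => by
        rw [mem_comap]
        show g⁻¹ * ⁅a, b⁆ * g⁻¹⁻¹ ∈ L ⊔ W
        rw [inv_inv]; exact hcomm a ha b hb
      have h3 : g⁻¹ * (t : G) * g⁻¹⁻¹ ∈ L ⊔ W := h2 h1
      rwa [inv_inv, ← hg, show g⁻¹ * (g * z * g⁻¹) * g = z by group] at h3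
    obtain ⟨l, hl, w, hw, e⟩ := CfsgLib.mem_sup_of_le_normalizer (A := W) (W := L)
      (fun w hw => K_le_N (hWK hw)) hz'
    have hl1 : l = 1 := C.inter_cen hl (by
      rw [show l = z * w⁻¹ by rw [← e]; group]
      exact mul_mem hzK (inv_mem (hWK hw)))
    exact hzW (by rw [← e, hl1, one_mul]; exact hw)
  -- a Sylow subgroup of the centraliser
  set TL := SJ.map L.subtype with hTL
  have hTLp : IsPGroup 2 ↥TL := F.two.map _
  have hTLz : TL ≤ normalizer (zpowers z : Set G) := by
    refine le_trans ?_ (centralizer_le_normalizer _)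
    rintro _ ⟨l, -, rfl⟩
    rw [mem_centralizer_iff]
    rintro _ ⟨i, rfl⟩
    exact ((show Commute (l : G) z from hLz l).zpow_right i).eq.symm
  obtain ⟨S, hS, hTS⟩ := exists_isSyl_ge (P := Cz) (U := TL ⊔ zpowers z)
    (sup_le ((map_subtype_le _).trans hLC) (zpowers_le.mpr (mem_centralizer_singleton_iff.mpr rfl)))
    (hTLp.to_sup_of_normal_right' (isPGroup_inv hz2) hTLz)
  have hTLS : TL ≤ S := le_sup_left.trans hTS
  have hzS : z ∈ S := hTS (mem_sup_right (mem_zpowers z))
  have hSN : S ≤ N L := hS.1.trans hcN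
  -- two-elements of the kernel
  have hker : ∀ x ∈ S, x ∈ K L → x = 1 ∨ x = z := by
    intro x hx hxK
    have hxz := mem_centralizer_singleton_iff.mp (hS.1 hx)
    obtain ⟨k, hk⟩ := exists_orderOf_two_pow hS.2.1 hx
    have odd_one : ∀ y : G, Odd (orderOf y) → (∃ j, orderOf y = 2 ^ j) → y = 1 := by
      rintro y ho ⟨j, hj⟩
      rcases j with _ | j
      · exact orderOf_eq_one_iff.mp hj
      · rw [hj, pow_succ] at ho; exact absurd ho (by simp [Nat.odd_mul])
    rcases hsplit x hxK hxz with h | h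
    · exact Or.inl (odd_one x ((hW x).mp h).2.2 ⟨k, hk⟩)
    · refine Or.inr ?_
      have := odd_one _ ((hW _).mp h).2.2 (exists_orderOf_two_pow hS.2.1 (mul_mem hx hzS))
      rw [mul_eq_one_iff_eq_inv, inv_eq_of_mul_eq_one_right hz2] at this
      exact this
  have hSJ : ∀ {x : G} (hx : x ∈ S) {l : ↥L}, bar L (hSN hx) = MulAut.conj l → l ∈ SJ := by
    intro x hx l hl
    let Y := (barMap L S).comap (MulAut.conj : ↥L →* MulAut ↥L)
    have hY : IsPGroup 2 ↥Y := ((hS.2.1.comap_subtype).map _).comap_of_injective _ C.facts.conj_inj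
    exact F.max Y hY (fun s hs => mem_barMap.mpr ⟨_, hSN (hTLS (mem_map_of_mem L.subtype hs)),
      hTLS (mem_map_of_mem L.subtype hs), bar_of_mem s _⟩) (mem_barMap.mpr ⟨x, hSN hx, hx, hl⟩)
  have hinn : ∀ {x : G} (hx : x ∈ S), bar L (hSN hx) ∈ (MulAut.conj : ↥L →* MulAut ↥L).range →
      x ∈ TL ∨ x * z ∈ TL := by
    rintro x hx ⟨l, hl⟩
    obtain ⟨k, hk, e⟩ := C.split (hSN hx) hl.symm
    have hlT : (l : G) ∈ TL := mem_map_of_mem L.subtype (hSJ hx hl.symm)
    have hkS : k ∈ S := by
      rw [show k = (l : G)⁻¹ * x by rw [e]; group]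
      exact mul_mem (inv_mem (hTLS hlT)) hx
    rcases hker k hkS hk with rfl | rfl
    · exact Or.inl (by rwa [e, mul_one])
    · exact Or.inr (by rwa [e, mul_assoc, hz2, mul_one])
  have hzT : z ∉ TL := fun h => hz1 (C.inter_cen (map_subtype_le _ h) hzK)
  have ht2 : (t : G) * t = 1 := by rw [← coe_mul, F.sq, coe_one]
  have ht1 : (t : G) ≠ 1 := fun e => F.ne (Subtype.ext e)
  -- the centre
  have hcentre : ∀ x ∈ S, (∀ s ∈ S, x * s = s * x) → x = 1 ∨ x = z ∨ x = (t : G) ∨ x = (t : G) * z := by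
    intro x hx hc
    have htS : (t : G) ∈ S := hTLS (mem_map_of_mem L.subtype F.mem)
    rcases F.cent_syl (bar L (hSN hx)) fun s hs => Subtype.ext (by
      rw [bar_apply, hc (s : G) (hTLS (mem_map_of_mem L.subtype hs)), mul_inv_cancel_right]) with h | h
    · rcases hker x hx ((bar_eq_one (hSN hx)).mp h) with e | e
      exacts [Or.inl e, Or.inr (Or.inl e)]
    · obtain ⟨k, hk, e⟩ := C.split (hSN hx) h
      rcases hker k (by rw [show k = (t : G)⁻¹ * x by rw [e]; group]; exact mul_mem (inv_mem htS) hx) hk with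
        rfl | rfl
      · exact Or.inr (Or.inr (Or.inl (by rw [e, mul_one])))
      · exact Or.inr (Or.inr (Or.inr e))
  have hG2 : ∀ M : Subgroup G, M.Normal → M.index ≠ 2 := by
    intro M hM h
    rcases hM.eq_bot_or_eq_top with e | e
    · rw [e, index_bot] at h
      obtain ⟨S₀, -, hS₀c⟩ := C.facts.two_part
      have h1 : Nat.card ↥S₀ ≤ Nat.card ↥L := card_le_card_group S₀
      have h2 : Nat.card ↥L ≤ Nat.card G := card_le_card_group L
      omega
    · rw [e, index_top] at h; omega
  -- the Sylow subgroup of the centraliser is not one of the group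
  obtain ⟨B, hB⟩ := hS.2.1.exists_le_sylow
  have hlt : S.subgroupOf (B : Subgroup G) < ⊤ := by
    refine lt_top_iff_ne_top.mpr fun e => ?_
    have hBS : (B : Subgroup G) = S := le_antisymm (subgroupOf_eq_top.mp e) hB
    have hTLn : ∀ x ∈ S, ∀ y ∈ TL, x * y * x⁻¹ ∈ TL := by
      intro x hx y hy
      obtain ⟨l, -, rfl⟩ := id hy
      have h1 : x * (l : G) * x⁻¹ ∈ S := mul_mem (mul_mem hx (hTLS hy)) (inv_mem hx)
      have h2 : x * (l : G) * x⁻¹ ∈ L := (mem_normalizer_iff.mp (hSN hx) _).mp l.2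
      exact mem_map.mpr ⟨⟨_, h2⟩, hSJ h1 (bar_of_mem ⟨_, h2⟩ _), rfl⟩
    have hextremal : ∀ Q : Subgroup G, Q ≤ S → Q.relIndex S = 2 → z ∉ Q → (t : G) ∈ Q → False := by
      intro Q hQ hQi hzQ htQ
      obtain ⟨g, hgQ, hgc⟩ := TransferExtremal.exists_conj hG2 B Q (hBS ▸ hQ) (hBS ▸ hQi) z (by rw [pow_two, hz2])
      rw [hBS] at hgc
      have hfull : centralizer ({g * z * g⁻¹} : Set G) ⊓ S = S := by
        refine eq_of_le_of_card_ge inf_le_right (le_trans ?_ hgc)
        refine card_le_of_le (le_inf ?_ le_rfl)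
        exact hS.1
      have hxc : ∀ s ∈ S, g * z * g⁻¹ * s = s * (g * z * g⁻¹) := fun s hs => by
        have h1 : s ∈ centralizer ({g * z * g⁻¹} : Set G) ⊓ S := by rw [hfull]; exact hs
        exact (mem_centralizer_singleton_iff.mp h1.1).symm
      rcases hcentre _ (hQ hgQ) hxc with h | h | h | h
      · exact hz1 (conj_eq_one_iff.mp h)
      · exact hzQ (h ▸ hgQ)
      · exact hnot g h
      · refine hzQ ?_
        have := mul_mem (inv_mem htQ) (h ▸ hgQ : (t : G) * z ∈ Q)
        rwa [inv_mul_cancel_left] at this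
    have hrel : ∀ Q : Subgroup G, Q ≤ S → z ∉ Q → (∀ x ∈ S, x ∈ Q ∨ x * z ∈ Q) → Q.relIndex S = 2 := by
      intro Q hQ hzQ hor
      rw [relIndex, index_eq_two_iff]
      refine ⟨⟨z, hzS⟩, fun b => ?_⟩
      simp only [mem_subgroupOf, coe_mul]
      rcases hor b b.2 with h | h
      · refine Or.inr ⟨h, fun h' => hzQ ?_⟩
        simpa using mul_mem (inv_mem h) h'
      · refine Or.inl ⟨h, fun h' => hzQ ?_⟩
        simpa using mul_mem (inv_mem h') h
    by_cases hout : ∃ (x : G) (hx : x ∈ S), bar L (hSN hx) ∉ (MulAut.conj : ↥L →* MulAut ↥L).range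
    swap
    · push Not at hout
      exact hextremal TL hTLS (hrel TL hTLS hzT fun x hx => hinn hx (hout x hx)) hzT
        (mem_map_of_mem L.subtype F.mem)
    obtain ⟨x₀, hx₀, hx₀o⟩ := hout
    obtain ⟨b, hbU, hbo, hb2⟩ := F.outer_invol (barMap L S) ((hS.2.1.comap_subtype).map _) (by
      rintro _ ⟨s, hs, rfl⟩
      exact mem_barMap.mpr ⟨_, hSN (hTLS (mem_map_of_mem L.subtype hs)), hTLS (mem_map_of_mem L.subtype hs),
        bar_of_mem s _⟩) _ (mem_barMap.mpr ⟨x₀, hSN hx₀, hx₀, rfl⟩) hx₀o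
    obtain ⟨σ, hσN, hσ, rfl⟩ := mem_barMap.mp hbU
    have hσ2 : σ * σ = 1 ∨ σ * σ = z := hker _ (mul_mem hσ hσ) ((bar_eq_one (mul_mem hσN hσN)).mp (by
      rw [bar_mul hσN hσN]; exact hb2))
    have hdec : ∀ {x : G} (hx : x ∈ S), bar L (hSN hx) ∉ (MulAut.conj : ↥L →* MulAut ↥L).range →
        x * σ⁻¹ ∈ TL ∨ x * σ⁻¹ * z ∈ TL := fun hx ho => hinn (mul_mem hx (inv_mem hσ)) (by
      rw [bar_mul (hSN hx) (inv_mem hσN), bar_inv hσN]
      exact C.facts.inner_index _ _ ho fun h => hbo (inv_mem_iff.mp h))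
    rcases hσ2 with hσ2 | hσ2
    · -- a complement
      set Q := TL ⊔ zpowers σ with hQ
      have hQS : Q ≤ S := sup_le hTLS (zpowers_le.mpr hσ)
      have hσn : zpowers σ ≤ normalizer (TL : Set G) :=
        zpowers_le.mpr (mem_normalizer_of_le fun y hy => hTLn σ hσ y hy)
      have hzQ : z ∉ Q := by
        intro h
        obtain ⟨a, ha, b, hb, e⟩ := CfsgLib.mem_sup_of_le_normalizer (A := zpowers σ) (W := TL) hσn h
        rcases pow_mem_or hσ2 hb with rfl | rfl
        · exact hzT (by rwa [← e, mul_one])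
        · refine hbo ⟨(⟨a, map_subtype_le _ ha⟩ : ↥L)⁻¹, ?_⟩
          have h1 : bar L (mul_mem (L_le_N (map_subtype_le _ ha)) hσN) = 1 := by
            rw [bar_congr e _ (K_le_N hzK), bar_eq_one]; exact hzK
          rw [bar_mul (L_le_N (map_subtype_le _ ha)) hσN,
            bar_of_mem ⟨a, map_subtype_le _ ha⟩ (L_le_N (map_subtype_le _ ha))] at h1
          rw [map_inv, eq_inv_of_mul_eq_one_right h1]
      refine hextremal Q hQS (hrel Q hQS hzQ fun x hx => ?_) hzQ (mem_sup_left (mem_map_of_mem L.subtype F.mem))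
      by_cases hi : bar L (hSN hx) ∈ (MulAut.conj : ↥L →* MulAut ↥L).range
      · exact (hinn hx hi).imp (fun h => mem_sup_left h) fun h => mem_sup_left h
      · rcases hdec hx hi with h | h
        · left
          simpa using mul_mem (mem_sup_left h : x * σ⁻¹ ∈ Q) (mem_sup_right (mem_zpowers σ) : σ ∈ Q)
        · right
          have := mul_mem (mem_sup_left h : x * σ⁻¹ * z ∈ Q) (mem_sup_right (mem_zpowers σ) : σ ∈ Q)
          have hσz : σ * z = z * σ := mem_centralizer_singleton_iff.mp (hS.1 hσ)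
          rwa [show x * σ⁻¹ * z * σ = x * σ⁻¹ * (z * σ) by group, ← hσz,
            show x * σ⁻¹ * (σ * z) = x * z by group] at this
    · -- an element of order four over the outer involution
      have hinvol : ∀ {y : G} (hy : y ∈ S), y * y = 1 →
          bar L (hSN hy) ∈ (MulAut.conj : ↥L →* MulAut ↥L).range := by
        intro y hy hy2
        by_contra hi
        have hσσ : σ * z = z * σ := mem_centralizer_singleton_iff.mp (hS.1 hσ)
        have hcase : ∀ a ∈ TL, ∀ e : G, (e = σ ∨ e = z * σ) → a * e * (a * e) ≠ 1 := by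
          intro a ha e he h
          have he2 : e * e = z := by
            rcases he with rfl | rfl
            · exact hσ2
            · rw [show z * σ * (z * σ) = z * (σ * z) * σ by group, hσσ, ← mul_assoc, hz2, one_mul, hσ2]
          have heS : e ∈ S := by rcases he with rfl | rfl; exacts [hσ, mul_mem hzS hσ]
          refine hzT ?_
          have h' : a * (e * a * e⁻¹) * z = 1 := by rw [← h, ← he2]; group
          rw [show z = (a * (e * a * e⁻¹))⁻¹ from eq_inv_of_mul_eq_one_right h']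
          exact inv_mem (mul_mem ha (hTLn e heS a ha))
        rcases hdec hy hi with h | h
        · exact hcase _ h σ (Or.inl rfl) (by rwa [inv_mul_cancel_right])
        · refine hcase _ h (z * σ) (Or.inr rfl) ?_
          rwa [show y * σ⁻¹ * z * (z * σ) = y * σ⁻¹ * (z * z) * σ by group, hz2, mul_one, inv_mul_cancel_right]
      let I : Subgroup ↥(B : Subgroup G) :=
        ((MulAut.conj : ↥L →* MulAut ↥L).range.comap (normalizerMonoidHom L)).comap
          (inclusion (show (B : Subgroup G) ≤ N L from hBS.le.trans hSN))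
      let ψ : ↥(B : Subgroup G) →* ℤˣ :=
        { toFun := fun x => if x ∈ I then 1 else -1
          map_one' := by simp [one_mem]
          map_mul' := fun a b => by
            by_cases ha : a ∈ I <;> by_cases hb : b ∈ I
            · simp [ha, hb, mul_mem ha hb]
            · simp [ha, hb, (mul_mem_cancel_left ha).not.mpr hb]
            · simp [ha, hb, (mul_mem_cancel_right hb).not.mpr ha]
            · have : a * b ∈ I := by
                show normalizerMonoidHom L (inclusion _ (a * b)) ∈ (MulAut.conj : ↥L →* MulAut ↥L).range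
                rw [map_mul, map_mul]
                exact C.facts.inner_index _ _ ha hb
              simp [ha, hb, this] }
      let V : G →* ℤˣ := MonoidHom.transfer ψ
      haveI : Fintype (Quotient (MulAction.orbitRel (zpowers σ) (G ⧸ (B : Subgroup G)))) := Fintype.ofFinite _
      have hV : V σ = (-1) ^ (B : Subgroup G).index := by
        rw [index_eq_sum_minimalPeriod (B : Subgroup G) σ, ← Finset.prod_pow_eq_pow_sum]
        show MonoidHom.transfer ψ σ = _
        rw [MonoidHom.transfer_eq_prod_quotient_orbitRel_zpowers_quot]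
        refine Finset.prod_congr rfl fun o _ => ?_
        have hdvd : Function.minimalPeriod (σ • ·) o.out ∣ 4 := by
          refine Function.IsPeriodicPt.minimalPeriod_dvd ?_
          show (fun x : G ⧸ (B : Subgroup G) => σ • x)^[4] o.out = o.out
          rw [smul_iterate, show σ ^ 4 = 1 by
            rw [show σ ^ 4 = σ * σ * (σ * σ) by simp only [pow_succ, pow_zero, one_mul, mul_assoc], hσ2, hz2]]
          exact one_smul G _
        have hval : ∀ (m : ℕ) (x : G) (hm : x⁻¹ * σ ^ m * x ∈ (B : Subgroup G)), m ∣ 4 →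
            ψ ⟨x⁻¹ * σ ^ m * x, hm⟩ = (-1) ^ m := by
          intro m x hm hd
          have hmS : x⁻¹ * σ ^ m * x ∈ S := hBS ▸ hm
          show (if _ then (1 : ℤˣ) else -1) = _
          obtain ⟨j, hj, rfl⟩ := (Nat.dvd_prime_pow Nat.prime_two (m := 2)).mp hd
          rcases j with _ | j
          · rw [if_neg]
            · simp
            intro hi
            simp only [I, mem_comap] at hi
            replace hi : bar L (hSN hmS) ∈ (MulAut.conj : ↥L →* MulAut ↥L).range := hi
            have hy2 : x⁻¹ * σ ^ 2 ^ 0 * x * (x⁻¹ * σ ^ 2 ^ 0 * x) = x⁻¹ * z * x := by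
              rw [← hσ2, pow_zero, pow_one]; group
            have hin : x⁻¹ * z * x ∈ L ∧ ∃ w : ↥L, ((w * w : ↥L) : G) = x⁻¹ * z * x := by
              obtain ⟨a, ha, ha'⟩ : ∃ a ∈ TL, a * a = x⁻¹ * z * x := by
                rcases hinn hmS hi with h | h
                · exact ⟨_, h, hy2⟩
                · refine ⟨_, h, ?_⟩
                  have hcz := mem_centralizer_singleton_iff.mp (hS.1 hmS)
                  rw [← hy2]
                  generalize x⁻¹ * σ ^ 2 ^ 0 * x = y at hcz ⊢
                  rw [show y * z * (y * z) = y * (z * y) * z by group, ← hcz,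
                    show y * (y * z) * z = y * y * (z * z) by group, hz2, mul_one]
              exact ⟨ha' ▸ mul_mem (map_subtype_le _ ha) (map_subtype_le _ ha),
                ⟨⟨a, map_subtype_le _ ha⟩, ha'⟩⟩
            obtain ⟨-, w, hw⟩ := hin
            obtain ⟨c, hc⟩ := F.square w (Subtype.ext (by
              rw [coe_mul, hw, coe_one, show x⁻¹ * z * x * (x⁻¹ * z * x) = x⁻¹ * (z * z) * x by group, hz2]
              group)) (fun e => hz1 (by
              rw [e, coe_one] at hw
              rw [show z = x * (x⁻¹ * z * x) * x⁻¹ by group, ← hw]; group))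
            refine hnot ((c : G) * x⁻¹) ?_
            rw [← hc, coe_mul, coe_mul, hw, coe_inv]; group
          · rw [if_pos]
            · rw [pow_succ, mul_comm, pow_mul, neg_one_sq, one_pow]
            simp only [I, mem_comap]
            show bar L (hSN hmS) ∈ (MulAut.conj : ↥L →* MulAut ↥L).range
            refine hinvol hmS ?_
            have hs : σ ^ 2 ^ (j + 1) * σ ^ 2 ^ (j + 1) = 1 := by
              rw [← pow_add, show 2 ^ (j + 1) + 2 ^ (j + 1) = 4 * 2 ^ j by ring, pow_mul,
                show σ ^ 4 = σ * σ * (σ * σ) by simp only [pow_succ, pow_zero, one_mul, mul_assoc], hσ2, hz2, one_pow]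
            rw [show x⁻¹ * σ ^ 2 ^ (j + 1) * x * (x⁻¹ * σ ^ 2 ^ (j + 1) * x) =
              x⁻¹ * (σ ^ 2 ^ (j + 1) * σ ^ 2 ^ (j + 1)) * x by group, hs]
            group
        exact hval _ _ _ hdvd
      have hodd : Odd (B : Subgroup G).index := by
        rw [Nat.odd_iff, ← Nat.two_dvd_ne_zero]
        exact B.not_dvd_index
      rw [hodd.neg_one_pow] at hV
      refine hG2 V.ker inferInstance ?_
      rw [index_ker, show V.range = ⊤ from eq_top_iff.mpr fun x _ => by
        rcases Int.units_eq_one_or x with rfl | rfl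
        exacts [one_mem _, ⟨σ, hV⟩], card_top, Nat.card_eq_fintype_card, Fintype.card_units_int]
  -- the fusing element
  obtain ⟨⟨n, hnB⟩, hn, hnS⟩ := SetLike.exists_of_lt
    (Group.normalizerCondition_of_isNilpotent (h := B.isPGroup'.isNilpotent) _ hlt)
  have hnc : ∀ u ∈ S, n * u * n⁻¹ ∈ S := fun u hu => (mem_normalizer_iff.mp hn ⟨u, hB hu⟩).mp hu
  have hnc' : ∀ u ∈ S, n⁻¹ * u * n ∈ S := fun u hu => by
    have := (mem_normalizer_iff.mp (inv_mem hn) ⟨u, hB hu⟩).mp hu
    simpa [mem_subgroupOf] using this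
  have hnC : ∀ c : G, (∀ s ∈ S, c * s = s * c) → ∀ s ∈ S, n * c * n⁻¹ * s = s * (n * c * n⁻¹) := by
    intro c hc s hs
    have := hc _ (hnc' s hs)
    calc n * c * n⁻¹ * s = n * (c * (n⁻¹ * s * n)) * n⁻¹ := by group
      _ = _ := by rw [this]; group
  have hnz1 : n * z * n⁻¹ ≠ z := by
    intro h
    have hnCz : n ∈ Cz := mem_centralizer_singleton_iff.mpr (mul_inv_eq_iff_eq_mul.mp h)
    have := eq_of_le_of_card_ge (le_sup_left : S ≤ S ⊔ zpowers n) (hS.2.2 _ (sup_le hS.1 (zpowers_le.mpr hnCz))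
      (B.isPGroup'.to_le (sup_le hB (zpowers_le.mpr hnB))))
    exact hnS (show n ∈ S from this ▸ mem_sup_right (mem_zpowers n))
  have hzc : ∀ s ∈ S, z * s = s * z := fun s hs => (mem_centralizer_singleton_iff.mp (hS.1 hs)).symm
  have hnz : n * z * n⁻¹ = (t : G) * z := by
    rcases hcentre _ (hnc z hzS) (hnC z hzc) with h | h | h | h
    · exact absurd (conj_eq_one_iff.mp h) hz1
    · exact absurd h hnz1
    · exact absurd h (hnot n)
    · exact h
  have htS : (t : G) ∈ S := hTLS (mem_map_of_mem L.subtype F.mem)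
  have htc : ∀ s ∈ S, (t : G) * s = s * t := by
    intro s hs
    have h1 := hnC z hzc s hs
    rw [hnz, mul_assoc, hzc s hs, ← mul_assoc, ← mul_assoc] at h1
    exact mul_right_cancel h1
  have hnt : n * (t : G) * n⁻¹ = t := by
    rcases hcentre _ (hnc _ htS) (hnC _ htc) with h | h | h | h
    · exact absurd (conj_eq_one_iff.mp h) ht1
    · exact absurd (show n⁻¹ * z * n⁻¹⁻¹ = (t : G) by rw [← h]; group) (hnot n⁻¹)
    · exact h
    · refine absurd ?_ hz1
      have : (t : G) = z := by
        calc (t : G) = n⁻¹ * (n * t * n⁻¹) * n := by group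
          _ = n⁻¹ * (n * z * n⁻¹) * n := by rw [h, hnz]
          _ = z := by group
      exact C.inter_cen (this ▸ t.2) hzK
  -- the odd part is normalised
  have hnW : n ∈ normalizer (W : Set G) := by
    have hx : ∀ w ∈ W, n * w * n⁻¹ ∈ Cz ∧ n * w * n⁻¹ * (t : G) = t * (n * w * n⁻¹) := by
      intro w hw
      have h1 : n * w * n⁻¹ * (t : G) = t * (n * w * n⁻¹) := by
        have := C.commute_K t.2 (hWK hw)
        calc n * w * n⁻¹ * (t : G) = n * w * n⁻¹ * (n * t * n⁻¹) := by rw [hnt]
          _ = n * (w * t) * n⁻¹ := by group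
          _ = n * ((t : G) * w) * n⁻¹ := by rw [this]
          _ = n * t * n⁻¹ * (n * w * n⁻¹) := by group
          _ = _ := by rw [hnt]
      refine ⟨mem_centralizer_singleton_iff.mpr ?_, h1⟩
      have h2 : n * w * n⁻¹ * ((t : G) * z) = (t : G) * z * (n * w * n⁻¹) := by
        rw [← hnz]
        calc n * w * n⁻¹ * (n * z * n⁻¹) = n * (w * z) * n⁻¹ := by group
          _ = _ := by rw [hWz hw]; group
      rw [← mul_assoc, h1, mul_assoc, mul_assoc (t : G)] at h2
      exact mul_left_cancel h2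
    have hW' : W.map (MulAut.conj n).toMonoidHom ≤ N L := by
      rintro _ ⟨w, hw, rfl⟩; exact hcN (hx w hw).1
    set D := (barMap L (W.map (MulAut.conj n).toMonoidHom)).comap (MulAut.conj : ↥L →* MulAut ↥L) with hD
    have hDodd : Odd (Nat.card D) := by
      have h1 : Nat.card (barMap L (W.map (MulAut.conj n).toMonoidHom)) ∣ Nat.card W := by
        refine (Subgroup.card_map_dvd _ _).trans ?_
        rw [Nat.card_congr (subgroupOfEquivOfLe hW').toEquiv]
        exact Subgroup.card_map_dvd _ _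
      exact Odd.of_dvd_nat hWodd ((card_comap_dvd_of_injective _ _ C.facts.conj_inj).trans h1)
    have hDt : ∀ d ∈ D, d * t = t * d := by
      intro d hd
      obtain ⟨_, hN', ⟨w, hw, rfl⟩, hb⟩ := mem_barMap.mp hd
      refine C.facts.conj_inj ?_
      rw [map_mul, map_mul, ← hb, ← bar_of_mem t (L_le_N t.2), ← bar_mul hN' (L_le_N t.2) (mul_mem hN' (L_le_N t.2)),
        ← bar_mul (L_le_N t.2) hN' (mul_mem (L_le_N t.2) hN')]
      exact bar_congr (hx w hw).2 _ _
    have hDn : ∀ c : ↥L, c * t = t * c → ∀ d ∈ D, c * d * c⁻¹ ∈ D := by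
      intro c hc d hd
      obtain ⟨_, hN', ⟨w, hw, rfl⟩, hb⟩ := mem_barMap.mp hd
      have hc' : (c : G) * t = t * c := congrArg Subtype.val hc
      have hcC : n⁻¹ * (c : G) * n ∈ Cz := by
        rw [hCz, mem_centralizer_singleton_iff]
        have hctz : (c : G) * ((t : G) * z) = (t : G) * z * c := by rw [← mul_assoc, hc', mul_assoc, hLz, ← mul_assoc]
        rw [← hnz] at hctz
        calc n⁻¹ * (c : G) * n * z = n⁻¹ * ((c : G) * (n * z * n⁻¹)) * n := by group
          _ = _ := by rw [hctz]; group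
      show MulAut.conj _ ∈ barMap L _
      have hy : (c : G) * ((MulAut.conj n).toMonoidHom w) * (c : G)⁻¹ ∈ W.map (MulAut.conj n).toMonoidHom :=
        ⟨_, (mem_normalizer_iff.mp (hcW hcC) w).mp hw, show n * (n⁻¹ * (c : G) * n * w * (n⁻¹ * c * n)⁻¹) * n⁻¹ =
          (c : G) * (n * w * n⁻¹) * (c : G)⁻¹ by group⟩
      refine mem_barMap.mpr ⟨_, hW' hy, hy, ?_⟩
      rw [bar_conj (L_le_N c.2) hN', bar_of_mem, map_mul, map_mul, map_inv]
      exact congrArg (fun a => MulAut.conj c * a * (MulAut.conj c)⁻¹) hb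
    have htriv := F.core D hDodd hDt hDn
    refine mem_normalizer_of_le fun w hw => ?_
    have hyN := hW' ⟨w, hw, rfl⟩
    have hodd : Odd (orderOf (n * w * n⁻¹)) := by
      rw [← MulAut.conj_apply, MulEquiv.orderOf_eq]; exact ((hW w).mp hw).2.2
    have hi : bar L hyN ∈ (MulAut.conj : ↥L →* MulAut ↥L).range := by
      by_contra ho
      have ha2 : bar L hyN * bar L hyN ∈ (MulAut.conj : ↥L →* MulAut ↥L).range := C.facts.inner_index _ _ ho ho
      have hpo : Odd (orderOf (bar L hyN)) := Odd.of_dvd_nat hodd (orderOf_dvd_of_pow_eq_one (by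
        rw [show bar L hyN ^ orderOf (n * w * n⁻¹) = normalizerMonoidHom L (⟨_, hyN⟩ ^ orderOf (n * w * n⁻¹)) from
          (map_pow _ _ _).symm, show (⟨_, hyN⟩ : ↥(N L)) ^ orderOf (n * w * n⁻¹) = 1 from
          Subtype.ext (by rw [coe_pow, coe_one]; exact pow_orderOf_eq_one _), map_one]))
      obtain ⟨j, hj⟩ := hpo
      have h2 := pow_orderOf_eq_one (bar L hyN)
      rw [hj, pow_succ, pow_mul, pow_two, mul_eq_one_iff_inv_eq] at h2
      exact ho (h2 ▸ inv_mem (pow_mem ha2 j))
    obtain ⟨d, hd⟩ := hi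
    have hd1 : d = 1 := htriv d (show MulAut.conj d ∈ barMap L _ from mem_barMap.mpr ⟨_, hyN, ⟨w, hw, rfl⟩, hd.symm⟩)
    have hyK : n * w * n⁻¹ ∈ K L := (bar_eq_one hyN).mp (by rw [← hd, hd1, map_one])
    exact (hW _).mpr ⟨hyK, mem_centralizer_singleton_iff.mp (hx w hw).1, hodd⟩
  exact ⟨z, W, n, hzK, hz2, hz1, hcard, hW, hWodd, hsplit, hcN, hcW, hnot, hnz, hnt, hnW,
    exists_orderOf_two_pow B.isPGroup' hnB⟩

end Hyp

end CfsgLib.StdM12
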