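import Cfsg.Agent.Lib.StdM12.Pair
import Cfsg.Agent.Lib.TwoFusion.StrongEmb
import Cfsg.Agent.S1175

/-!
A simple group with such a standard subgroup: the centraliser has Sylow `2`-subgroups of order two and an involution
of it is conjugate to an inner element outside it.
-/

set_option autoImplicit false
set_option linter.unusedSectionVars false

namespace CfsgLib.StdM12

open Subgroup Cfsg

universe u

variable {G : Type u} [Group G] {L : Subgroup G}

/-- A `2`-group normalising a nontrivial `2`-group centralises an involution of it. -/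
theorem exists_fixed_invol [Finite G] {S R : Subgroup G} (hS : IsPGroup 2 ↥S) (hR : IsPGroup 2 ↥R) (hR1 : R ≠ ⊥)
    (hn : S ≤ normalizer (R : Set G)) : ∃ x ∈ R, x * x = 1 ∧ x ≠ 1 ∧ ∀ s ∈ S, s * x = x * s := by
  haveI : Fact (Nat.Prime 2) := ⟨Nat.prime_two⟩
  let F : Subgroup G := R ⊓ centralizer (S : Set G)
  letI : MulAction ↥S ↥R := MulAction.compHom ↥R ((normalizerMonoidHom R).comp (inclusion hn))
  haveI : Nontrivial ↥R := (nontrivial_iff_ne_bot R).mpr hR1
  obtain ⟨n, hn0, hc⟩ := hR.nontrivial_iff_card.mp inferInstance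
  obtain ⟨b, hb, hb1⟩ := hS.exists_fixed_point_of_prime_dvd_card_of_fixed_point ↥R (a := (1 : ↥R))
    (hc ▸ dvd_pow_self 2 hn0.ne') (fun s => map_one ((normalizerMonoidHom R).comp (inclusion hn) s))
  have hbF : (b : G) ∈ F := ⟨b.2, mem_centralizer_iff.mpr fun s hs => mul_inv_eq_iff_eq_mul.mp
    (show s * (b : G) * s⁻¹ = b from congrArg Subtype.val (hb ⟨s, hs⟩))⟩
  obtain ⟨x, hx, hx2, hx1⟩ := exists_invol (hR.to_le (inf_le_left : F ≤ R))
    (fun e => hb1 (Subtype.ext ((mem_bot.mp (e ▸ hbF : (b : G) ∈ (⊥ : Subgroup G))).symm)))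
  exact ⟨x, hx.1, hx2, hx1, fun s hs => mem_centralizer_iff.mp hx.2 s hs⟩

/-- Conjugate to an involution of the centraliser of the subgroup. -/
def Kc (L : Subgroup G) (a : G) : Prop := ∃ w h : G, w ∈ K L ∧ w * w = 1 ∧ w ≠ 1 ∧ a = h * w * h⁻¹

theorem Kc.sq {a : G} (h : Kc L a) : a * a = 1 := by
  obtain ⟨w, h, -, hw2, -, rfl⟩ := h
  rw [show h * w * h⁻¹ * (h * w * h⁻¹) = h * (w * w) * h⁻¹ by group, hw2]; group

theorem Kc.ne_one {a : G} (h : Kc L a) : a ≠ 1 := by
  obtain ⟨w, h, -, -, hw1, rfl⟩ := h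
  exact fun e => hw1 (conj_eq_one_iff.mp e)

theorem Kc.conj {a : G} (h : Kc L a) (s : G) : Kc L (s * a * s⁻¹) := by
  obtain ⟨w, h, hw, hw2, hw1, rfl⟩ := h
  exact ⟨w, s * h, hw, hw2, hw1, by group⟩

/-- A member lies in an affine quadruple. -/
def Quad (X : Set G) (a : G) : Prop :=
  ∃ b c, b ∈ X ∧ c ∈ X ∧ b ≠ a ∧ c ≠ a ∧ b ≠ c ∧ a * b * c ∈ X ∧ a * b * c ≠ a ∧ a * b * c ≠ b ∧ a * b * c ≠ c

namespace Hyp

variable [Finite G] (C : Hyp L)
include C

theorem two_dvd_card_K : 2 ∣ Nat.card (K L) := C.std.2.1.1.two_dvd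

theorem isSyl_ne_bot {R : Subgroup G} (hR : IsSyl (K L) R) : R ≠ ⊥ := by
  haveI : Fact (Nat.Prime 2) := ⟨Nat.prime_two⟩
  obtain ⟨x, hx⟩ := exists_prime_orderOf_dvd_card' (G := ↥(K L)) 2 C.two_dvd_card_K
  rw [← orderOf_coe] at hx
  intro e
  have h1 := hR.2.2 _ (zpowers_le.mpr x.2) (isPGroup_inv (by rw [← pow_two, ← hx, pow_orderOf_eq_one]))
  rw [e, card_bot, Nat.card_zpowers, hx] at h1
  omega

/-- An involution of the centraliser goes outside it within the normaliser. -/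
theorem exists_pair [IsSimpleGroup G] :
    ∃ z g : G, z ∈ K L ∧ z * z = 1 ∧ z ≠ 1 ∧ g * z * g⁻¹ ∈ N L ∧ g * z * g⁻¹ ∉ K L := by
  haveI : Fact (Nat.Prime 2) := ⟨Nat.prime_two⟩
  haveI := C.facts.simple
  by_contra hno
  have hno' : ∀ {z g : G}, z ∈ K L → z * z = 1 → z ≠ 1 → g * z * g⁻¹ ∈ N L → g * z * g⁻¹ ∈ K L :=
    fun {z g} h1 h2 h3 h4 => by_contra fun h => hno ⟨z, g, h1, h2, h3, h4, h⟩
  have hfus : ∀ {z g : G}, z ∈ K L → z * z = 1 → z ≠ 1 → g * z * g⁻¹ ∈ N L → g ∈ N L := by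
    intro z g hz hz2 hz1 hg
    by_contra hgN
    have hk := hno' hz hz2 hz1 hg
    have := C.disjoint hgN hk (conj_mem_cj hz) (ord2 (by
      rw [show g * z * g⁻¹ * (g * z * g⁻¹) = g * (z * z) * g⁻¹ by group, hz2]; group)
      fun e => hz1 (conj_eq_one_iff.mp e))
    exact hz1 (conj_eq_one_iff.mp this)
  obtain ⟨S, hS⟩ := exists_isSyl (N L)
  obtain ⟨R', hR'K, hR'n⟩ := CyclicStandard.exists_invariant_sylow (N := N L) K_le_N
    (fun x hx => mem_normalizer_iff.mpr fun k => (C.conj_K hx).symm) hS.2.1 hS.1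
  set R := (R' : Subgroup ↥(K L)).map (K L).subtype
  have hR : IsSyl (K L) R := isSyl_sylow R'
  have hSR : S ≤ normalizer (R : Set G) := fun s hs => mem_normalizer_of_le (hR'n s hs)
  have hRS : R ≤ S := by
    have := eq_of_le_of_card_ge (le_sup_right : S ≤ R ⊔ S) (hS.2.2 _ (sup_le (hR.1.trans K_le_N) hS.1)
      (hR.2.1.to_sup_of_normal_left' hS.2.1 hSR))
    exact le_sup_left.trans this.symm.le
  obtain ⟨z, hzR, hz2, hz1, hzS⟩ := exists_fixed_invol hS.2.1 hR.2.1 (C.isSyl_ne_bot hR) hSR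
  have hzK := hR.1 hzR
  have hNtop : N L ≠ ⊤ := by
    intro e
    haveI : L.Normal := normalizer_eq_top_iff.mp e
    rcases (inferInstance : L.Normal).eq_bot_or_eq_top with h | h
    · have : Subsingleton ↥L := ⟨fun a b =>
        Subtype.ext ((mem_bot.mp (h ▸ a.2 : (a : G) ∈ (⊥ : Subgroup G))).trans
          (mem_bot.mp (h ▸ b.2 : (b : G) ∈ (⊥ : Subgroup G))).symm)⟩
      exact not_subsingleton ↥L this
    · exact hz1 (C.inter_cen (h ▸ mem_top z) hzK)
  have h2c : ∃ Y : Sylow 2 G, z ∈ Y ∧ ∀ s ∈ Y, Commute s z := by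
    obtain ⟨Y, hY⟩ := hS.2.1.exists_le_sylow
    refine ⟨Y, hY (hRS hzR), fun s hs => ?_⟩
    have hSY : S = (Y : Subgroup G) := by
      by_contra hne
      have hlt : S.subgroupOf (Y : Subgroup G) < ⊤ := lt_top_iff_ne_top.mpr fun e => hne
        (le_antisymm hY (subgroupOf_eq_top.mp e))
      obtain ⟨x, hx, hxS⟩ := SetLike.exists_of_lt
        (Group.normalizerCondition_of_isNilpotent (h := Y.isPGroup'.isNilpotent) _ hlt)
      have hxn : ∀ u ∈ S, (x : G) * u * (x : G)⁻¹ ∈ S := fun u hu =>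
        (mem_normalizer_iff.mp hx ⟨u, hY hu⟩).mp hu
      have hxN : (x : G) ∈ N L := hfus hzK hz2 hz1 (hS.1 (hxn z (hRS hzR)))
      have := eq_of_le_of_card_ge (le_sup_left : S ≤ S ⊔ zpowers (x : G))
        (hS.2.2 _ (sup_le hS.1 (zpowers_le.mpr hxN))
          (Y.isPGroup'.to_le (sup_le hY (zpowers_le.mpr x.2))))
      exact hxS (show (x : G) ∈ S from this ▸ mem_sup_right (mem_zpowers _))
    exact hzS s (hSY ▸ hs)
  obtain ⟨H, hH⟩ := Cfsg.Agent.S1175.result (N L) hNtop z (orderOf_eq_prime (by rw [pow_two, hz2]) hz1)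
    (K_le_N hzK) h2c (fun g hg => hfus hzK hz2 hz1 hg) (fun g hcom hne => by
      set z' := g * z * g⁻¹ with hz'
      have hz'N : z' ∈ N L := C.cent_invol hzK hz2 hz1 hcom.symm.eq
      have hz'K : z' ∈ K L := hno' hzK hz2 hz1 hz'N
      have hz'2 : z' * z' = 1 := by
        rw [hz', show g * z * g⁻¹ * (g * z * g⁻¹) = g * (z * z) * g⁻¹ by group, hz2]; group
      intro c hc
      refine C.cent_invol (mul_mem hzK hz'K) ?_ ?_ (mem_centralizer_singleton_iff.mp hc)
      · rw [show z * z' * (z * z') = z * (z' * z) * z' by group, ← hcom.eq,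
          show z * (z * z') * z' = z * z * (z' * z') by group, hz2, hz'2, mul_one]
      · intro e
        exact hne (mul_left_cancel (e.trans hz2.symm)))
  obtain ⟨S₀, hS₀, hS₀c⟩ := C.facts.two_part
  obtain ⟨l, hlL, hl2, hl1⟩ := exists_invol hS₀ (fun e => by rw [e, card_bot] at hS₀c; omega)
  obtain ⟨g, hg⟩ := isConj_iff.mp (StrongEmb.all_isConj hH (orderOf_eq_prime (by rw [pow_two, hz2]) hz1)
    (b := (l : G)) (orderOf_eq_prime (by rw [pow_two, ← coe_mul, hl2, coe_one]) fun e => hl1 (Subtype.ext e)))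
  refine hl1 (Subtype.ext (C.inter_cen l.2 ?_))
  rw [← hg]
  exact hno' hzK hz2 hz1 (by rw [hg]; exact L_le_N l.2)

/-- Not all members outside the centraliser are outer. -/
theorem false_of_all_outer
    (hout : ∀ g : G, g ∉ N L → ∀ (y : G) (hy : y ∈ P L g), y * y = 1 → y ≠ 1 →
      bar L hy.2 ∉ (MulAut.conj : ↥L →* MulAut ↥L).range)
    {z₀ g : G} (hz₀ : z₀ ∈ K L) (hz₀2 : z₀ * z₀ = 1) (hz₀1 : z₀ ≠ 1) (hyN : g * z₀ * g⁻¹ ∈ N L)
    (hyK : g * z₀ * g⁻¹ ∉ K L) : False := by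
  classical
  haveI : Fact (Nat.Prime 2) := ⟨Nat.prime_two⟩
  set y := g * z₀ * g⁻¹ with hy_def
  have hg : g ∉ N L := fun h => hyK ((C.conj_K h).mpr hz₀)
  have hyP : y ∈ P L g := ⟨conj_mem_cj hz₀, hyN⟩
  have hy2 : y * y = 1 := by
    rw [hy_def, show g * z₀ * g⁻¹ * (g * z₀ * g⁻¹) = g * (z₀ * z₀) * g⁻¹ by group, hz₀2]; group
  have hy1 : y ≠ 1 := fun e => hz₀1 (conj_eq_one_iff.mp e)
  obtain ⟨T, hT⟩ := exists_isSyl (P L g)
  have hT2 : Nat.card T ≤ 2 := by
    by_contra h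
    obtain ⟨v, -, hv2, hv1, hvQ, -⟩ := C.big_facts hg hT (by omega)
    exact hout g hg (v : G) ⟨hvQ, L_le_N v.2⟩ (by rw [← coe_mul, hv2, coe_one]) (fun e => hv1 (Subtype.ext e))
      ⟨v, (bar_of_mem v _).symm⟩
  -- an involution of the centraliser commuting with the pair
  obtain ⟨R', -, hR'n⟩ := CyclicStandard.exists_invariant_sylow (N := N L) K_le_N
    (fun x hx => mem_normalizer_iff.mpr fun k => (C.conj_K hx).symm) (isPGroup_inv hy2) (zpowers_le.mpr hyN)
  obtain ⟨z, hzR, hz2, hz1, hzy⟩ := exists_fixed_invol (isPGroup_inv hy2) (isSyl_sylow R').2.1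
    (C.isSyl_ne_bot (isSyl_sylow R')) (fun s hs => mem_normalizer_of_le (hR'n s hs))
  have hzK : z ∈ K L := (isSyl_sylow R').1 hzR
  have hzy' : y * z = z * y := hzy y (mem_zpowers y)
  -- the automorphism of the pair
  set a := bar L hyN with ha
  have ha2 : a * a = 1 := by
    rw [ha, ← bar_mul hyN hyN (mul_mem hyN hyN), bar_eq_one, hy2]; exact one_mem _
  have haI : a ∉ (MulAut.conj : ↥L →* MulAut ↥L).range := hout g hg y hyP hy2 hy1
  obtain ⟨hfix8, hfixT⟩ := C.facts.quad a ha2 haI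
  obtain ⟨T₃, -, hT₃a, hT₃c, hT₃2, -⟩ := hfixT ⊥ IsPGroup.of_bot (fun s hs => by
    rw [mem_bot.mp hs, map_one])
  have hT₃comm : ∀ e ∈ T₃, ∀ f ∈ T₃, e * f = f * e := fun e he f hf => by
    have h := hT₃2 _ (mul_mem he hf)
    calc e * f = (e * f)⁻¹ := (inv_eq_of_mul_eq_one_right h).symm
      _ = f * e := by rw [mul_inv_rev, inv_eq_of_mul_eq_one_right (hT₃2 _ he), inv_eq_of_mul_eq_one_right (hT₃2 _ hf)]
  have hyfix : ∀ e ∈ T₃, y * (e : G) = e * y := fun e he => mul_inv_eq_iff_eq_mul.mp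
    ((bar_apply hyN e).symm.trans (congrArg Subtype.val (hT₃a e he)))
  set gens : Set G := {z, y} ∪ ((T₃.map L.subtype : Subgroup G) : Set G) with hgens
  set E : Subgroup G := closure gens with hE
  have hgc : gens ⊆ (centralizer gens : Subgroup G) := by
    intro p hp
    rw [SetLike.mem_coe, mem_centralizer_iff]
    intro q hq
    rcases hq with (rfl | rfl) | ⟨e, he, rfl⟩ <;> rcases hp with (rfl | rfl) | ⟨f, hf, rfl⟩
    all_goals first
      | rfl
      | exact hzy'
      | exact hzy'.symm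
      | exact (C.commute_K f.2 hzK).symm
      | exact (C.commute_K e.2 hzK)
      | exact hyfix _ hf
      | exact (hyfix _ he).symm
      | exact congrArg Subtype.val (hT₃comm e he f hf)
  have hEc : E ≤ centralizer (E : Set G) := by
    rw [hE, centralizer_closure, closure_le]; exact hgc
  have hEcomm : ∀ p ∈ E, ∀ q ∈ E, q * p = p * q := fun p hp q hq => mem_centralizer_iff.mp (hEc hp) q hq
  have hE2 : ∀ p ∈ E, p * p = 1 := by
    intro p hp
    induction hp using closure_induction with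
    | mem p hp =>
      rcases hp with (rfl | rfl) | ⟨e, he, rfl⟩
      · exact hz2
      · exact hy2
      · rw [← map_mul, hT₃2 e he, map_one]
    | one => exact mul_one 1
    | mul p q hp' hq' hp hq =>
      rw [show p * q * (p * q) = p * (q * p) * q by group, hEcomm p hp' q hq', show p * (p * q) * q = p * p * (q * q)
        by group, hp, hq, mul_one]
    | inv p _ hp => rw [← mul_inv_rev, hp, inv_one]
  have hEp : IsPGroup 2 ↥E := fun p => ⟨1, Subtype.ext (by rw [pow_one, pow_two, coe_mul, coe_one]; exact hE2 p p.2)⟩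
  have hzE : z ∈ E := subset_closure (Or.inl (Or.inl rfl))
  have hyE : y ∈ E := subset_closure (Or.inl (Or.inr rfl))
  have hTE : ∀ e ∈ T₃, (e : G) ∈ E := fun e he => subset_closure (Or.inr (mem_map_of_mem L.subtype he))
  have hEN : E ≤ N L := by
    rw [hE, closure_le]
    rintro p ((rfl | rfl) | ⟨e, -, rfl⟩)
    exacts [K_le_N hzK, hyN, L_le_N e.2]
  set W : Subgroup G := centralizer ({y} : Set G) ⊓ N L with hW
  have hEW : E ≤ W := fun p hp => ⟨mem_centralizer_singleton_iff.mpr (hEcomm y hyE p hp), hEN hp⟩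
  -- the order of a two-subgroup of the centraliser of the pair in the normaliser
  have hup : ∀ U : Subgroup G, U ≤ W → IsPGroup 2 ↥U → Nat.card U ≤ 32 := by
    intro U hU hU2
    let f : ↥U →* MulAut ↥L := (normalizerMonoidHom L).comp (inclusion (hU.trans inf_le_right))
    have hker : Nat.card f.ker ≤ 2 := by
      rw [← card_map_of_injective U.subtype_injective]
      have h2' : IsPGroup 2 ↥(f.ker.map U.subtype) := hU2.to_le (map_subtype_le _)
      by_cases hb : f.ker.map U.subtype = ⊥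
      · rw [hb, card_bot]; omega
      refine (C.bound hg ?_ h2' hb ?_ hT).trans hT2
      · rintro _ ⟨u, hu, rfl⟩; exact (bar_eq_one (hU u.2).2).mp hu
      · rintro _ ⟨u, -, rfl⟩
        exact C.mem_norm_cj hyP.1 hy2 hy1 (mem_centralizer_singleton_iff.mp (hU u.2).1)
    have hcom : ∀ x ∈ f.range, x * a = a * x := by
      rintro _ ⟨u, rfl⟩
      show bar L (hU u.2).2 * a = a * bar L (hU u.2).2
      rw [ha, ← bar_mul _ _ (mul_mem (hU u.2).2 hyN), ← bar_mul _ _ (mul_mem hyN (hU u.2).2)]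
      exact bar_congr (mem_centralizer_singleton_iff.mp (hU u.2).1) _ _
    set M := f.range ⊔ zpowers a with hM
    have hMa : M ≤ centralizer ({a} : Set (MulAut ↥L)) :=
      sup_le (fun x hx => mem_centralizer_singleton_iff.mpr (hcom x hx))
        (zpowers_le.mpr (mem_centralizer_singleton_iff.mpr rfl))
    have hMp : IsPGroup 2 ↥M := by
      refine (hU2.of_surjective f.rangeRestrict f.rangeRestrict_surjective).to_sup_of_normal_right'
        (isPGroup_inv ha2) ?_
      refine le_trans ?_ (centralizer_le_normalizer _)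
      intro x hx
      rw [mem_centralizer_iff]
      rintro _ ⟨i, rfl⟩
      exact ((show Commute x a from hcom x hx).zpow_right i).eq.symm
    set S := M.comap (MulAut.conj : ↥L →* MulAut ↥L) with hS
    have hS8 : Nat.card S ≤ 8 := hfix8 S (hMp.comap_of_injective _ C.facts.conj_inj) fun s hs =>
      C.facts.conj_inj (by
        rw [← conj_aut]
        exact mul_inv_eq_iff_eq_mul.mpr (mem_centralizer_singleton_iff.mp (hMa hs)).symm)
    have hrange : Nat.card f.range ≤ 2 * Nat.card S := by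
      have hdec : ∀ x : f.range, ∃ (b : Bool) (s : S), (x : MulAut ↥L) = MulAut.conj (s : ↥L) * cond b a 1 := by
        intro x
        by_cases hx : (x : MulAut ↥L) ∈ (MulAut.conj : ↥L →* MulAut ↥L).range
        · obtain ⟨s, hs⟩ := hx
          exact ⟨false, ⟨s, show MulAut.conj s ∈ M by rw [hs]; exact mem_sup_left x.2⟩, by simp [hs]⟩
        · obtain ⟨s, hs⟩ := C.facts.inner_index _ _ hx haI
          have hsM : MulAut.conj s ∈ M := by
            rw [hs]; exact mul_mem (mem_sup_left x.2) (mem_sup_right (mem_zpowers a))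
          refine ⟨true, ⟨s, hsM⟩, ?_⟩
          show (x : MulAut ↥L) = MulAut.conj s * a
          rw [hs, mul_assoc, ha2, mul_one]
      choose b s hbs using hdec
      haveI : Finite ↥S := inferInstance
      refine (Nat.card_le_card_of_injective (fun x => (b x, s x)) fun p q h => Subtype.ext ?_).trans ?_
      · simp only [Prod.mk.injEq] at h
        rw [hbs p, hbs q, h.1, h.2]
      · rw [Nat.card_prod, Nat.card_eq_fintype_card (α := Bool), Fintype.card_bool]
    calc Nat.card U = f.ker.index * Nat.card f.ker := (index_mul_card _).symm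
      _ = Nat.card f.range * Nat.card f.ker := by rw [index_ker]
      _ ≤ 2 * 8 * 2 := Nat.mul_le_mul (hrange.trans (by omega)) hker
  have h32 : 32 ≤ Nat.card E := by
    have hmem : ∀ p : Bool × Bool × T₃, cond p.1 z 1 * cond p.2.1 y 1 * (p.2.2 : G) ∈ E := by
      rintro ⟨i, j, e⟩
      refine mul_mem (mul_mem ?_ ?_) (hTE _ e.2)
      · cases i; exacts [one_mem _, hzE]
      · cases j; exacts [one_mem _, hyE]
    have := Nat.card_le_card_of_injective
      (fun p : Bool × Bool × T₃ => (⟨_, hmem p⟩ : E)) (by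
      rintro ⟨i, j, e⟩ ⟨i', j', e'⟩ h
      have h' : cond i z 1 * cond j y 1 * (e : G) = cond i' z 1 * cond j' y 1 * (e' : G) := congrArg Subtype.val h
      have hb : ∀ (i j : Bool) (e : T₃), bar L (hEN (hmem (i, j, e))) =
          cond j a 1 * MulAut.conj ((e : T₃) : ↥L) := by
        intro i j e
        have h1 : cond i z 1 * cond j y 1 ∈ N L := mul_mem (by cases i; exacts [one_mem _, K_le_N hzK])
          (by cases j; exacts [one_mem _, hyN])
        rw [bar_mul h1 (L_le_N (e : ↥L).2), bar_of_mem,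
          bar_mul (by cases i; exacts [one_mem _, K_le_N hzK]) (by cases j; exacts [one_mem _, hyN]),
          (bar_eq_one _).mpr (show cond i z 1 ∈ K L by cases i; exacts [one_mem _, hzK]), one_mul]
        cases j
        · rw [(bar_eq_one (x := cond false y 1) _).mpr (one_mem _)]; rfl
        · rfl
      have hb' : cond j a 1 * MulAut.conj (e : ↥L) = cond j' a 1 * MulAut.conj (e' : ↥L) := by
        rw [← hb i j e, ← hb i' j' e']; exact bar_congr h' _ _
      have hj : j = j' := by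
        cases j <;> cases j'
        · rfl
        · refine absurd ⟨(e : ↥L) * (e' : ↥L)⁻¹, ?_⟩ haI
          simp only [cond_true, cond_false, one_mul] at hb'
          rw [map_mul, map_inv, hb', mul_inv_cancel_right]
        · refine absurd ⟨(e' : ↥L) * (e : ↥L)⁻¹, ?_⟩ haI
          rw [map_mul, map_inv]
          simp only [cond_true, cond_false, one_mul] at hb'
          rw [← hb', mul_inv_cancel_right]
        · rfl
      subst hj
      have he : e = e' := Subtype.ext (C.facts.conj_inj (mul_left_cancel hb'))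
      subst he
      have hi : cond i z 1 = cond i' z 1 := mul_right_cancel (mul_right_cancel h')
      cases i <;> cases i'
      · rfl
      · exact absurd hi.symm hz1
      · exact absurd hi hz1
      · rfl)
    simpa [Nat.card_prod, hT₃c] using this
  -- a larger two-group in the centraliser of the pair
  obtain ⟨S₀, hS₀, hS₀c⟩ := C.facts.two_part
  set S₁ := S₀.map L.subtype with hS₁
  set V := cj g (S₁ ⊔ zpowers z₀) with hV
  have hS₁L : S₁ ≤ L := map_subtype_le _
  have hVp : IsPGroup 2 ↥V := by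
    refine isPGroup_cj ((hS₀.map _).to_sup_of_normal_right' (isPGroup_inv hz₀2) ?_)
    refine le_trans ?_ (centralizer_le_normalizer _)
    intro x hx
    rw [mem_centralizer_iff]
    rintro _ ⟨i, rfl⟩
    exact ((show Commute x z₀ from C.commute_K (hS₁L hx) hz₀).zpow_right i).eq.symm
  have hVy : V ≤ centralizer ({y} : Set G) := by
    refine cj_le (fun x hx => ?_)
    have hx' : x ∈ centralizer ({z₀} : Set G) := (sup_le (fun l hl => mem_centralizer_singleton_iff.mpr
      (C.commute_K (hS₁L hl) hz₀)) (zpowers_le.mpr (mem_centralizer_singleton_iff.mpr rfl)) :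
        S₁ ⊔ zpowers z₀ ≤ _) hx
    rw [mem_centralizer_singleton_iff] at hx' ⊢
    rw [hy_def, show g * x * g⁻¹ * (g * z₀ * g⁻¹) = g * (x * z₀) * g⁻¹ by group, hx']; group
  have hVc : 32 < Nat.card V := by
    rw [hV, card_cj]
    by_contra h
    have h1 : Nat.card (S₁ ⊔ zpowers z₀ : Subgroup G) ≤ Nat.card S₁ := by
      have hc₁ : Nat.card S₁ = Nat.card S₀ := by rw [hS₁, card_map_of_injective L.subtype_injective]
      omega
    have := eq_of_le_of_card_ge (le_sup_left : S₁ ≤ S₁ ⊔ zpowers z₀) h1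
    exact hz₀1 (C.inter_cen (hS₁L (this ▸ mem_sup_right (mem_zpowers z₀))) hz₀)
  obtain ⟨B, hB, hEB⟩ := exists_isSyl_ge (P := centralizer ({y} : Set G)) (hEW.trans inf_le_left) hEp
  have hlt : E.subgroupOf B < ⊤ := lt_top_iff_ne_top.mpr fun e => by
    have := hB.2.2 V hVy hVp
    have hEB' := card_le_of_le (subgroupOf_eq_top.mp e)
    have := hup E hEW hEp
    omega
  obtain ⟨⟨s, hsB⟩, hs, hsE⟩ := SetLike.exists_of_lt
    (Group.normalizerCondition_of_isNilpotent (h := hB.2.1.isNilpotent) _ hlt)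
  have hsn : ∀ u ∈ E, s * u * s⁻¹ ∈ E := fun u hu => (mem_normalizer_iff.mp hs ⟨u, hEB hu⟩).mp hu
  have hsn' : ∀ u ∈ E, s⁻¹ * u * s ∈ E := fun u hu => by
    have := (mem_normalizer_iff.mp (inv_mem hs) ⟨u, hEB hu⟩).mp hu
    simpa [mem_subgroupOf] using this
  have hsN : s ∉ N L := by
    intro hsN
    have := eq_of_le_of_card_ge (le_sup_left : E ≤ E ⊔ zpowers s)
      ((hup _ (sup_le hEW (zpowers_le.mpr ⟨hB.1 hsB, hsN⟩))
        (hB.2.1.to_le (sup_le hEB (zpowers_le.mpr hsB)))).trans h32)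
    exact hsE (show s ∈ E from this ▸ mem_sup_right (mem_zpowers _))
  -- the members and their quadruples
  set X : Set G := {x | x ∈ E ∧ Kc L x} with hX
  have hzX : z ∈ X := ⟨hzE, z, 1, hzK, hz2, hz1, by group⟩
  have hbar : ∀ {p q : G} (hp : p ∈ E) (hq : q ∈ E), bar L (hEN (mul_mem hp hq)) = bar L (hEN hp) * bar L (hEN hq) :=
    fun hp hq => bar_mul _ _ _
  have houter : ∀ x, ∀ hx : x ∈ E, Kc L x → x ≠ z →
      bar L (hEN hx) ∉ (MulAut.conj : ↥L →* MulAut ↥L).range := by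
    intro x hx hk hne
    by_cases hxK : x ∈ K L
    · exfalso
      -- the members in the centraliser
      refine hne ?_
      have hxz : x * z = z * x := hEcomm z hzE x hx
      have hle : closure ({x, z} : Set G) ≤ E ⊓ K L := by
        rw [closure_le]
        rintro w (rfl | rfl)
        exacts [⟨hx, hxK⟩, ⟨hzE, hzK⟩]
      have hn : closure ({x, z} : Set G) ≤ normalizer (cj g (K L) : Set G) := fun w hw =>
        C.mem_norm_cj hyP.1 hy2 hy1 (hEcomm y hyE w (hle hw).1)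
      have h2' : IsPGroup 2 ↥(closure ({x, z} : Set G)) := hEp.to_le (hle.trans inf_le_left)
      have hne' : closure ({x, z} : Set G) ≠ ⊥ := fun e =>
        hz1 (mem_bot.mp (e ▸ subset_closure (Or.inr rfl) : z ∈ (⊥ : Subgroup G)))
      have hc := (C.bound hg (hle.trans inf_le_right) h2' hne' hn hT).trans hT2
      have heq := eq_of_le_of_card_ge (zpowers_le.mpr (subset_closure (Or.inr rfl)) :
        zpowers z ≤ closure ({x, z} : Set G)) (by
          rw [Nat.card_zpowers, orderOf_eq_prime (p := 2) (by rw [pow_two, hz2]) hz1]; exact hc)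
      obtain ⟨i, hi⟩ : x ∈ zpowers z := heq ▸ subset_closure (Or.inl rfl)
      rcases Int.even_or_odd' i with ⟨j, rfl | rfl⟩
      · exact absurd (hi.symm.trans (by simp only [zpow_mul, zpow_two, hz2, one_zpow])) hk.ne_one
      · exact hi.symm.trans (by simp only [zpow_add_one, zpow_mul, zpow_two, hz2, one_zpow, one_mul])
    · obtain ⟨w, h, hw, hw2, hw1, e⟩ := hk
      have hh : h ∉ N L := fun hh => hxK (e ▸ (C.conj_K hh).mpr hw)
      exact hout h hh x ⟨e ▸ conj_mem_cj hw, hEN hx⟩ (hE2 x hx)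
        (by rw [e]; exact fun e' => hw1 (conj_eq_one_iff.mp e'))
  have noquad : ¬ Quad X z := by
    rintro ⟨b, c, ⟨hbE, hbk⟩, ⟨hcE, hck⟩, hbz, hcz, -, ⟨hdE, hdk⟩, hd, -, -⟩
    refine houter _ hdE hdk hd ?_
    rw [hbar (mul_mem hzE hbE) hcE, hbar hzE hbE, (bar_eq_one (hEN hzE)).mpr hzK, one_mul]
    exact C.facts.inner_index _ _ (houter b hbE hbk hbz) (houter c hcE hck hcz)
  have hquad : ∀ x ∈ X, x ≠ z → Quad X x := by
    rintro x ⟨hx, hk⟩ hne
    set α := bar L (hEN hx) with hα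
    obtain ⟨h8', hT'⟩ := C.facts.quad α (by
      rw [hα, ← hbar hx hx, bar_eq_one, hE2 x hx]; exact one_mem _) (houter x hx hk hne)
    have hfix : ∀ e ∈ T₃, α e = e := fun e he => Subtype.ext (by
      rw [hα, bar_apply, hEcomm _ (hTE e he) x hx, mul_inv_cancel_right])
    have hT₃p : IsPGroup 2 ↥T₃ := fun e => ⟨1, Subtype.ext (by
      rw [pow_one, pow_two, coe_mul, coe_one]; exact hT₃2 e e.2)⟩
    obtain ⟨T', hle, -, hT'c, -, e₁, he₁, e₂, he₂, he11, he21, he12, hconj⟩ := hT' T₃ hT₃p hfix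
    have hTT : T₃ = T' := eq_of_le_of_card_ge hle (by rw [hT'c, hT₃c])
    rw [← hTT] at he₁ he₂
    have mem : ∀ e, (e = e₁ ∨ e = e₂ ∨ e = e₁ * e₂) → e ∈ T₃ → x * (e : G) ∈ X := by
      intro e he heT
      obtain ⟨l, hl⟩ := hconj e he
      refine ⟨mul_mem hx (hTE e heT), ?_⟩
      have hq : (l : G) * x * (l : G)⁻¹ = x * e := by
        have hxN := hEN hx
        have h1 : (x * (e : G))⁻¹ * ((l : G) * x * (l : G)⁻¹) ∈ L := by
          rw [show (x * (e : G))⁻¹ * ((l : G) * x * (l : G)⁻¹) = (e : G)⁻¹ * (x⁻¹ * l * x⁻¹⁻¹) * (l : G)⁻¹ by group]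
          exact mul_mem (mul_mem (inv_mem e.2) ((mem_normalizer_iff.mp (inv_mem hxN) _).mp l.2)) (inv_mem l.2)
        refine (inv_mul_eq_one.mp (C.inter_cen h1 ?_)).symm
        rw [← bar_eq_one (L_le_N h1), bar_mul (inv_mem (mul_mem hxN (L_le_N e.2)))
          (mul_mem (mul_mem (L_le_N l.2) hxN) (inv_mem (L_le_N l.2))), bar_inv (mul_mem hxN (L_le_N e.2)),
          bar_conj (L_le_N l.2) hxN, bar_mul hxN (L_le_N e.2), bar_of_mem, bar_of_mem, hl, inv_mul_cancel]
      rw [← hq]; exact hk.conj _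
    have h12 : e₁ * e₂ ∈ T₃ := mul_mem he₁ he₂
    refine ⟨x * e₁, x * e₂, mem _ (Or.inl rfl) he₁, mem _ (Or.inr (Or.inl rfl)) he₂, ?_, ?_, ?_, ?_⟩
    · exact fun e => he11 (Subtype.ext (mul_eq_left.mp e))
    · exact fun e => he21 (Subtype.ext (mul_eq_left.mp e))
    · exact fun e => he12 (Subtype.ext (mul_left_cancel e))
    · have hprod : x * (x * (e₁ : G)) * (x * e₂) = x * ((e₁ * e₂ : ↥L) : G) := by
        rw [← mul_assoc x x, hE2 x hx, one_mul, ← mul_assoc, ← hEcomm (e₁ : G) (hTE _ he₁) x hx, mul_assoc, coe_mul]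
      rw [hprod]
      refine ⟨mem _ (Or.inr (Or.inr rfl)) h12, fun e => ?_, fun e => ?_, fun e => ?_⟩
      · refine he12 ?_
        have h := Subtype.ext (a1 := e₁ * e₂) (a2 := 1) (mul_eq_left.mp e)
        calc e₁ = e₂⁻¹ := eq_inv_of_mul_eq_one_left h
          _ = e₂ := inv_eq_of_mul_eq_one_right (hT₃2 e₂ he₂)
      · exact he21 (mul_eq_left.mp (Subtype.ext (mul_left_cancel e) : e₁ * e₂ = e₁))
      · exact he11 (mul_eq_right.mp (Subtype.ext (mul_left_cancel e) : e₁ * e₂ = e₂))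
  -- the contradiction
  have hXs : ∀ x ∈ X, s⁻¹ * x * s ∈ X := fun x hx => ⟨hsn' x hx.1, by simpa using hx.2.conj s⁻¹⟩
  have hne : s * z * s⁻¹ ≠ z := fun e => hsN (C.cent_invol hzK hz2 hz1 (mul_inv_eq_iff_eq_mul.mp e))
  obtain ⟨b, c, hb, hc, hba, hca, hbc, hd, hda, hdb, hdc⟩ :=
    hquad _ ⟨hsn z hzE, (hzX.2).conj s⟩ hne
  refine noquad ⟨s⁻¹ * b * s, s⁻¹ * c * s, hXs b hb, hXs c hc, ?_, ?_, ?_, ?_⟩
  · intro e; exact hba (by rw [← e]; group)
  · intro e; exact hca (by rw [← e]; group)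
  · intro e; exact hbc (by simpa using e)
  · have e : z * (s⁻¹ * b * s) * (s⁻¹ * c * s) = s⁻¹ * (s * z * s⁻¹ * b * c) * s := by group
    rw [e]
    refine ⟨hXs _ hd, fun h => hda ?_, fun h => hdb ?_, fun h => hdc ?_⟩
    · calc s * z * s⁻¹ * b * c = s * (s⁻¹ * (s * z * s⁻¹ * b * c) * s) * s⁻¹ := by group
        _ = _ := by rw [h]
    · simpa using h
    · simpa using h

/-- Steps 1-3: order two, and an involution of the centraliser fused to an inner element. -/
theorem main [IsSimpleGroup G] :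
    (∀ U : Subgroup G, U ≤ K L → IsPGroup 2 ↥U → Nat.card U ≤ 2) ∧
    ∃ (z g k : G) (v : ↥L), z ∈ K L ∧ z * z = 1 ∧ z ≠ 1 ∧ g ∉ N L ∧ v * v = 1 ∧ v ≠ 1 ∧ (k = 1 ∨ k = z) ∧
      g * z * g⁻¹ = v * k := by
  haveI : Fact (Nat.Prime 2) := ⟨Nat.prime_two⟩
  obtain ⟨z₀, g₀, hz₀, hz₀2, hz₀1, hyN, hyK⟩ := C.exists_pair
  obtain ⟨h, y, hh, hy, hy2, hy1, v, hv⟩ : ∃ (h y : G) (_ : h ∉ N L) (hy : y ∈ P L h), y * y = 1 ∧ y ≠ 1 ∧
      ∃ v : ↥L, MulAut.conj v = bar L hy.2 := by
    by_contra hno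
    exact C.false_of_all_outer (fun g hg y hy h2 h1 ⟨v, hv⟩ => hno ⟨g, y, hg, hy, h2, h1, v, hv⟩)
      hz₀ hz₀2 hz₀1 hyN hyK
  have hcard := fun U (hU : U ≤ K L) (hU2 : IsPGroup 2 ↥U) => C.card_le_two hh hy hy2 hy1 hv.symm hU hU2
  refine ⟨hcard, ?_⟩
  obtain ⟨k, hk, e⟩ := C.split hy.2 hv.symm
  set w := h⁻¹ * y * h with hw
  have hwK : w ∈ K L := mem_cj.mp hy.1
  have hw2 : w * w = 1 := by rw [hw, show h⁻¹ * y * h * (h⁻¹ * y * h) = h⁻¹ * (y * y) * h by group, hy2]; group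
  have hw1 : w ≠ 1 := fun e' => hy1 (by rw [show y = h * (h⁻¹ * y * h) * h⁻¹ by group, ← hw, e']; group)
  have hvv : v * v = 1 := C.facts.conj_inj (by
    rw [map_mul, map_one, hv, ← bar_mul hy.2 hy.2 (mul_mem hy.2 hy.2), bar_eq_one, hy2]; exact one_mem _)
  have hv1 : v ≠ 1 := by
    intro e'
    have hyK' : y ∈ K L := (bar_eq_one hy.2).mp (by rw [← hv, e', map_one])
    exact hy1 (C.disjoint hh hyK' hy.1 (ord2 hy2 hy1))
  by_cases hk1 : k = 1
  · exact ⟨w, h, 1, v, hwK, hw2, hw1, hh, hvv, hv1, Or.inl rfl, by rw [hw, mul_one]; rw [hk1, mul_one] at e; rw [← e]; group⟩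
  have hk2 : k * k = 1 := by
    have h1 : (v : G) * k * (v * k) = 1 := e ▸ hy2
    rw [show (v : G) * k * (v * k) = v * (k * v) * k by group, ← C.commute_K v.2 hk,
      show (v : G) * (v * k) * k = (v : G) * v * (k * k) by group, ← coe_mul, hvv, coe_one, one_mul] at h1
    exact h1
  -- involutions of the centraliser are conjugate in it
  have hsyl : ∀ {x : G}, x ∈ K L → x * x = 1 → x ≠ 1 → ∃ S : Sylow 2 ↥(K L),
      (S : Subgroup ↥(K L)).map (K L).subtype = zpowers x := by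
    intro x hx hx2 hx1
    obtain ⟨S, hS⟩ := ((isPGroup_inv hx2).of_equiv (subgroupOfEquivOfLe (zpowers_le.mpr hx)).symm).exists_le_sylow
    refine ⟨S, (eq_of_le_of_card_ge ?_ ?_).symm⟩
    · exact fun p hp => ⟨⟨p, zpowers_le.mpr hx hp⟩, hS (x := ⟨p, zpowers_le.mpr hx hp⟩) hp, rfl⟩
    · rw [Nat.card_zpowers, orderOf_eq_prime (p := 2) (by rw [pow_two, hx2]) hx1]
      exact hcard _ (map_subtype_le _) (S.isPGroup'.map _)
  obtain ⟨S₁, hS₁⟩ := hsyl hk hk2 hk1
  obtain ⟨S₂, hS₂⟩ := hsyl hwK hw2 hw1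
  obtain ⟨q, hq⟩ := MulAction.exists_smul_eq ↥(K L) S₁ S₂
  have hqk : (q : G) * k * (q : G)⁻¹ = w := by
    have hk' : k ∈ (S₁ : Subgroup ↥(K L)).map (K L).subtype := hS₁ ▸ mem_zpowers k
    obtain ⟨k', hk', rfl⟩ := hk'
    have h2 : q * k' * q⁻¹ ∈ (S₂ : Subgroup ↥(K L)) := by
      rw [← hq, Sylow.coe_subgroup_smul, Subgroup.mem_pointwise_smul_iff_inv_smul_mem]
      have e1 : (MulAut.conj q)⁻¹ • (q * k' * q⁻¹) = k' := by
        show (MulAut.conj q)⁻¹ (q * k' * q⁻¹) = k'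
        rw [← map_inv, MulAut.conj_apply]; group
      rw [e1]; exact hk'
    have h3 : ((q * k' * q⁻¹ : ↥(K L)) : G) ∈ zpowers w := hS₂ ▸ mem_map_of_mem (K L).subtype h2
    obtain ⟨i, hi⟩ := h3
    rcases Int.even_or_odd' i with ⟨j, rfl | rfl⟩
    · exfalso
      simp only [zpow_mul, zpow_two, hw2, one_zpow, coe_mul, coe_inv] at hi
      exact hk1 (conj_eq_one_iff.mp hi.symm)
    · simp only [zpow_add_one, zpow_mul, zpow_two, hw2, one_zpow, one_mul, coe_mul, coe_inv] at hi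
      exact hi.symm
  refine ⟨k, h * q, k, v, hk, hk2, hk1, fun hin => hh ?_, hvv, hv1, Or.inr rfl, ?_⟩
  · simpa using mul_mem hin (inv_mem (K_le_N q.2))
  · calc h * q * k * (h * q)⁻¹ = h * ((q : G) * k * (q : G)⁻¹) * h⁻¹ := by group
      _ = y := by rw [hqk, hw]; group
      _ = _ := e

end Hyp

end CfsgLib.StdM12
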