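import Cfsg.Agent.Lib.StdM12.Factor

/-!
An involution of the centraliser of the standard subgroup cannot normalise both factors, and a swapped pair gives
the standard subgroup as its diagonal (blueprint/S1750.md, step 5, the double case).
-/

set_option autoImplicit false
set_option linter.unusedSectionVars false
set_option linter.style.haveILetI false

namespace CfsgLib.StdM12

open Subgroup Cfsg
open scoped commutatorElement

universe u

variable {G : Type u} [Group G] {L A B W : Subgroup G} {z n : G} {t : ↥L}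

/-- Subgroup of elements inducing inner automorphisms. -/
def innerPart (L : Subgroup G) : Subgroup G :=
  (((MulAut.conj : ↥L →* MulAut ↥L).range).comap (normalizerMonoidHom L)).map (N L).subtype

theorem mem_innerPart {x : G} :
    x ∈ innerPart L ↔ ∃ h : x ∈ N L, bar L h ∈ (MulAut.conj : ↥L →* MulAut ↥L).range := by
  constructor
  · rintro ⟨⟨y, hy⟩, h, rfl⟩; exact ⟨hy, h⟩
  · rintro ⟨hx, h⟩; exact ⟨⟨x, hx⟩, h, rfl⟩

theorem conj_range_normal {J : Type*} [Group J] (a b : MulAut J) (hb : b ∈ (MulAut.conj : J →* MulAut J).range) :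
    a * b * a⁻¹ ∈ (MulAut.conj : J →* MulAut J).range := by
  obtain ⟨l, rfl⟩ := hb
  refine ⟨a l, MulEquiv.ext fun m => ?_⟩
  simp [MulAut.conj_apply]

namespace Hyp

variable (C : Hyp L)
include C

theorem comm_inner {p q : G} (hp : p ∈ N L) (hq : q ∈ N L) : ⁅p, q⁆ ∈ innerPart L := by
  refine mem_innerPart.mpr ⟨mul_mem (mul_mem (mul_mem hp hq) (inv_mem hp)) (inv_mem hq), ?_⟩
  show normalizerMonoidHom L ⁅(⟨p, hp⟩ : ↥(N L)), ⟨q, hq⟩⁆ ∈ _
  rw [map_commutatorElement, commutatorElement_def]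
  set a := normalizerMonoidHom L ⟨p, hp⟩
  set b := normalizerMonoidHom L ⟨q, hq⟩
  by_cases ha : a ∈ (MulAut.conj : ↥L →* MulAut ↥L).range
  · rw [show a * b * a⁻¹ * b⁻¹ = a * (b * a⁻¹ * b⁻¹) by group]
    exact mul_mem ha (conj_range_normal b _ (inv_mem ha))
  · by_cases hb : b ∈ (MulAut.conj : ↥L →* MulAut ↥L).range
    · exact mul_mem (conj_range_normal a b hb) (inv_mem hb)
    · rw [show a * b * a⁻¹ * b⁻¹ = a * b * (a⁻¹ * b⁻¹) by group]
      exact mul_mem (C.facts.inner_index a b ha hb)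
        (C.facts.inner_index _ _ (fun h => ha (inv_mem_iff.mp h)) (fun h => hb (inv_mem_iff.mp h)))

theorem odd_inner {c : G} (hc : c ∈ N L) (ho : Odd (orderOf c)) : c ∈ innerPart L := by
  obtain ⟨k, hk⟩ := exists_sqrt ho
  have hck : c ^ k ∈ N L := pow_mem hc k
  refine mem_innerPart.mpr ⟨hc, ?_⟩
  rw [bar_congr hk.symm hc (mul_mem hck hck), bar_mul hck hck]
  by_cases h : bar L hck ∈ (MulAut.conj : ↥L →* MulAut ↥L).range
  · exact mul_mem h h
  · exact C.facts.inner_index _ _ h h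

variable [Finite G] (X : Exit L z t W n)
include X

theorem mem_or {u : G} (hu : u ∈ innerPart L) (hu2 : u * u = 1) (huz : u * z = z * u) : u ∈ L ∨ u * z ∈ L := by
  obtain ⟨hN, l, hl⟩ := mem_innerPart.mp hu
  obtain ⟨k, hk, e⟩ := C.split hN hl.symm
  have hlk : (l : G) * k = k * l := C.commute_K l.2 hk
  have hkk : k * k = 1 := by
    refine C.inter_cen ?_ (mul_mem hk hk)
    rw [show k * k = ((l : G) * l)⁻¹ * (u * u) by
      rw [e, show (l : G) * k * ((l : G) * k) = (l : G) * (k * l) * k by group, ← hlk]; group, hu2, mul_one]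
    exact inv_mem (mul_mem l.2 l.2)
  have hkz : k * z = z * k := by
    rw [e, mul_assoc, ← mul_assoc z, ← C.commute_K l.2 X.zK, mul_assoc] at huz
    exact mul_left_cancel huz
  rcases X.split k hk hkz with h | h
  · refine Or.inl ?_
    rw [e, eq_one_of_sq (orderOf_odd W X.odd_W h) hkk, mul_one]
    exact l.2
  · refine Or.inr ?_
    have : k * z = 1 := eq_one_of_sq (orderOf_odd W X.odd_W h) (by
      rw [show k * z * (k * z) = k * (z * k) * z by group, ← hkz,
        show k * (k * z) * z = k * k * (z * z) by group, hkk, X.z2, one_mul])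
    rw [e, mul_assoc, this, mul_one]
    exact l.2

theorem two_bound (F : WrFacts ↥L t) {V : Subgroup G} (hV : IsPGroup 2 ↥V) (hc : V ≤ centralizer ({z} : Set G)) :
    Nat.card V ≤ 256 := by
  let f : ↥V →* MulAut ↥L := (normalizerMonoidHom L).comp (inclusion (hc.trans X.cent))
  have hk : Nat.card f.ker ≤ 2 := by
    rw [← card_map_of_injective (K := f.ker) V.subtype_injective]
    refine X.two_le _ ?_ ((hV.to_subgroup _).map _)
    rintro _ ⟨x, hx, rfl⟩
    exact (bar_eq_one ((hc.trans X.cent) x.2)).mp hx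
  have hr : Nat.card f.range ≤ 128 := F.two_aut _ (by
    rw [MonoidHom.range_eq_map]; exact (hV.to_subgroup ⊤).map f)
  rw [← card_mul_index f.ker, index_ker]
  exact Nat.mul_le_mul hk hr

/-- An element of order five of a factor inside the standard subgroup. -/
theorem exists_five (F : Factor L A) (hn : ∀ a ∈ A, z * a * z⁻¹ ∈ A) {α : MulAut ↥L}
    (hα : ∀ a : ↥A, F.π ⟨z * a * z⁻¹, hn a a.2⟩ = α (F.π a)) {p q p' q' : ↥L}
    (hp : α p = p) (hq : α q = q) (hp' : α p' = p') (hq' : α q' = q') (h1 : ⁅p, q⁆ * ⁅p, q⁆ = 1)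
    (h1' : ⁅p', q'⁆ * ⁅p', q'⁆ = 1) (h5 : (⁅p, q⁆ * ⁅p', q'⁆) ^ 5 = 1) (hne : ⁅p, q⁆ * ⁅p', q'⁆ ≠ 1) :
    ∃ a : ↥A, (a : G) ∈ L ∧ (a : G) ^ 5 = 1 ∧ F.π a ≠ 1 := by
  have hlift : ∀ p q : ↥L, α p = p → α q = q → ⁅p, q⁆ * ⁅p, q⁆ = 1 →
      ∃ u : ↥A, F.π u = ⁅p, q⁆ ∧ u * u = 1 ∧ ((u : G) ∈ L ∨ (u : G) * z ∈ L) ∧ (u : G) * z = z * u := by
    intro p q hp hq h1
    obtain ⟨a, ha, haz⟩ := F.lift_fixed X.z2 hn hα hp
    obtain ⟨b, hb, hbz⟩ := F.lift_fixed X.z2 hn hα hq
    set w := ⁅a, b⁆ with hw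
    have hwπ : F.π w = ⁅p, q⁆ := by rw [hw, map_commutatorElement, ha, hb]
    have ho : Odd (orderOf (w * w)) := F.oddKer _ (by rw [map_mul, hwπ, h1])
    obtain ⟨k, hk⟩ := exists_sqrt ho
    set d := ((w * w) ^ k)⁻¹ with hd
    have hcd : Commute w d :=
      (((Commute.refl w).mul_right (Commute.refl w)).pow_right k).inv_right
    have haC : (a : G) ∈ centralizer ({z} : Set G) := mem_centralizer_singleton_iff.mpr haz
    have hbC : (b : G) ∈ centralizer ({z} : Set G) := mem_centralizer_singleton_iff.mpr hbz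
    have hwC : (w : G) ∈ centralizer ({z} : Set G) :=
      mul_mem (mul_mem (mul_mem haC hbC) (inv_mem haC)) (inv_mem hbC)
    have hdC : (d : G) ∈ centralizer ({z} : Set G) := inv_mem (pow_mem (mul_mem hwC hwC) k)
    have hdo : Odd (orderOf (d : G)) := by
      rw [orderOf_coe, hd, orderOf_inv]; exact ho.of_dvd_nat (orderOf_pow_dvd k)
    have hu2 : w * d * (w * d) = 1 := by
      rw [hcd.symm.mul_mul_mul_comm, hd, ← mul_inv_rev, hk, mul_inv_cancel]
    have hz' : ((w * d : ↥A) : G) * z = z * (w * d : ↥A) :=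
      mem_centralizer_singleton_iff.mp (mul_mem hwC hdC)
    refine ⟨w * d, ?_, hu2, ?_, hz'⟩
    · rw [map_mul, hd, map_inv, map_pow, map_mul, hwπ, h1, one_pow, inv_one, mul_one]
    · refine C.mem_or X ?_ (congrArg Subtype.val hu2) hz'
      exact mul_mem (C.comm_inner (X.cent haC) (X.cent hbC)) (C.odd_inner (X.cent hdC) hdo)
  obtain ⟨u, hu, hu2, huL, huz⟩ := hlift p q hp hq h1
  obtain ⟨v, hv, hv2, hvL, hvz⟩ := hlift p' q' hp' hq' h1'
  have hc : (u * v) ^ 5 = 1 := by
    have hπ : F.π ((u * v) ^ 5) = 1 := by rw [map_pow, map_mul, hu, hv, h5]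
    refine eq_one_of_sq (F.oddKer _ hπ) ?_
    have hcu := (F.kill _).mp hπ u
    have hi : u * (u * v) ^ 5 * u⁻¹ = ((u * v) ^ 5)⁻¹ := by
      rw [← conj_pow, ← inv_pow, mul_inv_rev, inv_eq_of_mul_eq_one_right hu2, inv_eq_of_mul_eq_one_right hv2]
      congr 1
      rw [← mul_assoc, hu2, one_mul]
    rw [← hcu, mul_inv_cancel_right] at hi
    nth_rewrite 1 [hi]
    exact inv_mul_cancel _
  refine ⟨(u * v) * (u * v), ?_, ?_, ?_⟩
  · have key : ∀ u' v' : G, (u' = (u : G) ∨ u' = (u : G) * z) → (v' = (v : G) ∨ v' = (v : G) * z) → u' ∈ L → v' ∈ L →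
        (((u * v) * (u * v) : ↥A) : G) ∈ L := by
      intro u' v' eu ev hu' hv'
      have hzu : ∀ x : G, Commute z x → Commute (x * z) z := fun x h => h.symm.mul_left (Commute.refl z)
      have hz2 := X.z2
      have : u' * v' * (u' * v') = (u : G) * v * ((u : G) * v) := by
        have huzC : Commute z (u : G) := huz.symm
        have hvzC : Commute z (v : G) := hvz.symm
        have huvC : Commute z ((u : G) * v) := huzC.mul_right hvzC
        rcases eu with rfl | rfl <;> rcases ev with rfl | rfl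
        · rfl
        · rw [← mul_assoc (u : G) (v : G) z, huvC.mul_mul_mul_comm, hz2, mul_one]
        · rw [mul_assoc (u : G) z (v : G), hvzC.eq, ← mul_assoc (u : G) (v : G) z, huvC.mul_mul_mul_comm, hz2,
            mul_one]
        · rw [show (u : G) * z * ((v : G) * z) = (u : G) * v by
            rw [hvzC.mul_mul_mul_comm, hz2, mul_one]]
      rw [coe_mul, coe_mul, ← this]
      exact mul_mem (mul_mem hu' hv') (mul_mem hu' hv')
    rcases huL with h | h <;> rcases hvL with h' | h'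
    · exact key _ _ (Or.inl rfl) (Or.inl rfl) h h'
    · exact key _ _ (Or.inl rfl) (Or.inr rfl) h h'
    · exact key _ _ (Or.inr rfl) (Or.inl rfl) h h'
    · exact key _ _ (Or.inr rfl) (Or.inr rfl) h h'
  · have h := congrArg Subtype.val hc
    rw [Subgroup.coe_pow, OneMemClass.coe_one] at h
    rw [coe_mul, ← pow_two, ← pow_mul, show 2 * 5 = 5 * 2 by norm_num, pow_mul, h, one_pow]
  · intro h
    rw [map_mul, map_mul, hu, hv, ← pow_two] at h
    refine hne ?_
    set w := ⁅p, q⁆ * ⁅p', q'⁆ with hw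
    calc w = w * (w ^ 2) ^ 2 := by rw [h, one_pow, mul_one]
      _ = w ^ 5 := by group
      _ = 1 := h5

/-- No involution of the centraliser normalises both factors. -/
theorem no_fixed (F : WrFacts ↥L t) (FA : Factor L A) (FB : Factor L B)
    (hcomm : ∀ a ∈ A, ∀ b ∈ B, a * b = b * a)
    (hA : ∀ a ∈ A, z * a * z⁻¹ ∈ A) (hB : ∀ b ∈ B, z * b * z⁻¹ ∈ B) : False := by
  haveI : Fact (Nat.Prime 2) := ⟨Nat.prime_two⟩
  obtain ⟨α, hα2, hα⟩ := FA.exists_auto X.z2 hA
  obtain ⟨β, hβ2, hβ⟩ := FB.exists_auto X.z2 hB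
  have big : ∀ UA UB : Subgroup ↥L, IsPGroup 2 ↥UA → (∀ y ∈ UA, α y = y) → IsPGroup 2 ↥UB →
      (∀ y ∈ UB, β y = y) → 512 ≤ Nat.card UA * Nat.card UB → False := by
    intro UA UB hA2 hAf hB2 hBf h512
    obtain ⟨VA, hVA, hVA2, hcA⟩ := FA.lift_two X.z2 hA hα hA2 hAf
    obtain ⟨VB, hVB, hVB2, hcB⟩ := FB.lift_two X.z2 hB hβ hB2 hBf
    let f : ↥VA × ↥VB →* G := MonoidHom.noncommCoprod VA.subtype VB.subtype
      fun a b => hcomm a (hVA a.2).1 b (hVB b.2).1
    have hinj : Function.Injective f := (injective_iff_map_eq_one f).mpr fun ⟨a, b⟩ e => by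
      have e' : (a : G) * b = 1 := e
      have haB : (a : G) ∈ B := by rw [eq_inv_of_mul_eq_one_left e']; exact inv_mem (hVB b.2).1
      have hπ : FA.π ⟨a, (hVA a.2).1⟩ = 1 :=
        (FA.kill _).mpr fun x => Subtype.ext (hcomm x x.2 a haB).symm
      have ho := FA.oddKer _ hπ
      rw [orderOf_mk] at ho
      obtain ⟨k, hk⟩ := exists_orderOf_two_pow hVA2 a.2
      have ha1 : (a : G) = 1 := by
        rw [← orderOf_eq_one_iff]
        rw [hk] at ho ⊢
        rcases k with _ | k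
        · rfl
        · rw [pow_succ, Nat.odd_mul] at ho; exact absurd ho.2 (by decide)
      have hb1 : (b : G) = 1 := by rwa [ha1, one_mul] at e'
      exact Prod.ext (Subtype.ext ha1) (Subtype.ext hb1)
    have hrC : f.range ≤ centralizer ({z} : Set G) := by
      rintro _ ⟨⟨a, b⟩, rfl⟩
      exact mul_mem (hVA a.2).2 (hVB b.2).2
    have hr2 : IsPGroup 2 ↥f.range := by
      obtain ⟨i, hi⟩ := IsPGroup.iff_card.mp hVA2
      obtain ⟨j, hj⟩ := IsPGroup.iff_card.mp hVB2
      exact IsPGroup.of_card (n := i + j) (by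
        rw [← Nat.card_congr (MonoidHom.ofInjective hinj).toEquiv, Nat.card_prod, hi, hj, pow_add])
    have := C.two_bound X F hr2 hrC
    rw [← Nat.card_congr (MonoidHom.ofInjective hinj).toEquiv, Nat.card_prod] at this
    have := Nat.mul_le_mul hcA hcB
    omega
  rcases F.split α hα2 with ⟨UA, hA2, hAf, hA64⟩ | ⟨p, q, p', q', hp, hq, hp', hq', h1, h1', h5, hne⟩
  · obtain ⟨UB, hB2, hBf, hB8⟩ := F.cent β hβ2
    exact big UA UB hA2 hAf hB2 hBf (le_trans (le_of_eq (by norm_num)) (Nat.mul_le_mul hA64 hB8))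
  rcases F.split β hβ2 with ⟨UB, hB2, hBf, hB64⟩ | ⟨r, s, r', s', hr, hs, hr', hs', g1, g1', g5, gne⟩
  · obtain ⟨UA, hA2, hAf, hA8⟩ := F.cent α hα2
    exact big UA UB hA2 hAf hB2 hBf (le_trans (le_of_eq (by norm_num)) (Nat.mul_le_mul hA8 hB64))
  obtain ⟨a, haL, ha5, hane⟩ := C.exists_five X FA hA hα hp hq hp' hq' h1 h1' h5 hne
  obtain ⟨b, hbL, hb5, hbne⟩ := C.exists_five X FB hB hβ hr hs hr' hs' g1 g1' g5 gne
  haveI : Fact (Nat.Prime 5) := ⟨by norm_num⟩
  have oa : orderOf (a : G) = 5 := orderOf_eq_prime ha5 fun e => hane (by rw [show a = 1 from Subtype.ext e, map_one])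
  have ob : orderOf (b : G) = 5 := orderOf_eq_prime hb5 fun e => hbne (by rw [show b = 1 from Subtype.ext e, map_one])
  have hdis : zpowers (a : G) ⊓ zpowers (b : G) = ⊥ := by
    by_contra hbot
    have hc : Nat.card ↥(zpowers (b : G)) = 5 := by rw [Nat.card_zpowers, ob]
    haveI : Fact (Nat.card ↥(zpowers (b : G))).Prime := ⟨by rw [hc]; norm_num⟩
    rcases ((zpowers (a : G) ⊓ zpowers (b : G)).subgroupOf (zpowers (b : G))).eq_bot_or_eq_top_of_prime_card with
      h | h
    · rw [subgroupOf_eq_bot, disjoint_iff, inf_assoc, inf_idem] at h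
      exact hbot h
    · have hbA : (b : G) ∈ A :=
        (zpowers_le.mpr a.2) (subgroupOf_eq_top.mp h (mem_zpowers _)).1
      exact hbne ((FB.kill _).mpr fun x => Subtype.ext (hcomm b hbA x x.2))
  have hcab : Commute (a : G) b := hcomm a a.2 b b.2
  let g : ↥(zpowers (a : G)) × ↥(zpowers (b : G)) →* ↥L :=
    (MonoidHom.noncommCoprod (zpowers (a : G)).subtype (zpowers (b : G)).subtype (fun ⟨x, hx⟩ ⟨y, hy⟩ => by
      obtain ⟨i, rfl⟩ := hx
      obtain ⟨j, rfl⟩ := hy
      exact hcab.zpow_zpow i j)).codRestrict L fun ⟨x, y⟩ =>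
        mul_mem (zpowers_le.mpr haL x.2) (zpowers_le.mpr hbL y.2)
  have hg : Function.Injective g := (injective_iff_map_eq_one g).mpr fun ⟨x, y⟩ e => by
    have e' : (x : G) * y = 1 := congrArg Subtype.val e
    have hx1 : (x : G) = 1 := by
      rw [← Subgroup.mem_bot, ← hdis]
      refine mem_inf.mpr ⟨x.2, ?_⟩
      rw [eq_inv_of_mul_eq_one_left e']
      exact (zpowers (b : G)).inv_mem y.2
    have hy1 : (y : G) = 1 := by rwa [hx1, one_mul] at e'
    exact Prod.ext (Subtype.ext hx1) (Subtype.ext hy1)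
  have h25 := card_dvd_of_injective g hg
  rw [Nat.card_prod, Nat.card_zpowers, Nat.card_zpowers, oa, ob] at h25
  exact F.five h25

/-- The standard subgroup is the diagonal of a pair swapped by the involution. -/
theorem diag (FA : Factor L A) (hcomm : ∀ a ∈ A, ∀ a' ∈ A, a * (z * a' * z⁻¹) = z * a' * z⁻¹ * a)
    {l : G} (hl : l ∈ L) : ∃ a ∈ A, l = a * (z * a * z⁻¹) := by
  haveI := C.facts.simple
  have hzi : z⁻¹ = z := inv_eq_of_mul_eq_one_right X.z2
  let φ : ↥A →* G := MonoidHom.mk' (fun a => (a : G) * (z * a * z⁻¹)) fun a b => by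
    rw [coe_mul]
    calc (a : G) * b * (z * ((a : G) * b) * z⁻¹) = a * (b * (z * a * z⁻¹)) * (z * b * z⁻¹) := by group
      _ = a * (z * a * z⁻¹ * b) * (z * b * z⁻¹) := by rw [hcomm b b.2 a a.2]
      _ = _ := by group
  have hφz : ∀ a, φ a ∈ centralizer ({z} : Set G) := fun a => mem_centralizer_singleton_iff.mpr (by
    show (a : G) * (z * a * z⁻¹) * z = z * ((a : G) * (z * a * z⁻¹))
    calc (a : G) * (z * a * z⁻¹) * z = z * a * z⁻¹ * a * z := by rw [hcomm a a.2 a a.2]
      _ = _ := by rw [hzi]; group)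
  let ψ : ↥A →* MulAut ↥L := (normalizerMonoidHom L).comp (φ.codRestrict (N L) fun a => X.cent (hφz a))
  have hin : ∀ a, ψ a ∈ (MulAut.conj : ↥L →* MulAut ↥L).range := by
    intro a
    have h : (⊤ : Subgroup ↥A) ≤ ((MulAut.conj : ↥L →* MulAut ↥L).range).comap ψ :=
      FA.perfect ▸ commutator_le.mpr fun a _ b _ => by
        have h := C.comm_inner (X.cent (hφz a)) (X.cent (hφz b))
        rw [← map_commutatorElement] at h
        exact (mem_innerPart.mp h).2
    exact h (mem_top a)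
  choose lm hlm using hin
  let lh : ↥A →* ↥L := MonoidHom.mk' lm fun a b => C.facts.conj_inj (by rw [map_mul, hlm, hlm, hlm, map_mul])
  set H := K L ⊓ centralizer ({z} : Set G) with hH
  have hk : ∀ a, ((lh a : G))⁻¹ * φ a ∈ H := fun a => by
    obtain ⟨k, hk, e⟩ := C.split (X.cent (hφz a)) (l := lm a) (hlm a).symm
    refine ⟨?_, (centralizer ({z} : Set G)).mul_mem
      ((centralizer ({z} : Set G)).inv_mem (mem_centralizer_singleton_iff.mpr (C.commute_K (lh a).2 X.zK))) (hφz a)⟩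
    show (lm a : G)⁻¹ * φ a ∈ K L
    rw [e, inv_mul_cancel_left]
    exact hk
  let kh : ↥A →* ↥H := MonoidHom.mk' (fun a => ⟨_, hk a⟩) fun a b => Subtype.ext (by
    show ((lh (a * b) : G))⁻¹ * φ (a * b) = (lh a : G)⁻¹ * φ a * ((lh b : G)⁻¹ * φ b)
    rw [map_mul, map_mul, coe_mul, mul_inv_rev]
    have h := C.commute_K (inv_mem (lh b).2) (hk a).1
    calc (lh b : G)⁻¹ * (lh a : G)⁻¹ * (φ a * φ b) = (lh b : G)⁻¹ * ((lh a : G)⁻¹ * φ a) * φ b := by group
      _ = (lh a : G)⁻¹ * φ a * (lh b : G)⁻¹ * φ b := by rw [h]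
      _ = _ := by group)
  have hkW : ∀ a, (kh a : G) ∈ W := by
    intro a
    have h : (⊤ : Subgroup ↥A) ≤ (W.subgroupOf H).comap kh := FA.perfect ▸ commutator_le.mpr fun a _ b _ => by
      rw [mem_comap, map_commutatorElement, mem_subgroupOf]
      set x := (kh a : G) with hx
      set y := (kh b : G) with hy
      show x * y * x⁻¹ * y⁻¹ ∈ W
      have red : ∀ x ∈ H, ∃ w ∈ W, ∀ y ∈ H, x * y * x⁻¹ = w * y * w⁻¹ := fun x hx => by
        have hxz := mem_centralizer_singleton_iff.mp hx.2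
        rcases X.split x hx.1 hxz with h | h
        · exact ⟨x, h, fun _ _ => rfl⟩
        · refine ⟨x * z, h, fun y hy => ?_⟩
          rw [show x * z * y * (x * z)⁻¹ = x * (z * y * z⁻¹) * x⁻¹ by group,
            ← mem_centralizer_singleton_iff.mp hy.2, mul_inv_cancel_right]
      obtain ⟨w, hw, ew⟩ := red x (kh a).2
      obtain ⟨w', hw', ew'⟩ := red y (kh b).2
      have hwH : w⁻¹ ∈ H :=
        inv_mem ⟨((X.mem_W w).mp hw).1, mem_centralizer_singleton_iff.mpr ((X.mem_W w).mp hw).2.1⟩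
      rw [ew y (kh b).2, show w * y * w⁻¹ * y⁻¹ = w * (y * w⁻¹ * y⁻¹) by group, ew' _ hwH]
      exact mul_mem hw (mul_mem (mul_mem hw' (inv_mem hw)) (inv_mem hw'))
    exact h (mem_top a)
  set N₀ : Subgroup G := kh.ker.map A.subtype with hN₀
  have hall : A ≤ N₀ := by
    refine (FA.normal_cases N₀ ?_).resolve_left fun hcen => ?_
    · rintro a ha _ ⟨y, hy, rfl⟩
      exact ⟨⟨a, ha⟩ * y * ⟨a, ha⟩⁻¹, (inferInstance : kh.ker.Normal).conj_mem y hy _, rfl⟩
    · obtain ⟨S, hS, hS32⟩ := C.facts.two_part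
      obtain ⟨y, -, hy2, hy1⟩ := exists_invol hS fun e => by rw [e, card_bot] at hS32; omega
      obtain ⟨a, hay, ha2⟩ := FA.lift_invol y hy2
      have hker : kh a = 1 := Subtype.ext (eq_one_of_sq (orderOf_odd W X.odd_W (hkW a)) (by
        rw [← coe_mul, ← map_mul, ha2, map_one]; rfl))
      exact hy1 (hay ▸ (FA.kill a).mpr fun b => Subtype.ext (hcen a ⟨a, hker, rfl⟩ a.2 b b.2))
  have hφL : ∀ a, φ a = lh a := fun a => by
    obtain ⟨a', ha', e⟩ := hall a.2
    rw [show a' = a from Subtype.ext e] at ha'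
    exact (inv_mul_eq_one.mp (congrArg Subtype.val (MonoidHom.mem_ker.mp ha'))).symm
  have hker : lh.ker ≤ FA.π.ker := fun a ha => by
    have h1 : (a : G) * (z * a * z⁻¹) = 1 := by
      show φ a = 1
      rw [hφL, MonoidHom.mem_ker.mp ha]; rfl
    refine (FA.kill a).mpr fun b => Subtype.ext ?_
    show (a : G) * b = b * a
    rw [eq_inv_of_mul_eq_one_left h1]
    exact (show Commute (b : G) (z * a * z⁻¹) from hcomm b b.2 a a.2).inv_right.symm.eq
  have htop : lh.range = ⊤ := by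
    refine eq_top_of_le_card _ ?_
    have h1 := FA.card_eq
    have h2 : Nat.card A = Nat.card lh.ker * Nat.card lh.range := by rw [← index_ker, card_mul_index]
    have h3 : Nat.card lh.ker * Nat.card L ≤ Nat.card lh.ker * Nat.card lh.range := by
      rw [← h2, h1]
      exact Nat.mul_le_mul_right _ (Subgroup.card_le_of_le hker)
    exact Nat.le_of_mul_le_mul_left h3 Nat.card_pos
  obtain ⟨a, ha⟩ : ∃ a, lh a = ⟨l, hl⟩ := MonoidHom.range_eq_top.mp htop _
  exact ⟨a, a.2, (congrArg Subtype.val ha).symm.trans (hφL a).symm⟩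

end Hyp

end CfsgLib.StdM12
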