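import Cfsg.Agent.Lib.StdM12.Tight
import Cfsg.Agent.Lib.CyclicStandard.Dihedral

/-!
An inner pair forces Sylow `2`-subgroups of order two in the centraliser of the standard subgroup.
-/

set_option autoImplicit false
set_option linter.unusedSectionVars false

namespace CfsgLib.StdM12

open Subgroup Cfsg
open scoped Pointwise

universe u

variable {G : Type u} [Group G] {L : Subgroup G}

theorem conj_aut {J : Type u} [Group J] (a : MulAut J) (l : J) : a * MulAut.conj l * a⁻¹ = MulAut.conj (a l) := by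
  refine MulEquiv.ext fun x => ?_
  show a (MulAut.conj l (a⁻¹ x)) = MulAut.conj (a l) x
  rw [MulAut.conj_apply, MulAut.conj_apply, map_mul, map_mul, map_inv, MulAut.apply_inv_self]

theorem mem_normalizer_of_le [Finite G] {U : Subgroup G} {x : G} (h : ∀ u ∈ U, x * u * x⁻¹ ∈ U) :
    x ∈ normalizer (U : Set G) := by
  have e : cj x U = U := eq_of_le_of_card_ge (cj_le h) card_cj.ge
  refine mem_normalizer_iff.mpr fun u => ⟨h u, fun hu => ?_⟩
  rw [← e, mem_cj, show x⁻¹ * (x * u * x⁻¹) * x = u by group] at hu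
  exact hu

theorem bar_conj {x y : G} (hx : x ∈ N L) (hy : y ∈ N L) (h : x * y * x⁻¹ ∈ N L) :
    bar L h = bar L hx * bar L hy * (bar L hx)⁻¹ := by
  rw [bar_mul (mul_mem hx hy) (inv_mem hx), bar_mul hx hy, bar_inv hx]

namespace Hyp

variable [Finite G] (C : Hyp L)
include C

theorem bar_injOn {g : G} (hg : g ∉ N L) {T : Subgroup G} (hT : T ≤ P L g) (hT2 : IsPGroup 2 ↥T) {x y : G}
    (hx : x ∈ T) (hy : y ∈ T) (hxN : x ∈ N L) (hyN : y ∈ N L) (e : bar L hxN = bar L hyN) : x = y := by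
  have h1 : x⁻¹ * y ∈ T := mul_mem (inv_mem hx) hy
  have h2 : x⁻¹ * y ∈ K L := by
    rw [← bar_eq_one (mul_mem (inv_mem hxN) hyN), bar_mul (inv_mem hxN) hyN, bar_inv hxN, e, inv_mul_cancel]
  exact inv_mul_eq_one.mp (C.disjoint hg h2 (hT h1).1 (exists_orderOf_two_pow hT2 h1))

theorem card_barMap {g : G} (hg : g ∉ N L) {T : Subgroup G} (hT : T ≤ P L g) (hT2 : IsPGroup 2 ↥T) :
    Nat.card (barMap L T) = Nat.card T := by
  refine (Nat.card_eq_of_bijective (fun t : T => (⟨bar L (hT t.2).2, mem_barMap.mpr ⟨_, _, t.2, rfl⟩⟩ :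
    barMap L T)) ⟨fun a b h => Subtype.ext (C.bar_injOn hg hT hT2 a.2 b.2 _ _ (congrArg Subtype.val h)), ?_⟩).symm
  rintro ⟨a, ha⟩
  obtain ⟨x, hx, hxT, rfl⟩ := mem_barMap.mp ha
  exact ⟨⟨x, hxT⟩, rfl⟩

/-- An involution over an element of the standard subgroup: its centraliser there normalises the intersection. -/
theorem cent_inner {g : G} {q : G} (hq : q ∈ P L g) (hq2 : q * q = 1) (hq1 : q ≠ 1) {d : ↥L}
    (hd : bar L hq.2 = MulAut.conj d) {c : ↥L} (hc : c * d = d * c) :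
    (c : G) ∈ normalizer (P L g : Set G) := by
  obtain ⟨k, hk, e⟩ := C.split hq.2 hd
  refine C.norm_P (L_le_N c.2) (C.mem_norm_cj hq.1 hq2 hq1 ?_)
  have hc' : (c : G) * d = d * c := congrArg Subtype.val hc
  rw [e, ← mul_assoc, hc', mul_assoc, C.commute_K c.2 hk, mul_assoc]

/-- An element over an involution of the standard subgroup has an involution over the same. -/
theorem exists_invol_over {g : G} (hg : g ∉ N L) {p : G} (hp : p ∈ P L g) {d : ↥L} (hd : bar L hp.2 = MulAut.conj d)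
    (hd2 : d * d = 1) (hd1 : d ≠ 1) :
    ∃ (q : G) (hq : q ∈ P L g), q * q = 1 ∧ q ≠ 1 ∧ bar L hq.2 = MulAut.conj d ∧ ∃ n : ℕ, q = p ^ n := by
  obtain ⟨m, k, hm, hk⟩ := CyclicStandard.exists_odd_pow p
  have hq : p ^ m ∈ P L g := pow_mem hp m
  have hb : bar L hq.2 = MulAut.conj d := by
    rw [show bar L hq.2 = bar L hp.2 ^ m from map_pow (normalizerMonoidHom L) ⟨p, hp.2⟩ m, hd, ← map_pow]
    obtain ⟨j, rfl⟩ := hm
    rw [pow_succ, pow_mul, pow_two, hd2, one_pow, one_mul]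
  refine ⟨_, hq, ?_, fun e => ?_, hb, m, rfl⟩
  · refine C.disjoint hg ?_ (mul_mem hq hq).1 ?_
    · rw [← bar_eq_one (mul_mem hq hq).2, bar_mul hq.2 hq.2, hb, ← map_mul, hd2, map_one]
    · have hz := CyclicStandard.isPGroup_zpowers (x := p ^ m) hk
      exact exists_orderOf_two_pow hz (mul_mem (mem_zpowers _) (mem_zpowers _))
  · rw [bar_congr e hq.2 (one_mem _), (bar_eq_one (one_mem _)).mpr (one_mem _)] at hb
    exact hd1 (C.facts.conj_inj (by rw [← hb, map_one]))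

/-- The facts on automorphisms, applied to a Sylow intersection of order above two. -/
theorem big_facts {g : G} (hg : g ∉ N L) {T : Subgroup G} (hT : IsSyl (P L g) T) (h2 : 2 < Nat.card T) :
    ∃ v c : ↥L, v * v = 1 ∧ v ≠ 1 ∧ (v : G) ∈ cj g (K L) ∧ c * v = v * c ∧ IsPGroup 2 ↥(zpowers c) ∧
      (c : G) ∈ normalizer (P L g : Set G) ∧
      (∀ x ∈ barMap L T, MulAut.conj c * x * (MulAut.conj c)⁻¹ ∈ barMap L T) ∧
      (∀ t ∈ barMap L T, ∃ x ∈ barMap L T, MulAut.conj c * x * (MulAut.conj c)⁻¹ ≠ t * x * t⁻¹) ∧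
      ∀ a : MulAut ↥L, (∀ x ∈ barMap L T, a * x = x * a) → ∃ x ∈ barMap L T, ∃ l : ↥L, a = x * MulAut.conj l := by
  classical
  set X := barMap L T with hX
  have hcard : Nat.card X = Nat.card T := C.card_barMap hg hT.1 hT.2.1
  have hX2 : IsPGroup 2 ↥X := (hT.2.1.comap_subtype).map _
  set Y := X.comap (MulAut.conj : ↥L →* MulAut ↥L) with hY
  have hY2 : IsPGroup 2 ↥Y := hX2.comap_of_injective _ C.facts.conj_inj
  have hY1 : Y ≠ ⊥ := by
    intro hbot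
    have hr : ∀ a ∈ X, a ∈ (MulAut.conj : ↥L →* MulAut ↥L).range → a = 1 := by
      rintro _ ha ⟨l, rfl⟩
      have hl : l ∈ Y := ha
      rw [hbot, Subgroup.mem_bot] at hl
      rw [hl, map_one]
    have hsub : ∀ a ∈ X, a ≠ 1 → ∀ b ∈ X, b ≠ 1 → a = b := fun a ha ha1 b hb hb1 => inv_mul_eq_one.mp
      (hr _ (mul_mem (inv_mem ha) hb) (C.facts.inner_index _ _
        (fun h => ha1 (hr a ha (inv_mem_iff.mp h))) fun h => hb1 (hr b hb h)))
    obtain ⟨a, ha, ha1⟩ : ∃ a ∈ X, a ≠ 1 := by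
      by_contra! h
      rw [(Subgroup.eq_bot_iff_forall X).mpr h, card_bot] at hcard
      omega
    haveI : Finite ↥X := Nat.finite_of_card_ne_zero (by omega)
    have : Nat.card X ≤ ({1, a} : Finset (MulAut ↥L)).card := by
      rw [show Nat.card X = Set.ncard (X : Set (MulAut ↥L)) from Nat.card_coe_set_eq _, ← Set.ncard_coe_finset]
      refine Set.ncard_le_ncard (fun b hb => ?_) (Finset.finite_toSet _)
      by_cases hb1 : b = 1
      · simp [hb1]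
      · simp [hsub b hb hb1 a ha ha1]
    have := this.trans Finset.card_le_two
    omega
  obtain ⟨v, hvY, hv2, hv1⟩ := exists_invol hY2 hY1
  set D := (barMap L (P L g)).comap (MulAut.conj : ↥L →* MulAut ↥L) with hD
  have hXP : X ≤ barMap L (P L g) := fun a ha => by
    obtain ⟨x, hx, hxT, e⟩ := mem_barMap.mp ha
    exact mem_barMap.mpr ⟨x, hx, hT.1 hxT, e⟩
  obtain ⟨p, hpN, hpP, hpb⟩ := mem_barMap.mp (hXP hvY)
  obtain ⟨q, hq, hq2, hq1, hqb, -⟩ := C.exists_invol_over hg hpP hpb hv2 hv1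
  have hcn : ∀ c : ↥L, c * v = v * c → (c : G) ∈ normalizer (P L g : Set G) :=
    fun c hc => C.cent_inner hq hq2 hq1 hqb hc
  have huniq : ∀ d ∈ D, d * d = 1 → d = 1 ∨ d = v := by
    intro d hd hd2
    by_contra! h
    obtain ⟨p', hp'N, hp', hb'⟩ := mem_barMap.mp (show MulAut.conj d ∈ barMap L (P L g) from hd)
    obtain ⟨q', hq', hq'2, hq'1, hqb', -⟩ := C.exists_invol_over hg hp' hb' hd2 h.1
    refine C.not_normalized hg hq hq2 hq1 fun l hl => ?_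
    have hm : (⟨l, hl⟩ : ↥L) ∈ closure {c : ↥L | c * d = d * c ∨ c * v = v * c} := by
      rw [C.facts.maximal d v hd2 h.1 hv2 hv1 h.2]; trivial
    have hm' : (⟨l, hl⟩ : ↥L) ∈ (normalizer (P L g : Set G)).subgroupOf L :=
      (closure_le ((normalizer (P L g : Set G)).subgroupOf L)).mpr
        (fun c hc => hc.elim (fun e => C.cent_inner hq' hq'2 hq'1 hqb' e) (hcn c)) hm
    exact hm'
  have comm : ∀ (c : ↥L), c * v = v * c → ∀ {t : G} (ht : t ∈ T),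
      ∃ he : (c : G) * t * (c : G)⁻¹ * t⁻¹ ∈ L,
        (⟨_, he⟩ : ↥L) = c * bar L (hT.1 ht).2 c⁻¹ ∧ (c : G) * t * (c : G)⁻¹ * t⁻¹ ∈ P L g := by
    intro c hc t ht
    have htN := (hT.1 ht).2
    have he : (c : G) * t * (c : G)⁻¹ * t⁻¹ ∈ L := by
      rw [show (c : G) * t * (c : G)⁻¹ * t⁻¹ = c * (t * (c : G)⁻¹ * t⁻¹) by group]
      exact mul_mem c.2 ((mem_normalizer_iff.mp htN _).mp (inv_mem c.2))
    refine ⟨he, Subtype.ext ?_, mul_mem ((mem_normalizer_iff.mp (hcn c hc) t).mp (hT.1 ht)) (inv_mem (hT.1 ht))⟩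
    rw [coe_mul, bar_apply, coe_inv]
    group
  have hcd : ∀ c : ↥L, c * v = v * c → ∀ x ∈ X, c * x c⁻¹ ∈ D := by
    intro c hc x hx
    obtain ⟨t, htN, ht, rfl⟩ := mem_barMap.mp hx
    obtain ⟨he, e, hP⟩ := comm c hc ht
    show MulAut.conj _ ∈ barMap L (P L g)
    rw [← e]
    exact mem_barMap.mpr ⟨_, hP.2, hP, bar_of_mem ⟨_, he⟩ hP.2⟩
  have hSyl : ∀ S : Subgroup ↥L, IsPGroup 2 ↥S → S ≤ D → Nat.card S ≤ Nat.card Y := by
    intro S hS hSD
    haveI : Fact (Nat.Prime 2) := ⟨Nat.prime_two⟩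
    let ψ : ↥(P L g) →* MulAut ↥L := (normalizerMonoidHom L).comp (inclusion inf_le_right)
    obtain ⟨S₀, hS₀⟩ := (hT.2.1.of_equiv (subgroupOfEquivOfLe hT.1).symm).exists_le_sylow
    have hle : T ≤ (S₀ : Subgroup ↥(P L g)).map (P L g).subtype :=
      fun x hx => ⟨⟨x, hT.1 hx⟩, hS₀ (x := ⟨x, hT.1 hx⟩) hx, rfl⟩
    have hS₀T : (S₀ : Subgroup ↥(P L g)).map (P L g).subtype = T :=
      (eq_of_le_of_card_ge hle (hT.2.2 _ (isSyl_sylow S₀).1 (isSyl_sylow S₀).2.1)).symm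
    have hin : ∀ s ∈ S, MulAut.conj s ∈ ψ.range := fun s hs => by
      obtain ⟨x, hx, hxP, e⟩ := mem_barMap.mp (show MulAut.conj s ∈ barMap L (P L g) from hSD hs)
      exact ⟨⟨x, hxP⟩, e⟩
    let Y₀ := S₀.mapSurjective (f := ψ.rangeRestrict) ψ.rangeRestrict_surjective
    obtain ⟨Y₁, hY₁⟩ := ((hS.map (MulAut.conj : ↥L →* MulAut ↥L)).of_equiv
      (subgroupOfEquivOfLe (K := ψ.range) (by rintro _ ⟨s, hs, rfl⟩; exact hin s hs)).symm).exists_le_sylow
    obtain ⟨m, hm⟩ := MulAction.exists_smul_eq ↥ψ.range Y₀ Y₁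
    have key : ∀ s ∈ S, (m : MulAut ↥L)⁻¹ s ∈ Y := by
      intro s hs
      have h1 : (⟨MulAut.conj s, hin s hs⟩ : ↥ψ.range) ∈ (Y₁ : Subgroup ↥ψ.range) :=
        hY₁ (mem_subgroupOf.mpr (mem_map_of_mem (MulAut.conj : ↥L →* MulAut ↥L) hs))
      rw [← hm, Sylow.coe_subgroup_smul, Subgroup.mem_pointwise_smul_iff_inv_smul_mem] at h1
      obtain ⟨w, hw, hwe⟩ := h1
      have hwT : (w : G) ∈ T := by rw [← hS₀T]; exact ⟨w, hw, rfl⟩
      show MulAut.conj ((m : MulAut ↥L)⁻¹ s) ∈ X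
      rw [← conj_aut]
      refine mem_barMap.mpr ⟨w, w.2.2, hwT, ?_⟩
      have e2 := congrArg Subtype.val hwe
      refine Eq.trans (b := ψ w) rfl ?_
      simpa using e2
    exact Nat.card_le_card_of_injective (fun s : S => (⟨(m : MulAut ↥L)⁻¹ s, key s s.2⟩ : Y))
      fun a b h => Subtype.ext ((m : MulAut ↥L)⁻¹.injective (congrArg Subtype.val h))
  have hvD : v ∈ D := hXP hvY
  have hDn : ∀ c : ↥L, c * v = v * c → ∀ d ∈ D, c * d * c⁻¹ ∈ D := by
    intro c hc d hd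
    obtain ⟨p', hp'N, hp', hb'⟩ := mem_barMap.mp (show MulAut.conj d ∈ barMap L (P L g) from hd)
    have h1 := (mem_normalizer_iff.mp (hcn c hc) p').mp hp'
    show MulAut.conj (c * d * c⁻¹) ∈ barMap L (P L g)
    exact mem_barMap.mpr ⟨_, h1.2, h1, by
      rw [bar_conj (L_le_N c.2) hp'N, bar_of_mem, hb', map_mul, map_mul, map_inv]⟩
  have hXD : ∀ x ∈ X, ∀ d ∈ D, x d ∈ D := by
    intro x hx d hd
    obtain ⟨t, htN, ht, rfl⟩ := mem_barMap.mp hx
    obtain ⟨p', hp'N, hp', hb'⟩ := mem_barMap.mp (show MulAut.conj d ∈ barMap L (P L g) from hd)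
    show MulAut.conj _ ∈ barMap L (P L g)
    have h1 : t * p' * t⁻¹ ∈ P L g := mul_mem (mul_mem (hT.1 ht) hp') (inv_mem (hT.1 ht))
    exact mem_barMap.mpr ⟨_, h1.2, h1, by rw [bar_conj htN hp'N, hb', conj_aut]⟩
  obtain ⟨⟨c, hc, hc2, hcX, hcne, x, hx, hev⟩, hcent⟩ := C.facts.big X D v hX2 (hcard ▸ h2) hv2 hv1 hvD hvY huniq hDn
    (fun l hl => hXP hl) hSyl hXD hcd
  refine ⟨v, c, hv2, hv1, ?_, hc, hc2, hcn c hc, hcX, hcne, hcent⟩
  -- the involution lies in the conjugate centraliser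
  obtain ⟨t, htN, ht, rfl⟩ := mem_barMap.mp hx
  obtain ⟨he, e, hP⟩ := comm c hc ht
  rw [← e] at hev
  set w : ↥L := ⟨_, he⟩ with hw
  obtain ⟨n, hn⟩ := hev
  have ho := orderOf_pos w
  have hwn2 : w ^ n * w ^ n = 1 := by rw [← pow_add, ← hn, pow_orderOf_eq_one]
  have hwn1 : w ^ n ≠ 1 := fun e1 => by
    have := Nat.le_of_dvd (by omega) (orderOf_dvd_of_pow_eq_one e1)
    omega
  have hwP : ((w ^ n : ↥L) : G) ∈ P L g := by rw [coe_pow]; exact pow_mem hP n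
  rcases huniq _ (mem_barMap.mpr ⟨_, hwP.2, hwP, bar_of_mem _ hwP.2⟩) hwn2 with e1 | e1
  · exact absurd e1 hwn1
  · rw [← e1]; exact hwP.1

/-- A `2`-element of the standard subgroup normalising a Sylow intersection, not acting as one of its elements. -/
theorem exists_outer_action {g : G} (hg : g ∉ N L) {T : Subgroup G} (hT : IsSyl (P L g) T) (h2 : 2 < Nat.card T) :
    ∃ (v c : ↥L) (T₁ : Subgroup G), v * v = 1 ∧ v ≠ 1 ∧ (v : G) ∈ cj g (K L) ∧ c * v = v * c ∧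
      IsPGroup 2 ↥(zpowers c) ∧ IsSyl (P L g) T₁ ∧ (∀ t ∈ T₁, (c : G) * t * (c : G)⁻¹ ∈ T₁) ∧
      ∀ t ∈ T₁, ∃ x ∈ T₁, (c : G) * x * (c : G)⁻¹ ≠ t * x * t⁻¹ := by
  obtain ⟨v, c, hv2, hv1, hvQ, hc, hc2, hcn, hcX, hcne, -⟩ := C.big_facts hg hT h2
  let P₁ : Subgroup G := ((P L g).subgroupOf (N L) ⊓ (barMap L T).comap (normalizerMonoidHom L)).map (N L).subtype
  have hP₁ : ∀ {x : G}, x ∈ P₁ ↔ ∃ h : x ∈ P L g, bar L h.2 ∈ barMap L T := by
    intro x
    constructor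
    · rintro ⟨y, ⟨hy1, hy2⟩, rfl⟩
      exact ⟨hy1, hy2⟩
    · rintro ⟨h, hb⟩
      exact ⟨⟨x, h.2⟩, ⟨h, hb⟩, rfl⟩
  have hcP₁ : (c : G) ∈ normalizer (P₁ : Set G) := mem_normalizer_of_le fun x hx => by
    obtain ⟨h, hb⟩ := hP₁.mp hx
    have h1 := (mem_normalizer_iff.mp hcn x).mp h
    refine hP₁.mpr ⟨h1, ?_⟩
    rw [bar_conj (L_le_N c.2) h.2, bar_of_mem]
    exact hcX _ hb
  obtain ⟨S, -, hS⟩ := CyclicStandard.exists_invariant_sylow (N := normalizer (P₁ : Set G)) (P := zpowers (c : G))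
    le_normalizer le_rfl (by show IsPGroup 2 ↥(zpowers (L.subtype c)); rw [← MonoidHom.map_zpowers]; exact hc2.map _) (zpowers_le.mpr hcP₁)
  obtain ⟨hle, hp, hmax⟩ := isSyl_sylow S
  set T₁ := (S : Subgroup ↥P₁).map P₁.subtype with hT₁
  have hTP₁ : T ≤ P₁ := fun x hx => hP₁.mpr ⟨hT.1 hx, mem_barMap.mpr ⟨x, (hT.1 hx).2, hx, rfl⟩⟩
  have hsyl : IsSyl (P L g) T₁ := hT.of_card (fun x hx => (hP₁.mp (hle hx)).1) hp (hmax T hTP₁ hT.2.1)
  have himg : barMap L T₁ = barMap L T := by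
    haveI : Finite ↥(barMap L T) := Nat.finite_of_card_ne_zero
      (by rw [C.card_barMap hg hT.1 hT.2.1]; exact Nat.card_pos.ne')
    refine eq_of_le_of_card_ge ?_ ?_
    · intro a ha
      obtain ⟨x, hx, hxT, rfl⟩ := mem_barMap.mp ha
      obtain ⟨hxP, hb⟩ := hP₁.mp (hle hxT)
      exact hb
    · rw [C.card_barMap hg hT.1 hT.2.1, C.card_barMap hg hsyl.1 hsyl.2.1, hT.card_eq hsyl]
  have hinv : ∀ t ∈ T₁, (c : G) * t * (c : G)⁻¹ ∈ T₁ := fun t ht => hS _ (mem_zpowers _) t ht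
  refine ⟨v, c, T₁, hv2, hv1, hvQ, hc, hc2, hsyl, hinv, fun t ht => ?_⟩
  have htN := (hsyl.1 ht).2
  obtain ⟨a, ha, hne⟩ := hcne _ (himg ▸ mem_barMap.mpr ⟨t, htN, ht, rfl⟩)
  obtain ⟨x, hxN, hx, rfl⟩ := mem_barMap.mp (himg ▸ ha : a ∈ barMap L T₁)
  refine ⟨x, hx, fun e => hne ?_⟩
  rw [← bar_of_mem c (L_le_N c.2), ← bar_conj (L_le_N c.2) hxN (mul_mem (mul_mem (L_le_N c.2) hxN) (inv_mem (L_le_N c.2))),
    ← bar_conj htN hxN (mul_mem (mul_mem htN hxN) (inv_mem htN))]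
  exact bar_congr e _ _

/-- What centralises a Sylow intersection of order above two is inner up to it. -/
theorem cent_syl {g : G} (hg : g ∉ N L) {T : Subgroup G} (hT : IsSyl (P L g) T) (h2 : 2 < Nat.card T) {a : G}
    (ha : a ∈ N L) (h : ∀ t ∈ T, a * t = t * a) : ∃ t ∈ T, ∃ l ∈ L, ∃ k ∈ K L, a = t * (l * k) := by
  obtain ⟨-, -, -, -, -, -, -, -, -, -, hcent⟩ := C.big_facts hg hT h2
  obtain ⟨x, hx, l, e⟩ := hcent (bar L ha) fun x hx => by
    obtain ⟨t, htN, ht, rfl⟩ := mem_barMap.mp hx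
    rw [← bar_mul ha htN (mul_mem ha htN), ← bar_mul htN ha (mul_mem htN ha)]
    exact bar_congr (h t ht) _ _
  obtain ⟨t, htN, ht, rfl⟩ := mem_barMap.mp hx
  obtain ⟨k, hk, ek⟩ := C.split (mul_mem (inv_mem htN) ha) (l := l) (by
    rw [bar_mul (inv_mem htN) ha, bar_inv htN, e, inv_mul_cancel_left])
  exact ⟨t, ht, l, l.2, k, hk, by rw [← ek, mul_inv_cancel_left]⟩

theorem normalizes_of_norm {g x : G} (hx : x ∈ normalizer (cj g (K L) : Set G)) : g⁻¹ * x * g ∈ N L := by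
  rw [C.normEq, mem_normalizer_iff]
  intro k
  have h := mem_normalizer_iff.mp hx (g * k * g⁻¹)
  rw [mem_cj, mem_cj] at h
  simpa [mul_assoc] using h

/-- No Sylow intersection has order above two once an inner pair is present. -/
theorem false_of_big {g : G} (hg : g ∉ N L) {T : Subgroup G} (hT : IsSyl (P L g) T) (h2 : 2 < Nat.card T) :
    False := by
  haveI : Fact (Nat.Prime 2) := ⟨Nat.prime_two⟩
  obtain ⟨v, -, -, hv2, hv1, hvQ, -, -, -, -, -⟩ := C.exists_outer_action hg hT h2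
  have hv2' : (v : G) * v = 1 := by rw [← coe_mul, hv2, coe_one]
  have hv1' : (v : G) ≠ 1 := fun e => hv1 (Subtype.ext e)
  have hKn : K L ≤ normalizer (cj g (K L) : Set G) :=
    fun k hk => C.mem_norm_cj hvQ hv2' hv1' (C.commute_K v.2 hk).symm
  obtain ⟨R, hR⟩ := exists_isSyl (K L)
  have hTR : Nat.card T ≤ Nat.card R := by
    rw [← card_cj (g := g⁻¹)]
    refine hR.2.2 _ ?_ (isPGroup_cj hT.2.1)
    exact cj_le fun x hx => by rw [inv_inv]; exact mem_cj.mp (hT.1 hx).1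
  have hg' : g⁻¹ ∉ N L := fun h => hg (inv_mem_iff.mp h)
  have hRP : cj g⁻¹ R ≤ P L g⁻¹ := cj_le fun r hr =>
    ⟨conj_mem_cj (hR.1 hr), by rw [inv_inv]; exact C.normalizes_of_norm (hKn (hR.1 hr))⟩
  obtain ⟨T₀, hT₀⟩ := exists_isSyl (P L g⁻¹)
  have hT₀c : Nat.card R ≤ Nat.card T₀ := card_cj.symm.le.trans (hT₀.2.2 _ hRP (isPGroup_cj hR.2.1))
  obtain ⟨v', c, T₁, hv'2, hv'1, hv'Q, hcv, hc2, hT₁, hcT, hne⟩ :=
    C.exists_outer_action hg' hT₀ (by omega)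
  have hT₁K : cj g T₁ ≤ K L := cj_le fun x hx => by
    have := mem_cj.mp (hT₁.1 hx).1
    rwa [inv_inv] at this
  have hR₁ : IsSyl (K L) (cj g T₁) := hR.of_card hT₁K (isPGroup_cj hT₁.2.1) (by
    rw [card_cj, ← hT₀.card_eq hT₁]; exact hT₀c)
  set R₁ := cj g T₁ with hR₁def
  have hR₁n : R₁ ≤ normalizer (cj g (K L) : Set G) := hT₁K.trans hKn
  obtain ⟨T', hT', hcomm⟩ := C.exists_commuting hg hT₁K hR₁.2.1 hR₁n
  -- the conjugate of the outer action
  set c' := g * (c : G) * g⁻¹ with hc'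
  have hc'N : c' ∈ N L := by
    refine C.cent_invol (x := g * (v' : G) * g⁻¹) ?_ ?_ ?_ ?_
    · have := mem_cj.mp hv'Q
      rwa [inv_inv] at this
    · rw [show g * (v' : G) * g⁻¹ * (g * v' * g⁻¹) = g * ((v' : G) * v') * g⁻¹ by group, ← coe_mul, hv'2, coe_one]
      group
    · exact fun e => hv'1 (Subtype.ext (conj_eq_one_iff.mp e))
    · rw [hc', show g * (c : G) * g⁻¹ * (g * v' * g⁻¹) = g * ((c : G) * v') * g⁻¹ by group,
        show g * (v' : G) * g⁻¹ * (g * c * g⁻¹) = g * ((v' : G) * c) * g⁻¹ by group, ← coe_mul, hcv, coe_mul]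
  have hc'Q : ∀ q ∈ cj g (K L), c' * q = q * c' := fun q hq => by
    have := C.commute_K c.2 (mem_cj.mp hq)
    rw [hc']
    calc g * (c : G) * g⁻¹ * q = g * ((c : G) * (g⁻¹ * q * g)) * g⁻¹ := by group
      _ = g * ((g⁻¹ * q * g) * c) * g⁻¹ := by rw [this]
      _ = _ := by group
  obtain ⟨t, ht, l, hl, k, hk, e⟩ :=
    C.cent_syl hg hT' (hT.card_eq hT' ▸ h2) hc'N fun t ht => hc'Q t (hT'.1 ht).1
  have hact : ∀ r ∈ R₁, c' * r * c'⁻¹ ∈ R₁ ∧ k * r * k⁻¹ = c' * r * c'⁻¹ := by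
    intro r hr
    have h1 : c' * r * c'⁻¹ ∈ R₁ := by
      rw [hR₁def, mem_cj, hc', show g⁻¹ * (g * (c : G) * g⁻¹ * r * (g * c * g⁻¹)⁻¹) * g =
        c * (g⁻¹ * r * g) * (c : G)⁻¹ by group]
      exact hcT _ (mem_cj.mp hr)
    refine ⟨h1, ?_⟩
    have h2' : l * (k * r * k⁻¹) = k * r * k⁻¹ * l :=
      C.commute_K hl (mul_mem (mul_mem hk (hT₁K hr)) (inv_mem hk))
    have h3 : c' * r * c'⁻¹ = t * (k * r * k⁻¹) * t⁻¹ := by
      rw [e]
      calc t * (l * k) * r * (t * (l * k))⁻¹ = t * (l * (k * r * k⁻¹)) * l⁻¹ * t⁻¹ := by group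
        _ = _ := by rw [h2']; group
    have h4 := hcomm _ h1 t ht
    calc k * r * k⁻¹ = t⁻¹ * (c' * r * c'⁻¹ * t) := by rw [h3]; group
      _ = c' * r * c'⁻¹ := by rw [h4]; group
  have hkR : k ∈ normalizer (R₁ : Set G) := mem_normalizer_of_le fun r hr => (hact r hr).2 ▸ (hact r hr).1
  have hcR : c' ∈ normalizer (R₁ : Set G) := mem_normalizer_of_le fun r hr => (hact r hr).1
  have heq : normalizerMonoidHom R₁ ⟨c', hcR⟩ = normalizerMonoidHom R₁ ⟨k, hkR⟩ :=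
    MulEquiv.ext fun r => Subtype.ext (hact r r.2).2.symm
  -- an odd power of the centraliser element with the same action
  obtain ⟨m, j, hm, hj⟩ := CyclicStandard.exists_odd_pow k
  obtain ⟨n, hn⟩ := exists_orderOf_two_pow hc2 (mem_zpowers c)
  obtain ⟨a, b, hab⟩ := CyclicStandard.exists_bezout (a := (m : ℤ)) (by exact_mod_cast hm) n
  have hcpow : c' ^ (a * m : ℤ) = c' := by
    have h1 : c' ^ ((2 : ℤ) ^ n) = 1 := by
      rw [show (2 : ℤ) ^ n = ((2 ^ n : ℕ) : ℤ) by push_cast; rfl, zpow_natCast, hc', conj_pow, ← coe_pow, ← hn,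
        pow_orderOf_eq_one, coe_one]
      group
    calc c' ^ (a * m : ℤ) = c' ^ (a * m : ℤ) * (c' ^ ((2 : ℤ) ^ n)) ^ b := by rw [h1, one_zpow, mul_one]
      _ = c' := by rw [← zpow_mul, ← zpow_add, mul_comm ((2 : ℤ) ^ n), hab, zpow_one]
  set k' := k ^ (a * m : ℤ) with hk'
  have hk'2 : IsPGroup 2 ↥(zpowers k') := by
    refine (CyclicStandard.isPGroup_zpowers (x := k ^ m) hj).to_le (zpowers_le.mpr ?_)
    rw [hk', mul_comm, zpow_mul, zpow_natCast]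
    exact zpow_mem (mem_zpowers _) _
  have hk'R : k' ∈ R₁ := by
    have hle : zpowers k' ≤ normalizer (R₁ : Set G) := zpowers_le.mpr (zpow_mem hkR _)
    have hsup : IsPGroup 2 ↥(R₁ ⊔ zpowers k') := hR₁.2.1.to_sup_of_normal_left' hk'2 hle
    have := eq_of_le_of_card_ge (le_sup_left : R₁ ≤ R₁ ⊔ zpowers k')
      (hR₁.2.2 _ (sup_le hR₁.1 (zpowers_le.mpr (zpow_mem hk _))) hsup)
    rw [this]
    exact mem_sup_right (mem_zpowers _)
  have heq' : ∀ r ∈ R₁, c' * r * c'⁻¹ = k' * r * k'⁻¹ := by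
    intro r hr
    have h1 := congrArg (fun z => ((z ^ (a * m : ℤ) : MulAut ↥R₁) ⟨r, hr⟩ : G)) heq
    simp only [← map_zpow] at h1
    have h1' : c' ^ (a * m : ℤ) * r * (c' ^ (a * m : ℤ))⁻¹ = k' * r * k'⁻¹ := h1
    rwa [hcpow] at h1'
  have hk'T : g⁻¹ * k' * g ∈ T₁ := mem_cj.mp hk'R
  obtain ⟨x, hx, hxne⟩ := hne _ hk'T
  refine hxne ?_
  have h1 := heq' _ (conj_mem_cj hx)
  calc (c : G) * x * (c : G)⁻¹ = g⁻¹ * (c' * (g * x * g⁻¹) * c'⁻¹) * g := by rw [hc']; group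
    _ = g⁻¹ * k' * g * x * (g⁻¹ * k' * g)⁻¹ := by rw [h1]; group

theorem card_le_of_normalizing {g : G} (hg : g ∉ N L) {U : Subgroup G} (hU : U ≤ K L) (hU2 : IsPGroup 2 ↥U)
    (hn : U ≤ normalizer (cj g (K L) : Set G)) : Nat.card U ≤ 2 := by
  by_cases h1 : U = ⊥
  · rw [h1, card_bot]; omega
  obtain ⟨T, hT⟩ := exists_isSyl (P L g)
  refine (C.bound hg hU hU2 h1 hn hT).trans ?_
  by_contra h
  exact C.false_of_big hg hT (by omega)

/-- An inner pair: the Sylow `2`-subgroups of the centraliser have order two. -/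
theorem card_le_two {g y : G} (hg : g ∉ N L) (hy : y ∈ P L g) (hy2 : y * y = 1) (hy1 : y ≠ 1) {v : ↥L}
    (hv : bar L hy.2 = MulAut.conj v) {U : Subgroup G} (hU : U ≤ K L) (hU2 : IsPGroup 2 ↥U) : Nat.card U ≤ 2 := by
  haveI : Fact (Nat.Prime 2) := ⟨Nat.prime_two⟩
  obtain ⟨k, hk, e⟩ := C.split hy.2 hv
  have cv : ∀ {w : G}, w ∈ K L → w * k = k * w → w * y = y * w := fun {w} hw hwk => by
    rw [e, ← mul_assoc, ← C.commute_K v.2 hw, mul_assoc, hwk, mul_assoc]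
  have key : ∀ R : Subgroup G, R ≤ K L → IsPGroup 2 ↥R → (∀ w ∈ R, w * k = k * w) → Nat.card R ≤ 2 :=
    fun R hR hR2 hc => C.card_le_of_normalizing hg hR hR2 fun w hw => C.mem_norm_cj hy.1 hy2 hy1 (cv (hR hw) (hc w hw))
  by_cases hk1 : k = 1
  · exact key U hU hU2 fun w _ => by rw [hk1, mul_one, one_mul]
  have hk2 : k * k = 1 := by
    have hvv : v * v = 1 := C.facts.conj_inj (by
      rw [map_mul, map_one, ← hv, ← bar_mul hy.2 hy.2 (mul_mem hy.2 hy.2), bar_eq_one, hy2]; exact one_mem _)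
    have h1 : (v : G) * k * (v * k) = 1 := e ▸ hy2
    rw [show (v : G) * k * (v * k) = v * (k * v) * k by group, ← C.commute_K v.2 hk,
      show (v : G) * (v * k) * k = (v : G) * v * (k * k) by group, ← coe_mul, hvv, coe_one, one_mul] at h1
    exact h1
  obtain ⟨R, hR, hkR⟩ := exists_isSyl_ge (zpowers_le.mpr hk) (isPGroup_inv hk2)
  have hkR' : k ∈ R := hkR (mem_zpowers k)
  set R' := R ⊓ centralizer ({k} : Set G) with hR'
  have hc' : Nat.card R' ≤ 2 := key R' (inf_le_left.trans hR.1) (hR.2.1.to_le inf_le_left)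
    fun w hw => mem_centralizer_singleton_iff.mp hw.2
  have hR'k : zpowers k = R' := by
    refine eq_of_le_of_card_ge (zpowers_le.mpr ⟨hkR', mem_centralizer_singleton_iff.mpr rfl⟩) ?_
    rw [Nat.card_zpowers, orderOf_eq_prime (p := 2) (by rw [pow_two, hk2]) hk1]
    exact hc'
  haveI : Nontrivial ↥R := ⟨⟨k, hkR'⟩, 1, fun h => hk1 (congrArg Subtype.val h)⟩
  haveI := hR.2.1.center_nontrivial
  obtain ⟨⟨w, hw⟩, hw1⟩ := exists_ne (1 : ↥(center ↥R))
  have hwc : ∀ r (hr : r ∈ R), r * (w : G) = w * r := fun r hr =>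
    congrArg Subtype.val (mem_center_iff.mp hw ⟨r, hr⟩)
  have hwk : (w : G) = k := by
    have : (w : G) ∈ zpowers k := hR'k ▸ ⟨w.2, mem_centralizer_singleton_iff.mpr (hwc k hkR').symm⟩
    obtain ⟨i, hi⟩ := this
    have hpow : k ^ i = 1 ∨ k ^ i = k := by
      rcases Int.even_or_odd' i with ⟨j, rfl | rfl⟩
      · left; rw [zpow_mul, zpow_two, hk2, one_zpow]
      · right; rw [zpow_add_one, zpow_mul, zpow_two, hk2, one_zpow, one_mul]
    rcases hpow with h | h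
    · exact absurd (Subtype.ext (Subtype.ext (hi.symm.trans h))) hw1
    · exact hi.symm.trans h
  have hRR' : R ≤ R' := fun r hr =>
    ⟨hr, mem_centralizer_singleton_iff.mpr (by rw [← hwk]; exact hwc r hr)⟩
  exact (hR.2.2 U hU hU2).trans ((card_le_of_le hRR').trans hc')

end Hyp

end CfsgLib.StdM12
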