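import Cfsg.Agent.Lib.TightPair
import Cfsg.Agent.Lib.CyclicStandard.Tools
import Cfsg.Prelude.Def_Local

/-!
A standard subgroup with few automorphisms: conjugates of its centraliser and their Sylow `2`-subgroups
(blueprint/S1750.md, steps 1-3).
-/

set_option autoImplicit false
set_option linter.unusedSectionVars false

namespace CfsgLib.StdM12

open Subgroup Cfsg

universe u

/-- The facts on the automorphisms of the standard subgroup used by the tight embedding argument. -/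
structure AutFacts (J : Type u) [Group J] : Prop where
  simple : IsSimpleGroup J
  conj_inj : Function.Injective (MulAut.conj : J →* MulAut J)
  two_part : ∃ S : Subgroup J, IsPGroup 2 ↥S ∧ 32 ≤ Nat.card S
  inner_index : ∀ a b : MulAut J, a ∉ (MulAut.conj : J →* MulAut J).range → b ∉ (MulAut.conj : J →* MulAut J).range →
    a * b ∈ (MulAut.conj : J →* MulAut J).range
  maximal : ∀ u v : J, u * u = 1 → u ≠ 1 → v * v = 1 → v ≠ 1 → u ≠ v →
    closure {c : J | c * u = u * c ∨ c * v = v * c} = ⊤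
  quad : ∀ a : MulAut J, a * a = 1 → a ∉ (MulAut.conj : J →* MulAut J).range →
    (∀ S : Subgroup J, IsPGroup 2 ↥S → (∀ s ∈ S, a s = s) → Nat.card S ≤ 8) ∧
    ∀ S : Subgroup J, IsPGroup 2 ↥S → (∀ s ∈ S, a s = s) →
      ∃ T : Subgroup J, S ≤ T ∧ (∀ e ∈ T, a e = e) ∧ Nat.card T = 8 ∧ (∀ e ∈ T, e * e = 1) ∧
        ∃ e₁ ∈ T, ∃ e₂ ∈ T, e₁ ≠ 1 ∧ e₂ ≠ 1 ∧ e₁ ≠ e₂ ∧ ∀ e, (e = e₁ ∨ e = e₂ ∨ e = e₁ * e₂) →
          ∃ l : J, MulAut.conj l * a * (MulAut.conj l)⁻¹ = a * MulAut.conj e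
  big : ∀ (X : Subgroup (MulAut J)) (D : Subgroup J) (v : J), IsPGroup 2 ↥X → 2 < Nat.card X →
    v * v = 1 → v ≠ 1 → v ∈ D → MulAut.conj v ∈ X →
    (∀ d ∈ D, d * d = 1 → d = 1 ∨ d = v) →
    (∀ c : J, c * v = v * c → ∀ d ∈ D, c * d * c⁻¹ ∈ D) →
    (∀ l : J, MulAut.conj l ∈ X → l ∈ D) →
    (∀ S : Subgroup J, IsPGroup 2 ↥S → S ≤ D → Nat.card S ≤ Nat.card (X.comap (MulAut.conj : J →* MulAut J))) →
    (∀ x ∈ X, ∀ d ∈ D, x d ∈ D) →
    (∀ c : J, c * v = v * c → ∀ x ∈ X, c * x c⁻¹ ∈ D) →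
    (∃ c : J, c * v = v * c ∧ IsPGroup 2 ↥(zpowers c) ∧
      (∀ x ∈ X, MulAut.conj c * x * (MulAut.conj c)⁻¹ ∈ X) ∧
      (∀ t ∈ X, ∃ x ∈ X, MulAut.conj c * x * (MulAut.conj c)⁻¹ ≠ t * x * t⁻¹) ∧
      ∃ x ∈ X, Even (orderOf (c * x c⁻¹))) ∧
    ∀ a : MulAut J, (∀ x ∈ X, a * x = x * a) → ∃ x ∈ X, ∃ l : J, a = x * MulAut.conj l

variable {G : Type u} [Group G]

/-- A conjugate of a subgroup. -/
def cj (g : G) (U : Subgroup G) : Subgroup G := U.map (MulAut.conj g).toMonoidHom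

theorem mem_cj {g x : G} {U : Subgroup G} : x ∈ cj g U ↔ g⁻¹ * x * g ∈ U := by
  constructor
  · rintro ⟨y, hy, rfl⟩
    show g⁻¹ * (g * y * g⁻¹) * g ∈ U
    rwa [show g⁻¹ * (g * y * g⁻¹) * g = y by group]
  · exact fun h => ⟨_, h, show g * (g⁻¹ * x * g) * g⁻¹ = x by group⟩

theorem conj_mem_cj {g x : G} {U : Subgroup G} (h : x ∈ U) : g * x * g⁻¹ ∈ cj g U := ⟨x, h, rfl⟩

theorem cj_cj_inv {g : G} {U : Subgroup G} : cj g (cj g⁻¹ U) = U := by
  ext x
  rw [mem_cj, mem_cj, inv_inv, show g * (g⁻¹ * x * g) * g⁻¹ = x by group]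

theorem card_cj {g : G} {U : Subgroup G} : Nat.card (cj g U) = Nat.card U :=
  Subgroup.card_map_of_injective (MulAut.conj g).injective

theorem cj_mono {g : G} {U V : Subgroup G} (h : U ≤ V) : cj g U ≤ cj g V := Subgroup.map_mono h

theorem cj_le {g : G} {U V : Subgroup G} (h : ∀ x ∈ U, g * x * g⁻¹ ∈ V) : cj g U ≤ V := by
  rintro _ ⟨x, hx, rfl⟩; exact h x hx

theorem isPGroup_cj {g : G} {U : Subgroup G} (h : IsPGroup 2 ↥U) : IsPGroup 2 ↥(cj g U) := h.map _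

/-- A `2`-subgroup of largest order. -/
def IsSyl (P T : Subgroup G) : Prop :=
  T ≤ P ∧ IsPGroup 2 ↥T ∧ ∀ U : Subgroup G, U ≤ P → IsPGroup 2 ↥U → Nat.card U ≤ Nat.card T

theorem isSyl_sylow [Finite G] {P : Subgroup G} (R : Sylow 2 ↥P) : IsSyl P ((R : Subgroup ↥P).map P.subtype) := by
  haveI : Fact (Nat.Prime 2) := ⟨Nat.prime_two⟩
  refine ⟨map_subtype_le _, R.isPGroup'.map _, fun U hU hU2 => ?_⟩
  obtain ⟨S, hS⟩ := (hU2.of_equiv (subgroupOfEquivOfLe hU).symm).exists_le_sylow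
  rw [card_map_of_injective P.subtype_injective, ← Nat.card_congr (subgroupOfEquivOfLe hU).toEquiv]
  refine (Subgroup.card_le_of_le hS).trans (le_of_eq ?_)
  rw [Sylow.card_eq_multiplicity S, Sylow.card_eq_multiplicity R]

theorem exists_isSyl_ge [Finite G] {P U : Subgroup G} (hU : U ≤ P) (h2 : IsPGroup 2 ↥U) :
    ∃ T, IsSyl P T ∧ U ≤ T := by
  obtain ⟨S, hS⟩ := (h2.of_equiv (subgroupOfEquivOfLe hU).symm).exists_le_sylow
  exact ⟨_, isSyl_sylow S, fun x hx => ⟨⟨x, hU hx⟩, hS (x := ⟨x, hU hx⟩) hx, rfl⟩⟩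

theorem exists_isSyl [Finite G] (P : Subgroup G) : ∃ T, IsSyl P T :=
  let ⟨T, hT, _⟩ := exists_isSyl_ge (bot_le : ⊥ ≤ P) IsPGroup.of_bot
  ⟨T, hT⟩

theorem IsSyl.of_card {P T U : Subgroup G} (hT : IsSyl P T) (hU : U ≤ P) (h2 : IsPGroup 2 ↥U)
    (hc : Nat.card T ≤ Nat.card U) : IsSyl P U :=
  ⟨hU, h2, fun V hV hV2 => (hT.2.2 V hV hV2).trans hc⟩

theorem IsSyl.card_eq {P T U : Subgroup G} (hT : IsSyl P T) (hU : IsSyl P U) : Nat.card T = Nat.card U :=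
  le_antisymm (hU.2.2 T hT.1 hT.2.1) (hT.2.2 U hU.1 hU.2.1)

/-- Powers of two. -/
theorem exists_orderOf_two_pow {U : Subgroup G} (hU : IsPGroup 2 ↥U) {x : G} (hx : x ∈ U) :
    ∃ k, orderOf x = 2 ^ k := by
  haveI : Fact (Nat.Prime 2) := ⟨Nat.prime_two⟩
  obtain ⟨k, hk⟩ := IsPGroup.iff_orderOf.mp hU ⟨x, hx⟩
  exact ⟨k, by rw [← hk, orderOf_mk]⟩

theorem ord2 {x : G} (h : x * x = 1) (h1 : x ≠ 1) : ∃ k, orderOf x = 2 ^ k :=
  ⟨1, (orderOf_eq_prime (p := 2) (by rw [pow_two, h]) h1).trans (pow_one 2).symm⟩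

theorem isPGroup_inv {x : G} (h : x * x = 1) : IsPGroup 2 ↥(zpowers x) := by
  rintro ⟨y, m, rfl⟩
  refine ⟨1, Subtype.ext ?_⟩
  show (x ^ m) ^ (2 ^ 1) = 1
  rw [← zpow_natCast, ← zpow_mul, mul_comm, zpow_mul, zpow_natCast, pow_one, pow_two, h, one_zpow]

theorem exists_invol {U : Subgroup G} [Finite G] (hU : IsPGroup 2 ↥U) (h : U ≠ ⊥) :
    ∃ x ∈ U, x * x = 1 ∧ x ≠ 1 := by
  haveI : Fact (Nat.Prime 2) := ⟨Nat.prime_two⟩
  haveI : Nontrivial ↥U := (nontrivial_iff_ne_bot U).mpr h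
  obtain ⟨n, hc⟩ := IsPGroup.iff_card.mp hU
  have hn : n ≠ 0 := fun e => by
    rw [e, pow_zero] at hc; exact absurd hc (Finite.one_lt_card.ne')
  obtain ⟨x, hx⟩ := exists_prime_orderOf_dvd_card' (G := ↥U) 2 (hc ▸ dvd_pow_self 2 hn)
  refine ⟨x, x.2, ?_, fun e => ?_⟩
  · have := pow_orderOf_eq_one x
    rw [hx, pow_two] at this
    exact congrArg Subtype.val this
  · rw [orderOf_eq_one_iff.mpr (Subtype.ext e)] at hx
    omega

/-- The hypotheses on the standard subgroup. -/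
structure Hyp (L : Subgroup G) : Prop where
  std : IsStandardSubgroup L
  facts : AutFacts ↥L

variable {L : Subgroup G}

/-- The centraliser of the standard subgroup. -/
abbrev K (L : Subgroup G) : Subgroup G := centralizer (L : Set G)

/-- The normaliser of the standard subgroup. -/
abbrev N (L : Subgroup G) : Subgroup G := normalizer (L : Set G)

/-- The intersection of a conjugate centraliser with the normaliser. -/
abbrev P (L : Subgroup G) (g : G) : Subgroup G := cj g (K L) ⊓ N L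

/-- The automorphism induced on the standard subgroup. -/
def bar (L : Subgroup G) {x : G} (hx : x ∈ N L) : MulAut ↥L := normalizerMonoidHom L ⟨x, hx⟩

theorem bar_apply {x : G} (hx : x ∈ N L) (l : ↥L) : ((bar L hx l : ↥L) : G) = x * l * x⁻¹ := rfl

theorem bar_mul {x y : G} (hx : x ∈ N L) (hy : y ∈ N L) (h : x * y ∈ N L) :
    bar L h = bar L hx * bar L hy := map_mul (normalizerMonoidHom L) ⟨x, hx⟩ ⟨y, hy⟩

theorem bar_inv {x : G} (hx : x ∈ N L) (h : x⁻¹ ∈ N L) : bar L h = (bar L hx)⁻¹ :=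
  map_inv (normalizerMonoidHom L) ⟨x, hx⟩

theorem bar_congr {x y : G} (e : x = y) (hx : x ∈ N L) (hy : y ∈ N L) : bar L hx = bar L hy := by subst e; rfl

theorem bar_eq_one {x : G} (hx : x ∈ N L) : bar L hx = 1 ↔ x ∈ K L := by
  rw [bar, ← MonoidHom.mem_ker, normalizerMonoidHom_ker, mem_subgroupOf]

theorem bar_of_mem (l : ↥L) (h : (l : G) ∈ N L) : bar L h = MulAut.conj l :=
  MulEquiv.ext fun m => Subtype.ext (by rw [bar_apply, MulAut.conj_apply, coe_mul, coe_mul, coe_inv])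

theorem L_le_N : L ≤ N L := le_normalizer

theorem K_le_N : K L ≤ N L := centralizer_le_normalizer _

/-- The images of a subgroup of the normaliser. -/
def barMap (L U : Subgroup G) : Subgroup (MulAut ↥L) := (U.subgroupOf (N L)).map (normalizerMonoidHom L)

theorem mem_barMap {U : Subgroup G} {a : MulAut ↥L} :
    a ∈ barMap L U ↔ ∃ (x : G) (h : x ∈ N L), x ∈ U ∧ bar L h = a := by
  constructor
  · rintro ⟨⟨x, hx⟩, hxU, rfl⟩; exact ⟨x, hx, hxU, rfl⟩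
  · rintro ⟨x, hx, hxU, rfl⟩; exact ⟨⟨x, hx⟩, hxU, rfl⟩

namespace Hyp

variable [Finite G] (C : Hyp L)
include C

theorem normEq : N L = normalizer (K L : Set G) := C.std.2.2.2

theorem conj_K {c x : G} (hc : c ∈ N L) : c * x * c⁻¹ ∈ K L ↔ x ∈ K L := by
  rw [C.normEq] at hc
  exact (mem_normalizer_iff.mp hc x).symm

theorem ti2 : TightPair.TI2 (K L) := by
  intro s hs x hx hx' hk
  obtain ⟨k, hk⟩ := hk
  have h := C.std.2.1.2 s hs
  have hxI : x ∈ K L ⊓ (K L).map (MulAut.conj s).toMonoidHom :=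
    mem_inf.mpr ⟨hx, s⁻¹ * x * s, hx', show s * (s⁻¹ * x * s) * s⁻¹ = x by group⟩
  refine orderOf_eq_one_iff.mp (Nat.eq_one_of_dvd_coprimes ?_ (Subgroup.orderOf_dvd_natCard _ hxI) hk.dvd)
  exact (Nat.coprime_two_right.mpr h).pow_right k

/-- A two-element of the centraliser and of another conjugate is trivial. -/
theorem disjoint {g : G} (hg : g ∉ N L) {x : G} (hx : x ∈ K L) (hx' : x ∈ cj g (K L))
    (hk : ∃ k, orderOf x = 2 ^ k) : x = 1 :=
  C.ti2 g (C.normEq ▸ hg) x hx (mem_cj.mp hx') hk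

theorem cent_invol {x c : G} (hx : x ∈ K L) (hx2 : x * x = 1) (hx1 : x ≠ 1) (h : c * x = x * c) : c ∈ N L := by
  by_contra hc
  have e : c⁻¹ * x * c = x := by rw [mul_assoc, ← h, inv_mul_cancel_left]
  exact hx1 (C.ti2 c (C.normEq ▸ hc) x hx (e.symm ▸ hx) (ord2 hx2 hx1))

theorem norm_of_cent {g x c : G} (hx : x ∈ cj g (K L)) (hx2 : x * x = 1) (hx1 : x ≠ 1) (h : c * x = x * c)
    (q : G) : c * q * c⁻¹ ∈ cj g (K L) ↔ q ∈ cj g (K L) := by
  have hy : g⁻¹ * c * g ∈ N L := by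
    refine C.cent_invol (mem_cj.mp hx) ?_ ?_ ?_
    · rw [show g⁻¹ * x * g * (g⁻¹ * x * g) = g⁻¹ * (x * x) * g by group, hx2]; group
    · intro e; exact hx1 (by rw [show x = g * (g⁻¹ * x * g) * g⁻¹ by group, e]; group)
    · rw [show g⁻¹ * c * g * (g⁻¹ * x * g) = g⁻¹ * (c * x) * g by group, h]; group
  rw [mem_cj, mem_cj, show g⁻¹ * (c * q * c⁻¹) * g = g⁻¹ * c * g * (g⁻¹ * q * g) * (g⁻¹ * c * g)⁻¹ by group]
  exact C.conj_K hy

theorem mem_norm_cj {g x c : G} (hx : x ∈ cj g (K L)) (hx2 : x * x = 1) (hx1 : x ≠ 1) (h : c * x = x * c) :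
    c ∈ normalizer (cj g (K L) : Set G) :=
  mem_normalizer_iff.mpr fun q => (C.norm_of_cent hx hx2 hx1 h q).symm

theorem norm_P {g c : G} (hcN : c ∈ N L) (hc : c ∈ normalizer (cj g (K L) : Set G)) :
    c ∈ normalizer (P L g : Set G) := by
  rw [mem_normalizer_iff] at hc ⊢
  intro q
  show q ∈ P L g ↔ c * q * c⁻¹ ∈ P L g
  rw [mem_inf, mem_inf, ← hc q]
  refine and_congr_right fun _ => ⟨fun h => mul_mem (mul_mem hcN h) (inv_mem hcN), fun h => ?_⟩
  simpa [mul_assoc] using mul_mem (mul_mem (inv_mem hcN) h) hcN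

theorem inter_cen {l : G} (hl : l ∈ L) (hlK : l ∈ K L) : l = 1 := by
  have e : MulAut.conj (⟨l, hl⟩ : ↥L) = MulAut.conj (1 : ↥L) := by
    rw [map_one, ← bar_of_mem ⟨l, hl⟩ (L_le_N hl), bar_eq_one]; exact hlK
  exact congrArg Subtype.val (C.facts.conj_inj e)

/-- An element acting as an element of the subgroup. -/
theorem split {x : G} (hx : x ∈ N L) {l : ↥L} (h : bar L hx = MulAut.conj l) : ∃ k ∈ K L, x = (l : G) * k := by
  have hl : ((l : G))⁻¹ ∈ N L := inv_mem (L_le_N l.2)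
  refine ⟨(l : G)⁻¹ * x, (bar_eq_one (mul_mem hl hx)).mp ?_, by group⟩
  rw [bar_mul hl hx, bar_inv (L_le_N l.2) hl, bar_of_mem l (L_le_N l.2), h, inv_mul_cancel]

theorem commute_K {l k : G} (hl : l ∈ L) (hk : k ∈ K L) : l * k = k * l := mem_centralizer_iff.mp hk l hl

/-- Sylow subgroups of the intersection, normalised by a given group, centralise it. -/
theorem commute_syl {g : G} (hg : g ∉ N L) {R₁ T : Subgroup G} (hR : R₁ ≤ K L) (hT : T ≤ P L g)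
    (hT2 : IsPGroup 2 ↥T) (hn : ∀ r ∈ R₁, ∀ t ∈ T, r * t * r⁻¹ ∈ T) {r t : G} (hr : r ∈ R₁) (ht : t ∈ T) :
    r * t = t * r := by
  have h1 : r * t * r⁻¹ * t⁻¹ ∈ T := mul_mem (hn r hr t ht) (inv_mem ht)
  have h2 : r * t * r⁻¹ * t⁻¹ ∈ K L := by
    rw [show r * t * r⁻¹ * t⁻¹ = r * (t * r⁻¹ * t⁻¹) by group]
    exact mul_mem (hR hr) ((C.conj_K (hT ht).2).mpr (inv_mem (hR hr)))
  have h3 := C.disjoint hg h2 (hT h1).1 (exists_orderOf_two_pow hT2 h1)
  rwa [mul_inv_eq_one, mul_inv_eq_iff_eq_mul] at h3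

theorem exists_commuting {g : G} (hg : g ∉ N L) {R₁ : Subgroup G} (hR : R₁ ≤ K L) (hR2 : IsPGroup 2 ↥R₁)
    (hn : R₁ ≤ normalizer (cj g (K L) : Set G)) :
    ∃ T, IsSyl (P L g) T ∧ ∀ r ∈ R₁, ∀ t ∈ T, r * t = t * r := by
  obtain ⟨S, -, hS⟩ := CyclicStandard.exists_invariant_sylow (N := normalizer (P L g : Set G)) le_normalizer le_rfl
    hR2 (fun r hr => C.norm_P (K_le_N (hR hr)) (hn hr))
  exact ⟨_, isSyl_sylow S, fun r hr t ht => C.commute_syl hg hR (isSyl_sylow S).1 (isSyl_sylow S).2.1 hS hr ht⟩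

/-- A two-subgroup of the centraliser normalising a conjugate is no larger than the Sylow intersection. -/
theorem bound {g : G} (hg : g ∉ N L) {R₁ T : Subgroup G} (hR : R₁ ≤ K L) (hR2 : IsPGroup 2 ↥R₁) (hR1 : R₁ ≠ ⊥)
    (hn : R₁ ≤ normalizer (cj g (K L) : Set G)) (hT : IsSyl (P L g) T) : Nat.card R₁ ≤ Nat.card T := by
  obtain ⟨T', hT', hc⟩ := C.exists_commuting hg hR hR2 hn
  set Q := cj g (K L) with hQ
  have hRT : R₁ ≤ normalizer (T' : Set G) := by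
    refine le_trans ?_ (centralizer_le_normalizer _)
    exact fun r hr => mem_centralizer_iff.mpr fun t ht => (hc r hr t ht).symm
  have hTn : T' ≤ normalizer (Q : Set G) := fun t ht => le_normalizer (hT'.1 ht).1
  obtain ⟨S, hS1, hS2⟩ := CyclicStandard.exists_invariant_sylow (N := normalizer (Q : Set G)) le_normalizer le_rfl
    (hR2.to_sup_of_normal_right' hT'.2.1 hRT) (sup_le hn hTn)
  set U := (S : Subgroup ↥Q).map Q.subtype with hU
  obtain ⟨hUQ, hU2, hUmax⟩ := isSyl_sylow S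
  have hTU : T' ≤ U := fun t ht => hS1 t (mem_sup_right ht) (hT'.1 ht).1
  have hRU : R₁ ≤ normalizer (U : Set G) := by
    intro r hr
    rw [mem_normalizer_iff]
    refine fun u => ⟨hS2 r (mem_sup_left hr) u, fun h => ?_⟩
    simpa [mul_assoc] using hS2 r⁻¹ (inv_mem (mem_sup_left hr)) _ h
  obtain ⟨r₀, hr₀, hr₀2, hr₀1⟩ := exists_invol hR2 hR1
  have inP : ∀ u ∈ U, (∀ r ∈ R₁, u * r = r * u) → u ∈ P L g := fun u hu h =>
    ⟨hUQ hu, C.cent_invol (hR hr₀) hr₀2 hr₀1 (h r₀ hr₀)⟩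
  have hbot : R₁ ⊓ Q = ⊥ := by
    rw [Subgroup.eq_bot_iff_forall]
    exact fun x ⟨h1, h2⟩ => C.disjoint hg (hR h1) h2 (exists_orderOf_two_pow hR2 h1)
  have comm : ∀ u ∈ U, u ∈ normalizer (R₁ : Set G) → ∀ r ∈ R₁, u * r = r * u := fun u hu hun r hr =>
    (TightPair.commute_of hbot hn (R := U ⊓ normalizer (R₁ : Set G)) (inf_le_left.trans hUQ) inf_le_right hr
      ⟨hu, hun⟩).symm
  rcases TightPair.full_or_embed (Q := Q) C.ti2 (fun x h1 h2 h3 => C.disjoint hg h2 h1 h3) hR2 hR1 hR hn hU2 hUQ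
    hRU with hfull | ⟨f, hf⟩
  · calc Nat.card R₁ = Nat.card (cj g R₁) := card_cj.symm
      _ ≤ Nat.card U := hUmax _ (cj_mono hR) (isPGroup_cj hR2)
      _ ≤ Nat.card T := hT.2.2 U (fun u hu => inP u hu (comm u hu (hfull hu))) hU2
  · refine (Nat.card_le_card_of_injective f hf).trans (hT.2.2 _ ?_ (hU2.to_le inf_le_left))
    exact fun u hu => inP u hu.1 (comm u hu.1 hu.2)

/-- The intersection is not normalised by the whole standard subgroup. -/
theorem not_normalized {g : G} (hg : g ∉ N L) {p : G} (hp : p ∈ P L g) (hp2 : p * p = 1) (hp1 : p ≠ 1)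
    (hL : L ≤ normalizer (P L g : Set G)) : False := by
  haveI := C.facts.simple
  have hn : ((P L g).subgroupOf L).Normal := ⟨fun d hd l => by
    rw [mem_subgroupOf] at hd ⊢
    exact (mem_normalizer_iff.mp (hL l.2) _).mp hd⟩
  rcases hn.eq_bot_or_eq_top with h | h
  · have hc : p ∈ K L := by
      refine mem_centralizer_iff.mpr fun l hl => ?_
      have h1 : l * p * l⁻¹ * p⁻¹ ∈ P L g := mul_mem ((mem_normalizer_iff.mp (hL hl) p).mp hp) (inv_mem hp)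
      have h2 : l * p * l⁻¹ * p⁻¹ ∈ L := by
        rw [show l * p * l⁻¹ * p⁻¹ = l * (p * l⁻¹ * p⁻¹) by group]
        exact mul_mem hl ((mem_normalizer_iff.mp hp.2 _).mp (inv_mem hl))
      have h3 : (⟨_, h2⟩ : ↥L) ∈ (P L g).subgroupOf L := h1
      rw [h, Subgroup.mem_bot] at h3
      have h4 := congrArg Subtype.val h3
      rw [OneMemClass.coe_one, mul_inv_eq_one, mul_inv_eq_iff_eq_mul] at h4
      exact h4
    exact hp1 (C.disjoint hg hc hp.1 (ord2 hp2 hp1))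
  · rw [subgroupOf_eq_top] at h
    have hne : L.map (MulAut.conj g⁻¹).toMonoidHom ≠ L := by
      intro e
      refine hg (inv_mem_iff.mp (mem_normalizer_iff.mpr fun l => ⟨fun hl => ?_, fun hl => ?_⟩))
      · rw [← e]; exact ⟨l, hl, rfl⟩
      · rw [← e] at hl
        obtain ⟨m, hm, e'⟩ := hl
        have : m = l := (MulAut.conj g⁻¹).injective e'
        rwa [← this]
    refine C.std.2.2.1 g⁻¹ hne (commutator_eq_bot_iff_le_centralizer.mpr ?_)
    intro l hl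
    rw [mem_centralizer_iff]
    rintro _ ⟨m, hm, rfl⟩
    have hmK : g⁻¹ * m * g ∈ K L := mem_cj.mp (h hm).1
    show g⁻¹ * m * g⁻¹⁻¹ * l = l * (g⁻¹ * m * g⁻¹⁻¹)
    rw [inv_inv]
    exact (C.commute_K hl hmK).symm

end Hyp

end CfsgLib.StdM12
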